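import Mathlib

/-!
# Divisibility conditions that exclude degrees just below the bounds
-/

set_option autoImplicit false

namespace CfsgLib.OrthDeg.Arith

theorem dvd_mul_of_gcd {k m n a b : ℕ} (h : k ∣ m * n) (ha : ∀ d, d ∣ k → d ∣ m → d ∣ a)
    (hb : ∀ d, d ∣ k → d ∣ n → d ∣ b) : k ∣ a * b := by
  obtain ⟨k₁, k₂, h₁, h₂, rfl⟩ := Nat.dvd_mul.1 h
  exact Nat.mul_dvd_mul (ha _ (dvd_mul_right _ _) h₁) (hb _ (dvd_mul_left _ _) h₂)

theorem dvd_of_coprime_pow {q k x : ℕ} (s : ℕ) (hc : ∀ d, d ∣ k → d ∣ q → d = 1) (h : k ∣ x * q ^ s) :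
    k ∣ x :=
  (Nat.Coprime.pow_right s (Nat.coprime_of_dvd' fun p _ h1 h2 => (hc p h1 h2).dvd)).dvd_of_dvd_mul_right h

/-- The tall frames of plus type. -/
theorem no_dvd_plus {q m s : ℕ} (hq : 2 ≤ q) (hm : 2 ≤ m) :
    ¬ q ^ (m + 2) + q ^ 2 + q - 1 ∣ (q ^ (m + 2) - 1) * (q ^ (m + 1) + 1) * (q ^ m + 1) * q ^ s := by
  intro h
  set B := q ^ (m + 2) + q ^ 2 + q - 1 with hBdef
  have hpos : 1 ≤ q ^ (m + 2) := Nat.one_le_pow _ _ (by omega)
  have hB1 : B + 1 = q ^ (m + 2) + q ^ 2 + q := by omega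
  have hcop : ∀ d, d ∣ B → d ∣ q → d = 1 := fun d h1 h2 => by
    have h3 : d ∣ B + 1 := by
      rw [hB1]
      exact dvd_add (dvd_add (dvd_pow h2 (by omega)) (dvd_pow h2 two_ne_zero)) h2
    exact Nat.dvd_one.1 ((Nat.dvd_add_right h1).1 h3)
  have h1 := dvd_of_coprime_pow s hcop h
  have hz : B ∣ ((q + 1) * (q ^ 2 - 1)) * (q - 1) := by
    obtain ⟨k₁, k₃, e1, e3, hk⟩ := Nat.dvd_mul.1 h1
    have d1 : k₁ ∣ B := hk ▸ dvd_mul_right _ _
    have d3 : k₃ ∣ B := hk ▸ dvd_mul_left _ _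
    rw [← hk]
    refine Nat.mul_dvd_mul ?_ ?_
    · refine dvd_mul_of_gcd e1 (fun d h2 h3 => ?_) fun d h2 h3 => ?_
      · have h4 : B = (q ^ (m + 2) - 1) + q * (q + 1) := by
          have : q * (q + 1) = q ^ 2 + q := by ring
          omega
        have h5 : d ∣ q * (q + 1) := by
          refine (Nat.dvd_add_right h3).1 ?_
          rw [← h4]; exact h2.trans d1
        exact (Nat.coprime_of_dvd' fun p _ a b => (hcop p (a.trans (h2.trans d1)) b).dvd).dvd_of_dvd_mul_left h5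
      · have h4 : B = q * (q ^ (m + 1) + 1) + (q ^ 2 - 1) := by
          have e : q * (q ^ (m + 1) + 1) = q ^ (m + 2) + q := by ring
          have : 1 ≤ q ^ 2 := Nat.one_le_pow _ _ (by omega)
          omega
        refine (Nat.dvd_add_right (dvd_mul_of_dvd_right h3 q)).1 ?_
        rw [← h4]; exact h2.trans d1
    · have h4 : B = q ^ 2 * (q ^ m + 1) + (q - 1) := by
        have e : q ^ 2 * (q ^ m + 1) = q ^ (m + 2) + q ^ 2 := by ring
        omega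
      refine (Nat.dvd_add_right (dvd_mul_of_dvd_right e3 (q ^ 2))).1 ?_
      rw [← h4]; exact d3
  have hle : B ≤ ((q + 1) * (q ^ 2 - 1)) * (q - 1) := by
    refine Nat.le_of_dvd ?_ hz
    have : 4 ≤ q ^ 2 := by nlinarith
    have : 0 < q ^ 2 - 1 := by omega
    have : 0 < q - 1 := by omega
    positivity
  have h4 : q ^ 4 ≤ q ^ (m + 2) := Nat.pow_le_pow_right (by omega) (by omega)
  obtain ⟨r, rfl⟩ : ∃ r, q = r + 1 := ⟨q - 1, by omega⟩
  rw [show (r + 1) ^ 2 - 1 = r ^ 2 + 2 * r by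
    rw [show (r + 1) ^ 2 = r ^ 2 + 2 * r + 1 by ring, Nat.add_sub_cancel], Nat.add_sub_cancel] at hle
  nlinarith

/-- The smallest frames of plus type. -/
theorem no_dvd_plus_three {q j : ℕ} (hq : 4 ≤ q) (hq' : ∃ p f, p.Prime ∧ q = p ^ f) (hj : 1 ≤ j) (hj' : j ≤ 3) :
    ¬ q ^ 3 + q ^ 2 + q - j ∣ (q ^ 4 - 1) * (q ^ 2 + q + 1) * q ^ 3 := by
  intro h
  set D := q ^ 3 + q ^ 2 + q - j with hDdef
  have hq3 : 64 ≤ q ^ 3 := le_trans (by norm_num) (Nat.pow_le_pow_left hq 3)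
  have hD : D + j = q * (q ^ 2 + q + 1) := by
    have : q * (q ^ 2 + q + 1) = q ^ 3 + q ^ 2 + q := by ring
    omega
  have hp : ∀ d, d ∣ D → d ∣ q ^ 3 → d ∣ j := by
    intro d h1 h2
    obtain ⟨p, f, hp, rfl⟩ := hq'
    rw [← pow_mul] at h2
    obtain ⟨i, -, rfl⟩ := (Nat.dvd_prime_pow hp).1 h2
    rcases i with _ | _ | i
    · simp
    · refine (Nat.dvd_add_right h1).1 ?_
      rw [hD, zero_add, pow_one]
      exact dvd_mul_of_dvd_left (dvd_pow_self p (by rintro rfl; simp at hq)) _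
    · exfalso
      have hd : p ∣ D := (dvd_pow_self p (by omega)).trans h1
      have hpj : p ∣ j := (Nat.dvd_add_right hd).1 (by
        rw [hD]; exact dvd_mul_of_dvd_left (dvd_pow_self p (by rintro rfl; simp at hq)) _)
      have hple : p ≤ 3 := (Nat.le_of_dvd (by omega) hpj).trans hj'
      have hf : 2 ≤ f := by
        by_contra hf
        interval_cases f <;> simp at hq <;> omega
      have h3 : p ^ 2 ∣ j := (Nat.dvd_add_right ((pow_dvd_pow p (by omega)).trans h1)).1 (by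
        rw [hD]; exact dvd_mul_of_dvd_left (pow_dvd_pow p hf) _)
      have := Nat.le_of_dvd (by omega) h3
      nlinarith [hp.two_le]
  have hA : ∀ d, d ∣ D → d ∣ q ^ 4 - 1 → d ∣ (q - 1) * (j + 1) := by
    intro d h1 h2
    have e : q ^ 4 - 1 = (q - 1) * D + (q - 1) * (j + 1) := by
      obtain ⟨r, rfl⟩ : ∃ r, q = r + 1 := ⟨q - 1, by omega⟩
      rw [Nat.add_sub_cancel, ← mul_add, ← add_assoc, hD]
      refine Nat.sub_eq_of_eq_add ?_
      ring
    exact (Nat.dvd_add_right (dvd_mul_of_dvd_right h1 _)).1 (e ▸ h2)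
  have hB : ∀ d, d ∣ D → d ∣ q ^ 2 + q + 1 → d ∣ j := fun d h1 h2 =>
    (Nat.dvd_add_right h1).1 (hD ▸ dvd_mul_of_dvd_right h2 _)
  obtain ⟨k₁, k₂, e1, e2, hk⟩ := Nat.dvd_mul.1 h
  have hfin : D ∣ (q - 1) * (j + 1) * j * j := by
    rw [← hk]
    exact Nat.mul_dvd_mul (dvd_mul_of_gcd e1 (fun d a b => hA d (a.trans (hk ▸ dvd_mul_right _ _)) b)
      fun d a b => hB d (a.trans (hk ▸ dvd_mul_right _ _)) b) (hp _ (hk ▸ dvd_mul_left _ _) e2)
  have hle := Nat.le_of_dvd (by have : 0 < q - 1 := by omega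
                                positivity) hfin
  by_cases h5 : 5 ≤ q
  · have h1 : (q - 1) * (j + 1) * j * j ≤ (q - 1) * 4 * 3 * 3 := by gcongr; omega
    have h2 : 25 ≤ q ^ 2 := le_trans (by norm_num) (Nat.pow_le_pow_left h5 2)
    have h3 : 5 * q ^ 2 ≤ q ^ 3 := by nlinarith
    have h4 : 5 * q ≤ q ^ 2 := by nlinarith
    have h6 : q * (q ^ 2 + q + 1) = q ^ 3 + q ^ 2 + q := by ring
    have h7 : 36 * q < q ^ 3 + q ^ 2 + q + 33 := by nlinarith
    omega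
  · have : q = 4 := by omega
    subst this
    interval_cases j <;> norm_num [hDdef] at hfin

/-- Frames of minus type. -/
theorem no_dvd_minus {q m s : ℕ} (hq : 2 ≤ q) (hm : 2 ≤ m) :
    ¬ q ^ (m + 2) + 1 - (q ^ 2 + q) ∣ (q ^ (m + 2) + 1) * (q ^ (m + 1) - 1) * (q ^ m - 1) * q ^ s := by
  intro h
  set B := q ^ (m + 2) + 1 - (q ^ 2 + q) with hBdef
  have h4 : q ^ 4 ≤ q ^ (m + 2) := Nat.pow_le_pow_right (by omega) (by omega)
  have hq2 : q ^ 2 + q ≤ q ^ 4 := by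
    have e : q ^ 4 = q ^ 2 * q ^ 2 := by ring
    have h5 : 4 ≤ q ^ 2 := by nlinarith
    have h6 : 4 * q ^ 2 ≤ q ^ 2 * q ^ 2 := Nat.mul_le_mul_right _ h5
    rw [e]; nlinarith
  have hB1 : B + (q ^ 2 + q) = q ^ (m + 2) + 1 := by omega
  have hcop : ∀ d, d ∣ B → d ∣ q → d = 1 := fun d h1 h2 => by
    have h3 : d ∣ B + (q ^ 2 + q) := dvd_add h1 (dvd_add (dvd_pow h2 two_ne_zero) h2)
    rw [hB1] at h3
    exact Nat.dvd_one.1 ((Nat.dvd_add_right (dvd_pow h2 (by omega))).1 h3)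
  have h1 := dvd_of_coprime_pow s hcop h
  have hz : B ∣ ((q + 1) * (q ^ 2 - 1)) * (q - 1) := by
    obtain ⟨k₁, k₃, e1, e3, hk⟩ := Nat.dvd_mul.1 h1
    have d1 : k₁ ∣ B := hk ▸ dvd_mul_right _ _
    have d3 : k₃ ∣ B := hk ▸ dvd_mul_left _ _
    rw [← hk]
    have hm1 : 1 ≤ q ^ (m + 1) := Nat.one_le_pow _ _ (by omega)
    have hm0 : 1 ≤ q ^ m := Nat.one_le_pow _ _ (by omega)
    have hq21 : 1 ≤ q ^ 2 := Nat.one_le_pow _ _ (by omega)
    refine Nat.mul_dvd_mul ?_ ?_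
    · refine dvd_mul_of_gcd e1 (fun d h2 h3 => ?_) fun d h2 h3 => ?_
      · have h5 : d ∣ q * (q + 1) := by
          rw [show q * (q + 1) = q ^ 2 + q by ring]
          exact (Nat.dvd_add_right (h2.trans d1)).1 (hB1 ▸ h3)
        exact (Nat.coprime_of_dvd' fun p _ a b => (hcop p (a.trans (h2.trans d1)) b).dvd).dvd_of_dvd_mul_left h5
      · have h6 : q * (q ^ (m + 1) - 1) = B + (q ^ 2 - 1) := by
          rw [Nat.mul_sub, mul_one, show q * q ^ (m + 1) = q ^ (m + 2) by ring]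
          omega
        exact (Nat.dvd_add_right (h2.trans d1)).1 (h6 ▸ dvd_mul_of_dvd_right h3 q)
    · have h6 : q ^ 2 * (q ^ m - 1) = B + (q - 1) := by
        rw [Nat.mul_sub, mul_one, show q ^ 2 * q ^ m = q ^ (m + 2) by ring]
        omega
      exact (Nat.dvd_add_right d3).1 (h6 ▸ dvd_mul_of_dvd_right e3 _)
  have hpos : 0 < ((q + 1) * (q ^ 2 - 1)) * (q - 1) := by
    have : 4 ≤ q ^ 2 := by nlinarith
    have : 0 < q ^ 2 - 1 := by omega
    have : 0 < q - 1 := by omega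
    positivity
  have hle := Nat.le_of_dvd hpos hz
  obtain ⟨r, rfl⟩ : ∃ r, q = r + 1 := ⟨q - 1, by omega⟩
  rw [show (r + 1) ^ 2 - 1 = r ^ 2 + 2 * r by
    rw [show (r + 1) ^ 2 = r ^ 2 + 2 * r + 1 by ring, Nat.add_sub_cancel], Nat.add_sub_cancel] at hle
  nlinarith

end CfsgLib.OrthDeg.Arith
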