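import Cfsg.Agent.OrthDeg.Divide
import Cfsg.Agent.RepBounds.SL.Bound

/-!
# Cardinalities of frames, non-trivial weights and the representation on the fixed space
-/

set_option autoImplicit false
set_option linter.unusedSectionVars false

namespace CfsgLib.OrthDeg

open Matrix Module CfsgLib.Forms CfsgLib.Spinor CfsgLib.Forms4 CfsgLib.RepBounds

variable {F : Type*} [Field F] [Fintype F] [DecidableEq F] {ι : Type} [Fintype ι] [DecidableEq ι]
  {Q : QuadraticForm F (ι → F)}

noncomputable local instance subFintypeBasic (S : Submodule F (ι → F)) : Fintype S := Fintype.ofFinite S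

/-- The part perpendicular to all pairs. -/
def Fr.core : {k : ℕ} → Fr Q k → Submodule F (ι → F)
  | 0, R => R.top
  | _ + 1, R => Fr.core R.tail

theorem card_top_eq : ∀ {k : ℕ} (R : Fr Q k),
    Fintype.card R.top = Fintype.card F ^ (2 * k) * Fintype.card R.core
  | 0, R => by rw [mul_zero, pow_zero, one_mul]; rfl
  | k + 1, R => by
    rw [card_top, show Fintype.card R.W1 = Fintype.card R.tail.top from rfl, card_top_eq R.tail,
      show R.core = R.tail.core from rfl]
    ring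

theorem cnt_top_eq : ∀ {k : ℕ} (R : Fr Q k) (c : F),
    Fintype.card F * cnt Q R.top c + Fintype.card F ^ k * Fintype.card R.core =
      Fintype.card F ^ (2 * k) * Fintype.card R.core + Fintype.card F ^ (k + 1) * cnt Q R.core c
  | 0, R, c => by
    rw [mul_zero, pow_zero, one_mul, zero_add, pow_one, show R.core = R.top from rfl, add_comm]
  | k + 1, R, c => by
    have h := cnt_top_eq R.tail c
    have h' := card_top_eq R.tail
    rw [show R.tail.top = R.W1 from rfl] at h
    rw [show Fintype.card R.tail.top = Fintype.card R.W1 from rfl] at h'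
    rw [cnt_top, show R.core = R.tail.core from rfl, h']
    obtain ⟨r, hr⟩ : ∃ r, Fintype.card F = r + 1 := ⟨Fintype.card F - 1, (Nat.succ_pred_eq_of_pos Fintype.card_pos).symm⟩
    rw [hr] at h ⊢
    rw [Nat.add_sub_cancel]
    have h2 := congrArg ((r + 1) * ·) h
    simp only [mul_add] at h2
    ring_nf at h2 ⊢
    linarith

theorem one_le_cnt (S : Submodule F (ι → F)) : 1 ≤ cnt Q S 0 := Finset.card_pos.2 ⟨0, by simp⟩

theorem cntNZ_zero_add (S : Submodule F (ι → F)) : cntNZ Q S 0 + 1 = cnt Q S 0 := by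
  rw [cntNZ, if_pos rfl, Nat.sub_add_cancel (one_le_cnt S)]

variable {V : Type*} [AddCommGroup V] [Module ℂ V] [FiniteDimensional ℂ V] {ψ : AddChar F ℂ}

theorem exists_weight {n : ℕ} (R : Fr Q (n + 2)) (σ : Representation ℂ ↥(gw Q R.top) V)
    (hψ : ψ.IsPrimitive) (hne : ∃ g, σ g ≠ 1) :
    ∃ w : R.W1, w ≠ 0 ∧ rnk (wP ψ R σ (w : ι → F)) ≠ 0 := by
  classical
  by_contra hall
  push Not at hall
  have h0 : wP ψ R σ 0 = 1 := by
    rw [← sum_wP R σ hψ, Finset.sum_eq_single (0 : R.W1) (fun w _ hw => eq_zero_of_rnk (hall w hw)) (by simp),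
      ZeroMemClass.coe_zero]
  have hE : ∀ u : R.W1, σ (rootE R u) = 1 := fun u => by
    have h := rootE_mul_wP (ψ := ψ) R σ u 0
    rw [h0, mul_one, QuadraticMap.polar_zero_right, AddChar.map_zero_eq_one, one_smul] at h
    exact h
  have hF : ∀ u : R.W1, σ (rootF R u) = 1 := fun u => by
    obtain ⟨s, -, hs⟩ := R.exists_move (R.f_mem 0) (x := R.f 0) (fun h => by
      simpa [h] using R.toPr.ef_self 0) (R.e_mem 0) (R.toPr.e_ne_zero 0) (by rw [R.qf, R.qe])
    set y := gmat s *ᵥ (u : ι → F)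
    have hyt : y ∈ R.top := (gw_spec s.2).1 _ u.2.1
    have hey : QuadraticMap.polar (⇑Q) (R.e 0) y = 0 := by
      rw [← hs]; exact (polar_mulVec Q _ _ _).trans u.2.2.2
    have hp : R.proj y ∈ R.W1 := R.proj_mem hyt
    have hd : y = R.proj y + QuadraticMap.polar (⇑Q) (R.f 0) y • R.e 0 := by
      have h0 := R.decomp y
      rw [hey, zero_smul, add_zero, add_comm] at h0
      exact h0
    have he : s * rootF R u = rootE R ⟨_, hp⟩ * s := by
      refine Subtype.ext (mat_ext Q ?_)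
      show gmat s * eich Q (R.f 0) (u : ι → F) = eich Q (R.e 0) (R.proj y) * gmat s
      have e0 := conj_eich (s : ↥(Cfsg.isometryGroup F ⇑Q)) (R.f 0) (u : ι → F)
      rw [show mat Q (s : ↥(Cfsg.isometryGroup F ⇑Q)) *ᵥ R.f 0 = R.e 0 from hs,
        show mat Q (s : ↥(Cfsg.isometryGroup F ⇑Q)) *ᵥ (u : ι → F) = y from rfl, hd,
        eich_add_smul_self (R.qe 0) hp.2.1] at e0
      exact e0
    have h1 := congrArg σ he
    rw [map_mul, map_mul, hE, one_mul] at h1
    calc σ (rootF R u) = σ s⁻¹ * (σ s * σ (rootF R u)) := by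
          rw [← mul_assoc, ← map_mul, inv_mul_cancel, map_one, one_mul]
      _ = 1 := by rw [h1, ← map_mul, inv_mul_cancel, map_one]
  obtain ⟨g, hg⟩ := hne
  refine hg ?_
  clear hg
  have hmem : g ∈ rootGroup R := by rw [R.rootGroup_eq_top]; trivial
  induction hmem using Subgroup.closure_induction with
  | mem y hy =>
    rcases hy with ⟨u, rfl⟩ | ⟨u, rfl⟩
    · exact hE u
    · exact hF u
  | one => exact map_one σ
  | mul a b _ _ ha hb => rw [map_mul, ha, hb, one_mul]
  | inv a _ ha =>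
    calc σ a⁻¹ = σ a⁻¹ * σ a := by rw [ha, mul_one]
      _ = 1 := by rw [← map_mul, inv_mul_cancel, map_one]

theorem exists_mOf_ne {n : ℕ} (R : Fr Q (n + 3)) (σ : Representation ℂ ↥(gw Q R.top) V)
    (hψ : ψ.IsPrimitive) (hne : ∃ g, σ g ≠ 1) : ∃ c, mOf ψ R σ c ≠ 0 := by
  obtain ⟨w, hw, h⟩ := exists_weight R σ hψ hne
  exact ⟨_, rnk_wP_eq R σ w hw ▸ h⟩

theorem incl_fix_e {n : ℕ} (R : Fr Q (n + 1)) (g : ↥(gw Q R.tail.top)) :
    gmat (incl R g) *ᵥ R.e 0 = (1 : F) • R.e 0 := by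
  rw [one_smul]
  exact (gw_spec g.2).2 _ fun y hy => by
    have hy' : y ∈ R.W1 := hy
    rw [QuadraticMap.polar_comm]; exact hy'.2.1

theorem incl_comm_zero {n : ℕ} (R : Fr Q (n + 1)) (σ : Representation ℂ ↥(gw Q R.top) V)
    (g : ↥(gw Q R.tail.top)) : σ (incl R g) * wP ψ R σ 0 = wP ψ R σ 0 * σ (incl R g) := by
  rw [conj_wP R σ (incl R g) one_ne_zero (incl_fix_e R g) (fun x hx => (gw_spec g.2).1 x hx),
    Matrix.mulVec_zero, smul_zero]

/-- The group of the next level on the fixed space of the first root subgroup. -/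
noncomputable def fixedRep {n : ℕ} (ψ : AddChar F ℂ) (R : Fr Q (n + 1))
    (σ : Representation ℂ ↥(gw Q R.top) V) :
    Representation ℂ ↥(gw Q R.tail.top) ↥(LinearMap.range (wP ψ R σ 0)) :=
  have hmap : ∀ g : ↥(gw Q R.tail.top), ∀ x ∈ LinearMap.range (wP ψ R σ 0),
      σ (incl R g) x ∈ LinearMap.range (wP ψ R σ 0) := by
    rintro g x ⟨v, rfl⟩
    exact ⟨σ (incl R g) v, by rw [← Module.End.mul_apply, ← incl_comm_zero, Module.End.mul_apply]⟩
  { toFun := fun g => (σ (incl R g)).restrict (hmap g)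
    map_one' := LinearMap.ext fun x => Subtype.ext (by
      show σ (incl R 1) (x : V) = x
      rw [map_one, map_one]; rfl)
    map_mul' := fun g h => LinearMap.ext fun x => Subtype.ext (by
      show σ (incl R (g * h)) (x : V) = σ (incl R g) (σ (incl R h) x)
      rw [map_mul, map_mul]; rfl) }

theorem fixedRep_apply {n : ℕ} (R : Fr Q (n + 1)) (σ : Representation ℂ ↥(gw Q R.top) V)
    (g : ↥(gw Q R.tail.top)) (x : LinearMap.range (wP ψ R σ 0)) :
    (fixedRep ψ R σ g x : V) = σ (incl R g) x := rfl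

theorem fixedRep_ne {n : ℕ} (R : Fr Q (n + 2)) (σ : Representation ℂ ↥(gw Q R.top) V) (hψ : ψ.IsPrimitive)
    {w' : R.tail.W1} (hw : w' ≠ 0) (h : rnk (wQ R σ ψ (w' : ι → F)) ≠ 0) : ∃ g, fixedRep ψ R σ g ≠ 1 := by
  classical
  by_contra hall
  push Not at hall
  refine h ?_
  rw [rnk, show wQ R σ ψ (w' : ι → F) = 0 from ?_]
  · simp
  rw [wQ, proj, mul_smul_comm, Finset.mul_sum, Finset.sum_congr rfl (g := fun u =>
    col ψ Q R.tail.W1 (w' : ι → F) (-u) • wP ψ R σ 0) fun u _ => ?_, ← Finset.sum_smul]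
  · rw [show ∑ u : R.tail.W1, col ψ Q R.tail.W1 (w' : ι → F) (-u) =
        ∑ u : R.tail.W1, col ψ Q R.tail.W1 (w' : ι → F) u from Fintype.sum_equiv (Equiv.neg _) _ _ fun _ => rfl,
      Finset.sum_congr rfl fun u _ => col_apply ψ R.tail.W1 (w' : ι → F) u,
      sum_col hψ (fun _ hx h => R.tail.sep_W1 hx h), if_neg hw, zero_smul, smul_zero]
  · rw [mul_smul_comm, resChar_apply, ← rootTwo_comm_zero]
    congr 1
    refine LinearMap.ext fun v => ?_
    have h1 := congrArg Subtype.val (DFunLike.congr_fun (hall (rootE R.tail u)) ⟨_, v, rfl⟩)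
    rw [fixedRep_apply] at h1
    exact h1

end CfsgLib.OrthDeg
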