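import Cfsg.Agent.OrthDeg.Basic

/-!
# Values of an anisotropic binary form, and the core of a frame
-/

set_option autoImplicit false
set_option linter.unusedSectionVars false

namespace CfsgLib.OrthDeg

open Matrix Module

variable {F : Type*} [Field F] [Fintype F] [DecidableEq F]

theorem exists_binary_value {a b : F}
    (hab : ∀ z₁ z₂ : F, z₁ ^ 2 + a * z₁ * z₂ + b * z₂ ^ 2 = 0 → z₁ = 0 ∧ z₂ = 0) (c : F) :
    ∃ z : F × F, z.1 ^ 2 + a * z.1 * z.2 + b * z.2 ^ 2 = c := by
  by_cases h2 : ringChar F = 2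
  · obtain ⟨x, hx⟩ := FiniteField.isSquare_of_char_two h2 c
    exact ⟨(x, 0), by rw [hx]; ring⟩
  have h20 : (2 : F) ≠ 0 := Ring.two_ne_zero h2
  set d := b - a ^ 2 / 4 with hd
  have h40 : (4 : F) ≠ 0 := by
    rw [show (4 : F) = 2 * 2 by norm_num]
    exact mul_ne_zero h20 h20
  have hd0 : d ≠ 0 := fun h => one_ne_zero (hab (-a / 2) 1 (by
    rw [hd] at h
    field_simp at h ⊢
    linear_combination h)).2
  open Polynomial in
  obtain ⟨x, y, h⟩ := FiniteField.exists_root_sum_quadratic (R := F) (f := X ^ 2) (g := C d * X ^ 2 - C c)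
    (degree_X_pow 2) (by
      rw [degree_sub_C (by rw [degree_C_mul_X_pow 2 hd0]; exact two_pos), degree_C_mul_X_pow 2 hd0]; rfl)
    (by
      have := FiniteField.odd_card_of_char_ne_two h2
      omega)
  simp at h
  refine ⟨(x - a * y / 2, y), ?_⟩
  rw [hd] at h
  field_simp at h ⊢
  linear_combination h

theorem binary_count {a b : F}
    (hab : ∀ z₁ z₂ : F, z₁ ^ 2 + a * z₁ * z₂ + b * z₂ ^ 2 = 0 → z₁ = 0 ∧ z₂ = 0) {c : F} (hc : c ≠ 0) :
    (Finset.univ.filter fun z : F × F => z.1 ^ 2 + a * z.1 * z.2 + b * z.2 ^ 2 = c).card = Fintype.card F + 1 := by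
  classical
  set N : F × F → F := fun z => z.1 ^ 2 + a * z.1 * z.2 + b * z.2 ^ 2 with hN
  set K : F → ℕ := fun c => (Finset.univ.filter fun z => N z = c).card with hK
  have hmono : ∀ c d : F, c ≠ 0 → d ≠ 0 → K c ≤ K d := by
    intro c d hc hd
    obtain ⟨w, hw⟩ := exists_binary_value hab (d / c)
    let m : F × F → F × F := fun z =>
      (z.1 * w.1 - b * z.2 * w.2, z.1 * w.2 + z.2 * w.1 + a * z.2 * w.2)
    have hm : ∀ z, N (m z) = N z * N w := fun z => by simp only [N, m]; ring
    refine Finset.card_le_card_of_injOn m (fun z hz => ?_) fun z _ z' _ h => ?_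
    · simp only [Finset.coe_filter, Finset.mem_univ, true_and, Set.mem_setOf_eq] at hz ⊢
      rw [hm, hz, show N w = d / c from hw, mul_div_cancel₀ _ hc]
    · have hlin : m (z.1 - z'.1, z.2 - z'.2) = 0 := by
        have h1 := congrArg Prod.fst h
        have h2 := congrArg Prod.snd h
        simp only [m] at h1 h2 ⊢
        exact Prod.ext (by simp only [Prod.fst_zero]; linear_combination h1)
          (by simp only [Prod.snd_zero]; linear_combination h2)
      have h0 := hm (z.1 - z'.1, z.2 - z'.2)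
      rw [hlin, show N w = d / c from hw] at h0
      have h3 : N (z.1 - z'.1, z.2 - z'.2) = 0 := by
        have : N 0 = 0 := by simp [N]
        rw [this] at h0
        exact (mul_eq_zero.1 h0.symm).resolve_right (div_ne_zero hd hc)
      obtain ⟨e1, e2⟩ := hab _ _ h3
      exact Prod.ext (sub_eq_zero.1 e1) (sub_eq_zero.1 e2)
  have hsum : ∑ d : F, K d = Fintype.card F * Fintype.card F := by
    rw [← Finset.card_eq_sum_card_fiberwise (f := N) (t := Finset.univ) fun z _ => Finset.mem_univ _,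
      Finset.card_univ, Fintype.card_prod]
  have h0 : K 0 = 1 := Finset.card_eq_one.2 ⟨0, Finset.ext fun z => by
    simp only [Finset.mem_filter, Finset.mem_univ, true_and, Finset.mem_singleton]
    exact ⟨fun h => Prod.ext (hab _ _ h).1 (hab _ _ h).2, fun h => by simp [h, N]⟩⟩
  rw [← Finset.add_sum_erase _ _ (Finset.mem_univ (0 : F)), h0,
    Finset.sum_congr rfl fun d hd => le_antisymm (hmono d c (Finset.ne_of_mem_erase hd) hc)
      (hmono c d hc (Finset.ne_of_mem_erase hd)), Finset.sum_const, Finset.card_erase_of_mem (Finset.mem_univ _),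
    Finset.card_univ, smul_eq_mul] at hsum
  show K c = _
  obtain ⟨r, hr⟩ : ∃ r, Fintype.card F = r + 1 := ⟨Fintype.card F - 1, (Nat.succ_pred_eq_of_pos Fintype.card_pos).symm⟩
  rw [hr] at hsum ⊢
  rw [Nat.add_sub_cancel] at hsum
  have hr0 : 0 < r := by
    have := Fintype.one_lt_card (α := F)
    omega
  nlinarith

variable {ι : Type} [Fintype ι] [DecidableEq ι] {Q : QuadraticForm F (ι → F)}

theorem mem_core : ∀ {k : ℕ} (R : Fr Q k) (x : ι → F),
    x ∈ R.core ↔ x ∈ R.top ∧ ∀ i, QuadraticMap.polar (⇑Q) (R.e i) x = 0 ∧ QuadraticMap.polar (⇑Q) (R.f i) x = 0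
  | 0, R, x => ⟨fun h => ⟨h, fun i => i.elim0⟩, fun h => h.1⟩
  | k + 1, R, x => by
    rw [show R.core = R.tail.core from rfl, mem_core R.tail x]
    constructor
    · rintro ⟨⟨h1, h2, h3⟩, h⟩
      refine ⟨h1, fun i => ?_⟩
      rcases Fin.eq_zero_or_eq_succ i with rfl | ⟨j, rfl⟩
      · exact ⟨h2, h3⟩
      · exact h j
    · rintro ⟨h1, h⟩
      exact ⟨⟨h1, (h 0).1, (h 0).2⟩, fun j => h j.succ⟩

end CfsgLib.OrthDeg
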