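import Cfsg.Agent.OrthDeg.Basic

/-!
# Points of a singular plane

If nothing is fixed by the root subgroups of two perpendicular points, the fixed spaces of the points of a totally
singular plane are independent.
-/

set_option autoImplicit false
set_option linter.unusedSectionVars false

namespace CfsgLib.OrthDeg

open Matrix Module CfsgLib.Forms CfsgLib.Spinor CfsgLib.Forms4 CfsgLib.RepBounds

variable {F : Type*} [Field F] [Fintype F] [DecidableEq F] {ι : Type} [Fintype ι] [DecidableEq ι]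
  {Q : QuadraticForm F (ι → F)}

noncomputable local instance subFintypeClique (S : Submodule F (ι → F)) : Fintype S := Fintype.ofFinite S

variable {V : Type*} [AddCommGroup V] [Module ℂ V] [FiniteDimensional ℂ V] {ψ : AddChar F ℂ}

/-- The stabiliser of the first line preserves the fixed space of its root subgroup. -/
theorem stab_comm_zero {m : ℕ} (R : Fr Q (m + 1)) (σ : Representation ℂ ↥(gw Q R.top) V) (g : ↥(gw Q R.top))
    {t : F} (ht : t ≠ 0) (he : gmat g *ᵥ R.e 0 = t • R.e 0) :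
    σ g * wP ψ R σ 0 = wP ψ R σ 0 * σ g := by
  have hperp : ∀ u ∈ R.W1, QuadraticMap.polar (⇑Q) (R.e 0) (gmat g *ᵥ u) = 0 := fun u hu => by
    have h := polar_mulVec Q (g : ↥(Cfsg.isometryGroup F ⇑Q)) (R.e 0) u
    rw [show mat Q (g : ↥(Cfsg.isometryGroup F ⇑Q)) *ᵥ R.e 0 = t • R.e 0 from he, hu.2.1,
      QuadraticMap.polar_smul_left, smul_eq_mul, mul_eq_zero] at h
    exact h.resolve_left ht
  have hmem : ∀ u : R.W1, t • R.proj (gmat g *ᵥ (u : ι → F)) ∈ R.W1 := fun u =>
    R.W1.smul_mem _ (R.proj_mem ((gw_spec g.2).1 _ u.2.1))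
  let f : R.W1 →+ R.W1 := AddMonoidHom.mk' (fun u => ⟨t • R.proj (gmat g *ᵥ (u : ι → F)), hmem u⟩) fun a b =>
    Subtype.ext (by
      show t • R.proj (gmat g *ᵥ ((a : ι → F) + b)) = t • R.proj _ + t • R.proj _
      simp only [Fr.proj, Matrix.mulVec_add, QuadraticMap.polar_add_right]
      module)
  have hinj : Function.Injective f := by
    refine (injective_iff_map_eq_zero f).2 fun u hu => ?_
    have h1 : R.proj (gmat g *ᵥ (u : ι → F)) = 0 := (smul_eq_zero.1 (congrArg Subtype.val hu)).resolve_left ht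
    set a := QuadraticMap.polar (⇑Q) (R.f 0) (gmat g *ᵥ (u : ι → F))
    have h2 : gmat g *ᵥ (u : ι → F) = gmat g *ᵥ ((a * t⁻¹) • R.e 0) := by
      conv_lhs => rw [R.decomp (gmat g *ᵥ (u : ι → F)), h1, hperp u u.2]
      rw [Matrix.mulVec_smul, he, smul_smul, mul_assoc, inv_mul_cancel₀ ht, mul_one]
      simp [a]
    have h3 : (u : ι → F) = (a * t⁻¹) • R.e 0 := by rw [← gmat_inv_mulVec h2, gmat_inv_mulVec rfl]
    have h4 := u.2.2.2
    rw [h3, QuadraticMap.polar_smul_right, R.toPr.fe_self, smul_eq_mul, mul_one] at h4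
    exact Subtype.ext (by rw [h3, h4, zero_smul, ZeroMemClass.coe_zero])
  let s : R.W1 ≃+ R.W1 := AddEquiv.ofBijective f (Finite.injective_iff_bijective.mp hinj)
  have hconj : ∀ u : R.W1, g * rootE R u = rootE R (s u) * g := fun u => by
    refine Subtype.ext (mat_ext Q ?_)
    show gmat g * eich Q (R.e 0) (u : ι → F) = eich Q (R.e 0) (t • R.proj (gmat g *ᵥ (u : ι → F))) * gmat g
    have hd : gmat g *ᵥ (u : ι → F) =
        R.proj (gmat g *ᵥ (u : ι → F)) + QuadraticMap.polar (⇑Q) (R.f 0) (gmat g *ᵥ (u : ι → F)) • R.e 0 := by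
      conv_lhs => rw [R.decomp (gmat g *ᵥ (u : ι → F)), hperp u u.2]
      module
    have hp := R.proj_mem ((gw_spec g.2).1 _ u.2.1)
    have e0 := conj_eich (g : ↥(Cfsg.isometryGroup F ⇑Q)) (R.e 0) (u : ι → F)
    rw [show mat Q (g : ↥(Cfsg.isometryGroup F ⇑Q)) *ᵥ R.e 0 = t • R.e 0 from he, eich_smul_left,
      show t • (mat Q (g : ↥(Cfsg.isometryGroup F ⇑Q)) *ᵥ (u : ι → F)) =
        t • R.proj (gmat g *ᵥ (u : ι → F)) +
          (t * QuadraticMap.polar (⇑Q) (R.f 0) (gmat g *ᵥ (u : ι → F))) • R.e 0 by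
        rw [mul_smul, ← smul_add]; exact congrArg (t • ·) hd,
      eich_add_smul_self (R.qe 0) (R.W1.smul_mem t hp).2.1] at e0
    exact e0
  rw [wP, conj_proj (resChar σ (rootE R)) _ (σ g) s
    (fun u => by rw [resChar_apply, resChar_apply, ← map_mul σ, ← map_mul σ, hconj])]
  congr 2
  refine DFunLike.ext _ _ fun u => ?_
  simp [col_apply]

variable {n : ℕ} (R : Fr Q (n + 3))

/-- The first three pairs. -/
def threePairs : Pr Q 3 := R.toPr.comp (Fin.castLEEmb (by omega))

/-- Matrices acting on the first three pairs. -/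
noncomputable def plane (A : Matrix.SpecialLinearGroup (Fin 3) F) : ↥(gw Q R.top) :=
  levG (threePairs R) (fun _ => R.e_mem _) (fun _ => R.f_mem _) A

theorem plane_col (A : Matrix.SpecialLinearGroup (Fin 3) F) (j : Fin 3) :
    gmat (plane R A) *ᵥ (threePairs R).e j = ∑ i, A.1 i j • (threePairs R).e i :=
  lev_mulVec_e _ _ _

/-- Representatives of the points of the plane. -/
def pt : F × F ⊕ F ⊕ Unit → Fin 3 → F
  | .inl (a, b) => ![1, a, b]
  | .inr (.inl b) => ![0, 1, b]
  | .inr (.inr ()) => ![0, 0, 1]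

/-- Matrices moving the first point to the others. -/
def ptMat : F × F ⊕ F ⊕ Unit → Matrix.SpecialLinearGroup (Fin 3) F
  | .inl (a, b) => ⟨!![1, 0, 0; a, 1, 0; b, 0, 1], by simp [Matrix.det_fin_three]⟩
  | .inr (.inl b) => ⟨!![0, -1, 0; 1, 0, 0; b, 0, 1], by simp [Matrix.det_fin_three]⟩
  | .inr (.inr ()) => ⟨!![0, 1, 0; 0, 0, 1; 1, 0, 0], by simp [Matrix.det_fin_three]⟩

theorem ptMat_col (i : F × F ⊕ F ⊕ Unit) (k : Fin 3) : (ptMat i).1 k 0 = pt i k := by
  rcases i with ⟨a, b⟩ | b | u <;> fin_cases k <;> rfl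

theorem pt_independent {i j : F × F ⊕ F ⊕ Unit} (t : F) (h : ∀ k, pt j k = t * pt i k) : i = j := by
  have h0 := h 0
  have h1 := h 1
  have h2 := h 2
  rcases i with ⟨a, b⟩ | b | u <;> rcases j with ⟨a', b'⟩ | b' | u' <;> simp [pt] at h0 h1 h2
  · subst h0; simp at h1 h2; simp [h1, h2]
  · subst h0; simp at h1
  · subst h0; simp at h2
  · subst h1; simp at h2; simp [h2]
  · subst h1; simp at h2
  · rfl

variable (σ : Representation ℂ ↥(gw Q R.top) V)

/-- The fixed-space projectors of the points of a singular plane are orthogonal. -/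
theorem clique (h0 : rnk (wQ R σ ψ 0) = 0) :
    (Fintype.card F ^ 2 + Fintype.card F + 1) * rnk (wP ψ R σ 0) ≤ finrank ℂ V := by
  classical
  set e := wP ψ R σ 0 with he
  have hidem : e * e = e := wP_idem R σ 0
  have hP0 : (threePairs R).e 0 = R.e 0 := congrArg R.e (Fin.ext rfl)
  have hP1 : (threePairs R).e 1 = R.tail.e 0 := congrArg R.e (Fin.ext (by simp))
  set P : F × F ⊕ F ⊕ Unit → End ℂ V := fun i => σ (plane R (ptMat i)) * e * σ (plane R (ptMat i))⁻¹
  have hinv : ∀ g : ↥(gw Q R.top), σ g⁻¹ * σ g = 1 := fun g => by rw [← map_mul, inv_mul_cancel, map_one]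
  -- the point `e₁`
  set s := swapTwo (n := n + 1) R
  have hes : e * (σ s * e * σ s⁻¹) = 0 := by
    have h1 : ∀ u : R.tail.W1, σ (rootTwo R u) * (σ s * e * σ s⁻¹) = σ s * e * σ s⁻¹ := by
      intro u
      have hx : rootTwo R u * s = s * rootE R ⟨u, tail_W1_le R u.2⟩ := by
        refine Subtype.ext (mat_ext Q ?_)
        show eich Q (R.tail.e 0) (u : ι → F) * gmat s = gmat s * eich Q (R.e 0) (u : ι → F)
        have := conj_eich s.1 (R.e 0) (u : ι → F)
        rw [show mat Q s.1 *ᵥ R.e 0 = R.tail.e 0 from swapTwo_e R,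
          show mat Q s.1 *ᵥ (u : ι → F) = u from swapTwo_perp R u.2] at this
        exact this.symm
      rw [← mul_assoc, ← mul_assoc, ← map_mul, hx, map_mul, mul_assoc (σ s), he, rootE_mul_wP,
        QuadraticMap.polar_zero_right, AddChar.map_zero_eq_one, one_smul]
    have h2 : proj (resChar σ (rootTwo R)) (col ψ Q R.tail.W1 0) * (σ s * e * σ s⁻¹) = σ s * e * σ s⁻¹ := by
      rw [proj, smul_mul_assoc, Finset.sum_mul]
      simp only [smul_mul_assoc, resChar_apply, h1, col_apply, QuadraticMap.polar_zero_right,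
        AddChar.map_zero_eq_one, one_smul, Finset.sum_const, Finset.card_univ]
      rw [← Nat.cast_smul_eq_nsmul ℂ, smul_smul, inv_mul_cancel₀ (Nat.cast_ne_zero.2 Fintype.card_ne_zero),
        one_smul]
    have h3 : e * proj (resChar σ (rootTwo R)) (col ψ Q R.tail.W1 0) = 0 := eq_zero_of_rnk h0
    rw [← h2, ← mul_assoc, h3, zero_mul]
  have hcard : Fintype.card (F × F ⊕ F ⊕ Unit) = Fintype.card F ^ 2 + Fintype.card F + 1 := by
    simp only [Fintype.card_sum, Fintype.card_prod, Fintype.card_unit]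
    ring
  have horth : ∀ i j, i ≠ j → P i * P j = 0 := by
    intro i j hij
    set v : Fin 3 → F := fun k => ((ptMat i)⁻¹ * ptMat j).1 k 0
    have hv : v 1 ≠ 0 ∨ v 2 ≠ 0 := by
      by_contra hall
      push Not at hall
      refine hij (pt_independent (v 0) fun k => ?_)
      have h1 : (ptMat j).1 = (ptMat i).1 * ((ptMat i)⁻¹ * ptMat j).1 := by
        rw [← Matrix.SpecialLinearGroup.coe_mul, mul_inv_cancel_left]
      have h2 := congrFun (congrFun h1 k) 0
      rw [Matrix.mul_apply, Fin.sum_univ_three, ptMat_col, ptMat_col] at h2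
      rw [h2, show ((ptMat i)⁻¹ * ptMat j).1 0 0 = v 0 from rfl, show ((ptMat i)⁻¹ * ptMat j).1 1 0 = v 1 from rfl,
        show ((ptMat i)⁻¹ * ptMat j).1 2 0 = v 2 from rfl, hall.1, hall.2]
      ring
    obtain ⟨H, hH0, hH1⟩ : ∃ H : Matrix.SpecialLinearGroup (Fin 3) F,
        (∀ k, H.1 k 0 = (![1, 0, 0] : Fin 3 → F) k) ∧ ∀ k, H.1 k 1 = v k := by
      by_cases h1 : v 1 = 0
      · have h2 := hv.resolve_left (fun h => h h1)
        refine ⟨⟨!![1, v 0, 0; 0, 0, -(v 2)⁻¹; 0, v 2, 0], by simp [Matrix.det_fin_three, h2]⟩, ?_, ?_⟩ <;>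
          intro k <;> fin_cases k <;> simp [h1]
      · refine ⟨⟨!![1, v 0, 0; 0, v 1, 0; 0, v 2, (v 1)⁻¹], by simp [Matrix.det_fin_three, h1]⟩, ?_, ?_⟩ <;>
          intro k <;> fin_cases k <;> simp
    set h := plane R H
    have hh : gmat h *ᵥ R.e 0 = (1 : F) • R.e 0 := by
      conv_lhs => rw [← hP0, plane_col, Fin.sum_univ_three, hH0, hH0, hH0]
      simp [hP0]
    set g := (plane R (ptMat i))⁻¹ * plane R (ptMat j)
    have hg : gmat g *ᵥ R.e 0 = gmat (h * s) *ᵥ R.e 0 := by
      rw [gmat_mul h, ← Matrix.mulVec_mulVec, swapTwo_e, ← hP1, plane_col,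
        show g = plane R ((ptMat i)⁻¹ * ptMat j) by simp only [g, plane, map_mul, map_inv], ← hP0, plane_col]
      simp only [hH1, v]
    have hk : gmat ((h * s)⁻¹ * g) *ᵥ R.e 0 = (1 : F) • R.e 0 := by
      rw [one_smul, gmat_mul, ← Matrix.mulVec_mulVec, hg]
      exact gmat_inv_mulVec rfl
    have hce := stab_comm_zero (ψ := ψ) R σ _ one_ne_zero hk
    have hch := stab_comm_zero (ψ := ψ) R σ _ one_ne_zero hh
    rw [← he] at hce hch
    have e1 : σ g * e * σ g⁻¹ = σ h * (σ s * e * σ s⁻¹) * σ h⁻¹ := by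
      have h4 : σ g = σ (h * s) * σ ((h * s)⁻¹ * g) := by rw [← map_mul, mul_inv_cancel_left]
      rw [h4, mul_assoc (σ (h * s)), hce, ← mul_assoc, mul_assoc (σ (h * s) * e), ← map_mul,
        show (h * s)⁻¹ * g * g⁻¹ = s⁻¹ * h⁻¹ by group, map_mul, map_mul]
      simp only [mul_assoc]
    have e2 : e * (σ g * e * σ g⁻¹) = 0 := by
      rw [e1, ← mul_assoc, ← mul_assoc, ← hch, mul_assoc (σ h), hes, mul_zero, zero_mul]
    calc P i * P j = σ (plane R (ptMat i)) * (e * (σ g * e * σ g⁻¹)) * σ (plane R (ptMat i))⁻¹ := by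
          have hj : plane R (ptMat j) = plane R (ptMat i) * g := by simp only [g, mul_inv_cancel_left]
          show σ (plane R (ptMat i)) * e * σ (plane R (ptMat i))⁻¹ * (σ (plane R (ptMat j)) * e * σ (plane R (ptMat j))⁻¹) = _
          rw [hj, map_mul σ, _root_.mul_inv_rev, map_mul σ g⁻¹]
          calc σ (plane R (ptMat i)) * e * σ (plane R (ptMat i))⁻¹ *
                (σ (plane R (ptMat i)) * σ g * e * (σ g⁻¹ * σ (plane R (ptMat i))⁻¹))
              = σ (plane R (ptMat i)) * (e * ((σ (plane R (ptMat i))⁻¹ * σ (plane R (ptMat i))) * σ g * e * σ g⁻¹)) *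
                σ (plane R (ptMat i))⁻¹ := by simp only [mul_assoc]
            _ = _ := by rw [hinv, one_mul]
      _ = 0 := by rw [e2, mul_zero, zero_mul]
  have hsum := sum_rnk_le Finset.univ P 1 (fun i _ => by
      simp only [P]
      calc σ (plane R (ptMat i)) * e * σ (plane R (ptMat i))⁻¹ * (σ (plane R (ptMat i)) * e * σ (plane R (ptMat i))⁻¹)
          = σ (plane R (ptMat i)) * (e * (σ (plane R (ptMat i))⁻¹ * σ (plane R (ptMat i))) * e) *
            σ (plane R (ptMat i))⁻¹ := by simp only [mul_assoc]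
        _ = _ := by rw [hinv, mul_one, hidem])
    (fun i _ j _ h => horth i j h) fun i _ => one_mul _
  rw [Finset.sum_congr rfl (g := fun _ => rnk e) fun i _ => rnk_conj _ _ (hinv _) hidem, Finset.sum_const,
    Finset.card_univ, hcard, smul_eq_mul] at hsum
  exact hsum.trans (rnk_le_finrank _)

end CfsgLib.OrthDeg
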