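import Cfsg.Agent.OrthDeg.Weights

/-!
# Descent of the weight multiplicities to the next level

If the weight multiplicities of the first root subgroup depend only on the value of the weight and the
stabilisers act trivially on their weight spaces, the fixed space of the root subgroup carries the same
multiplicities for the root subgroup of the second pair (compare the traces of two conjugate elements).
-/

set_option autoImplicit false
set_option linter.unusedSectionVars false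

namespace CfsgLib.OrthDeg

open Matrix Module CfsgLib.Forms CfsgLib.Spinor CfsgLib.Forms4 CfsgLib.RepBounds

variable {F : Type*} [Field F] [Fintype F] [DecidableEq F] {ι : Type} [Fintype ι] [DecidableEq ι]
  {Q : QuadraticForm F (ι → F)}

noncomputable local instance subFintypeDescend (S : Submodule F (ι → F)) : Fintype S := Fintype.ofFinite S

theorem trace_mul_eq_zero_of_orth {V : Type*} [AddCommGroup V] [Module ℂ V] [FiniteDimensional ℂ V]
    {X e f : End ℂ V} (he : e * e = e) (hef : e * f = 0) (h : X * e = f * X) :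
    LinearMap.trace ℂ V (X * e) = 0 := by
  have h1 : X * e = X * e * e := by rw [mul_assoc, he]
  rw [h1, LinearMap.trace_mul_comm, h, ← mul_assoc, hef, zero_mul, map_zero]

variable {n : ℕ} (R : Fr Q (n + 2))

/-- The inclusion of the group of the next level. -/
noncomputable def incl {m : ℕ} (R : Fr Q (m + 1)) : ↥(gw Q R.tail.top) →* ↥(gw Q R.top) :=
  Subgroup.inclusion (gw_mono R.W1_le)

/-- The root subgroup of the second pair. -/
noncomputable def rootTwo : AddChar R.tail.W1 ↥(gw Q R.top) := (incl R).compAddChar (rootE R.tail)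

theorem gmat_rootTwo (u : R.tail.W1) : gmat (rootTwo R u) = eich Q (R.tail.e 0) (u : ι → F) := rfl

theorem gmat_incl {m : ℕ} (R : Fr Q (m + 1)) (g : ↥(gw Q R.tail.top)) : gmat (incl R g) = gmat g := rfl

theorem rootTwo_fix_e (u : R.tail.W1) : gmat (rootTwo R u) *ᵥ R.e 0 = (1 : F) • R.e 0 := by
  rw [one_smul]
  exact (gw_spec (rootE R.tail u).2).2 _ fun y hy => by
    have hy' : y ∈ R.W1 := hy
    rw [QuadraticMap.polar_comm]; exact hy'.2.1

theorem rootTwo_W1 (u : R.tail.W1) : ∀ x ∈ R.W1, gmat (rootTwo R u) *ᵥ x ∈ R.W1 :=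
  fun x hx => (gw_spec (rootE R.tail u).2).1 x hx

theorem tail_W1_le : R.tail.W1 ≤ R.W1 := R.tail.W1_le

/-- The pairs used by the nodes. -/
def twoPairs : Pr Q 2 where
  e := ![R.e 0, R.tail.e 0]
  f := ![R.f 0, R.tail.f 0]
  qe i := by fin_cases i <;> simp [R.qe, R.tail.qe]
  qf i := by fin_cases i <;> simp [R.qf, R.tail.qf]
  ee i j := by fin_cases i <;> fin_cases j <;> exact R.ee _ _
  ff i j := by fin_cases i <;> fin_cases j <;> exact R.ff _ _
  ef i j := by
    fin_cases i <;> fin_cases j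
    · exact R.ef_self 0
    · exact R.ef_ne (Fin.succ_ne_zero 0).symm
    · exact R.ef_ne (i := Fin.succ 0) (j := 0) (Fin.succ_ne_zero 0)
    · exact R.ef_self _

theorem twoPairs_e_mem (i : Fin 2) : (twoPairs R).e i ∈ R.top := by
  fin_cases i <;> exact R.e_mem _

theorem twoPairs_f_mem (i : Fin 2) : (twoPairs R).f i ∈ R.top := by
  fin_cases i <;> exact R.f_mem _

theorem twoPairs_perp {u : ι → F} (hu : u ∈ R.tail.W1) :
    (∀ i, QuadraticMap.polar (⇑Q) ((twoPairs R).e i) u = 0) ∧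
      ∀ i, QuadraticMap.polar (⇑Q) ((twoPairs R).f i) u = 0 := by
  have hu1 : u ∈ R.W1 := hu.1
  refine ⟨fun i => ?_, fun i => ?_⟩ <;> fin_cases i
  · exact hu1.2.1
  · exact hu.2.1
  · exact hu1.2.2
  · exact hu.2.2

/-- The rotation exchanging the first two vectors. -/
noncomputable def swapTwo : ↥(gw Q R.top) :=
  levG (twoPairs R) (twoPairs_e_mem R) (twoPairs_f_mem R)
    ⟨!![0, -1; 1, 0], by simp [Matrix.det_fin_two]⟩

theorem swapTwo_e : gmat (swapTwo R) *ᵥ R.e 0 = R.tail.e 0 := by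
  have h := lev_mulVec_e (twoPairs R) (⟨!![0, -1; 1, 0], by simp [Matrix.det_fin_two]⟩ :
    Matrix.SpecialLinearGroup (Fin 2) F) 0
  rw [Fin.sum_univ_two] at h
  refine h.trans ?_
  simp [twoPairs]

theorem swapTwo_perp {u : ι → F} (hu : u ∈ R.tail.W1) : gmat (swapTwo R) *ᵥ u = u :=
  lev_mulVec_perp _ _ (twoPairs_perp R hu).1 (twoPairs_perp R hu).2

variable {V : Type*} [AddCommGroup V] [Module ℂ V] [FiniteDimensional ℂ V]
  (σ : Representation ℂ ↥(gw Q R.top) V) (ψ : AddChar F ℂ)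

theorem trace_rootTwo (u : R.tail.W1) :
    LinearMap.trace ℂ V (σ (rootTwo R u)) =
      LinearMap.trace ℂ V (σ (rootE R ⟨u, tail_W1_le R u.2⟩)) := by
  have h : rootTwo R u = swapTwo R * rootE R ⟨u, tail_W1_le R u.2⟩ * (swapTwo R)⁻¹ := by
    rw [eq_mul_inv_iff_mul_eq]
    refine Subtype.ext (mat_ext Q ?_)
    show eich Q (R.tail.e 0) (u : ι → F) * gmat (swapTwo R) = gmat (swapTwo R) * eich Q (R.e 0) (u : ι → F)
    have := conj_eich (swapTwo R).1 (R.e 0) (u : ι → F)
    rw [show mat Q (swapTwo R).1 *ᵥ R.e 0 = R.tail.e 0 from swapTwo_e R,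
      show mat Q (swapTwo R).1 *ᵥ (u : ι → F) = u from swapTwo_perp R u.2] at this
    exact this.symm
  rw [h, map_mul σ, map_mul σ, LinearMap.trace_mul_comm, ← mul_assoc, ← map_mul σ, inv_mul_cancel, map_one, one_mul]

/-- The stabilisers of the weights with vanishing second coordinate act trivially. -/
def Trivial : Prop :=
  ∀ (a : F) (w' : R.tail.W1) (u : R.tail.W1), a • R.tail.e 0 + (w' : ι → F) ≠ 0 →
    QuadraticMap.polar (⇑Q) (u : ι → F) (w' : ι → F) = 0 →
      σ (rootTwo R u) * wP ψ R σ (a • R.tail.e 0 + (w' : ι → F)) = wP ψ R σ (a • R.tail.e 0 + (w' : ι → F))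

theorem rootTwo_mulVec (u : R.tail.W1) (a b : F) (w' : R.tail.W1) :
    gmat (rootTwo R u) *ᵥ (a • R.tail.e 0 + b • R.tail.f 0 + (w' : ι → F)) =
      (a - QuadraticMap.polar (⇑Q) (u : ι → F) (w' : ι → F) - Q (u : ι → F) * b) • R.tail.e 0 +
        b • R.tail.f 0 + ((w' : ι → F) + b • (u : ι → F)) :=
  R.tail.eich_e_apply a b w'.2 u.2

theorem rootTwo_mul_wP (u : R.tail.W1) (w : ι → F) :
    σ (rootTwo R u) * wP ψ R σ w = wP ψ R σ (gmat (rootTwo R u) *ᵥ w) * σ (rootTwo R u) := by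
  rw [conj_wP R σ _ one_ne_zero (rootTwo_fix_e R u) (rootTwo_W1 R u), inv_one, one_smul]

theorem rootTwo_comm_zero (u : R.tail.W1) :
    σ (rootTwo R u) * wP ψ R σ 0 = wP ψ R σ 0 * σ (rootTwo R u) := by
  rw [rootTwo_mul_wP, Matrix.mulVec_zero]

/-- The projector on a weight of the second root subgroup inside the fixed space of the first. -/
noncomputable def wQ (w' : ι → F) : End ℂ V :=
  wP ψ R σ 0 * proj (resChar σ (rootTwo R)) (col ψ Q R.tail.W1 w')

theorem wP_zero_comm_proj (χ : AddChar R.tail.W1 ℂ) :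
    wP ψ R σ 0 * proj (resChar σ (rootTwo R)) χ = proj (resChar σ (rootTwo R)) χ * wP ψ R σ 0 :=
  proj_comm _ _ _ fun a => (rootTwo_comm_zero R σ ψ a).symm

theorem wQ_idem (w' : ι → F) : wQ R σ ψ w' * wQ R σ ψ w' = wQ R σ ψ w' := by
  rw [wQ, mul_assoc, ← mul_assoc (proj _ _), ← wP_zero_comm_proj, mul_assoc (wP ψ R σ 0) (proj _ _),
    proj_mul_proj, ← mul_assoc, wP_idem]

variable {σ ψ} (M : F → ℕ)

/-- The multiplicities at a weight of the next level. -/
noncomputable def lowMult (w' : R.tail.W1) : ℂ := if w' = 0 then 0 else (M (Q (w' : ι → F)) : ℂ)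

theorem trace_rootTwo_zero (hψ : ψ.IsPrimitive) (hM : ∀ t c : F, t ≠ 0 → M (t * t * c) = M c)
    (hrk : ∀ w : R.W1, w ≠ 0 → rnk (wP ψ R σ (w : ι → F)) = M (Q (w : ι → F))) (hT : Trivial R σ ψ)
    (u : R.tail.W1) :
    LinearMap.trace ℂ V (σ (rootTwo R u) * wP ψ R σ 0) = (rnk (wP ψ R σ 0) : ℂ) +
      ∑ v : R.tail.W1, lowMult R M v * (ψ (QuadraticMap.polar (⇑Q) (u : ι → F) (v : ι → F)) - 1) := by
  classical
  by_cases hu : u = 0
  · subst hu
    rw [AddChar.map_zero_eq_one, map_one, one_mul, rnk_trace (wP_idem R σ _),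
      Finset.sum_eq_zero fun v _ => ?_, add_zero]
    simp
  set f : R.W1 → ℂ := fun w => LinearMap.trace ℂ V (σ (rootTwo R u) * wP ψ R σ (w : ι → F))
  set g : R.W1 → ℂ := fun w => ψ (QuadraticMap.polar (⇑Q) (u : ι → F) (w : ι → F)) *
    (rnk (wP ψ R σ (w : ι → F)) : ℂ)
  have hsum : ∑ w, f w = ∑ w, g w := by
    rw [← map_sum, ← Finset.mul_sum, sum_wP R σ hψ, mul_one, trace_rootTwo,
      trace_rootE R σ hψ ⟨u, tail_W1_le R u.2⟩]
  have hf0 : f 0 = LinearMap.trace ℂ V (σ (rootTwo R u) * wP ψ R σ 0) := rfl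
  have hg0 : g 0 = (rnk (wP ψ R σ 0) : ℂ) := by simp [g]
  rw [← hf0, ← hg0]
  have hdiff : f 0 - g 0 = ∑ w ∈ Finset.univ.erase (0 : R.W1), (g w - f w) := by
    rw [Finset.sum_sub_distrib, ← Finset.add_sum_erase _ f (Finset.mem_univ 0),
      ← Finset.add_sum_erase _ g (Finset.mem_univ 0)] at *
    linear_combination hsum
  suffices hmain : ∑ w ∈ Finset.univ.erase (0 : R.W1), (g w - f w) =
      ∑ v : R.tail.W1, lowMult R M v * (ψ (QuadraticMap.polar (⇑Q) (u : ι → F) (v : ι → F)) - 1) by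
    linear_combination hdiff + hmain
  -- coordinates
  let Φ : F × F × R.tail.W1 ≃ R.W1 := R.tail.coordEquiv
  have hΦ : ∀ p, (Φ p : ι → F) = p.1 • R.tail.e 0 + p.2.1 • R.tail.f 0 + (p.2.2 : ι → F) := fun p => rfl
  have hB : ∀ p, QuadraticMap.polar (⇑Q) (u : ι → F) (Φ p : ι → F) =
      QuadraticMap.polar (⇑Q) (u : ι → F) (p.2.2 : ι → F) := fun p => by
    rw [hΦ, QuadraticMap.polar_add_right, QuadraticMap.polar_add_right, QuadraticMap.polar_smul_right,
      QuadraticMap.polar_smul_right, QuadraticMap.polar_comm (⇑Q) (u : ι → F) (R.tail.e 0),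
      QuadraticMap.polar_comm (⇑Q) (u : ι → F) (R.tail.f 0), u.2.2.1, u.2.2.2]
    simp
  have hΦ0 : Φ (0, 0, 0) = 0 := Subtype.ext (by rw [hΦ]; simp)
  let B : R.tail.W1 → F := fun v => QuadraticMap.polar (⇑Q) (u : ι → F) (v : ι → F)
  let h : F × F × R.tail.W1 → ℂ := fun p =>
    if p = (0, 0, 0) then 0 else
      (M (p.1 * p.2.1 + Q (p.2.2 : ι → F)) : ℂ) * (ψ (B p.2.2) - if p.2.1 = 0 ∧ B p.2.2 = 0 then 1 else 0)
  have hh : ∀ p, (if Φ p = 0 then 0 else g (Φ p) - f (Φ p)) = h p := by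
    intro p
    by_cases hp : p = (0, 0, 0)
    · rw [hp, hΦ0, if_pos rfl]; exact (if_pos rfl).symm
    have hp0 : Φ p ≠ 0 := fun h0 => hp (Φ.injective (h0.trans hΦ0.symm))
    have hQ : Q (Φ p : ι → F) = p.1 * p.2.1 + Q (p.2.2 : ι → F) := R.tail.quad_comb _ _ p.2.2.2
    rw [if_neg hp0]
    simp only [h, if_neg hp, g, f, hB, hrk _ hp0, hQ]
    rw [mul_sub, mul_comm]
    congr 1
    by_cases hfix : p.2.1 = 0 ∧ B p.2.2 = 0
    · rw [if_pos hfix, mul_one]
      have he : (Φ p : ι → F) = p.1 • R.tail.e 0 + (p.2.2 : ι → F) := by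
        rw [hΦ, hfix.1, zero_smul, add_zero]
      have hne : p.1 • R.tail.e 0 + (p.2.2 : ι → F) ≠ 0 := fun h0 => hp0 (Subtype.ext (he.trans h0))
      rw [he, hT _ _ _ hne hfix.2, ← he, rnk_trace (wP_idem R σ _), hrk _ hp0, hQ]
    · rw [if_neg hfix, mul_zero]
      set w2 : ι → F := gmat (rootTwo R u) *ᵥ (Φ p : ι → F)
      have hw2 : w2 ∈ R.W1 := rootTwo_W1 R u _ (Φ p).2
      have hne : (⟨w2, hw2⟩ : R.W1) ≠ Φ p := by
        intro heq
        refine hfix ?_
        have h1 : w2 = (Φ p : ι → F) := congrArg Subtype.val heq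
        rw [show w2 = _ from congrArg (gmat (rootTwo R u) *ᵥ ·) (hΦ p), rootTwo_mulVec] at h1
        have h2 : Φ (p.1 - B p.2.2 - Q (u : ι → F) * p.2.1, p.2.1, p.2.2 + p.2.1 • u) = Φ p :=
          Subtype.ext h1
        have h3 := Φ.injective h2
        simp only [Prod.ext_iff, true_and, add_eq_left, smul_eq_zero, hu, or_false] at h3
        have := h3.1
        rw [h3.2, mul_zero, sub_zero, sub_eq_self] at this
        exact ⟨h3.2, this⟩
      exact trace_mul_eq_zero_of_orth (wP_idem R σ _) (wP_orth R σ hψ (Ne.symm hne))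
        (rootTwo_mul_wP R σ ψ u _)
  have hconv : ∑ w ∈ Finset.univ.erase (0 : R.W1), (g w - f w) = ∑ p, h p := by
    rw [← Finset.sum_congr rfl fun p _ => hh p, Φ.sum_comp (fun w => if w = 0 then 0 else g w - f w),
      ← Finset.add_sum_erase _ _ (Finset.mem_univ (0 : R.W1)), if_pos rfl, zero_add]
    exact Finset.sum_congr rfl fun w hw => by rw [if_neg (Finset.ne_of_mem_erase hw)]
  rw [hconv]
  -- `b ≠ 0` contributes nothing
  have hψsum : ∑ v : R.tail.W1, ψ (B v) = 0 := by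
    have h1 := sum_col (Q := Q) hψ (fun _ hx h => R.tail.sep_W1 hx h) u
    rw [if_neg hu] at h1
    simpa only [B, QuadraticMap.polar_comm (⇑Q) (u : ι → F)] using h1
  have hb : ∀ b : F, b ≠ 0 → ∑ a : F, ∑ v : R.tail.W1, h (a, b, v) = 0 := by
    intro b hb
    simp only [h, Prod.ext_iff, hb, false_and, and_false, if_false, sub_zero]
    rw [Finset.sum_comm]
    simp only [← Finset.sum_mul]
    rw [Finset.sum_congr rfl (g := fun v => (∑ c : F, (M c : ℂ)) * ψ (B v)) fun v _ => ?_, ← Finset.mul_sum,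
      hψsum, mul_zero]
    congr 1
    refine Fintype.sum_bijective (fun a => a * b + Q (v : ι → F))
      ((Equiv.addRight (Q (v : ι → F))).bijective.comp (Equiv.mulRight₀ b hb).bijective) _ _ fun a => rfl
  rw [Fintype.sum_prod_type, Finset.sum_congr rfl fun a _ => Fintype.sum_prod_type _, Finset.sum_comm,
    Finset.sum_eq_single (0 : F) (fun b _ hb' => hb b hb') (fun h0 => absurd (Finset.mem_univ _) h0)]
  -- the fixed coordinate
  have hz : ∀ (a : F) (v : R.tail.W1),
      h (a, 0, v) = lowMult R M v * (ψ (B v) - if B v = 0 then 1 else 0) := by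
    intro a v
    by_cases hv : v = 0
    · subst hv
      have hB0 : B 0 = 0 := by simp [B]
      simp [h, hB0, lowMult]
    · simp [h, hv, lowMult]
  rw [Finset.sum_congr rfl fun a _ => Finset.sum_congr rfl fun v _ => hz a v, Finset.sum_const,
    Finset.card_univ, nsmul_eq_mul]
  -- averaging over scalars
  have hscale : ∀ t : F, t ≠ 0 → ∑ v : R.tail.W1, lowMult R M v * ψ (t * B v) =
      ∑ v : R.tail.W1, lowMult R M v * ψ (B v) := by
    intro t ht
    refine Fintype.sum_bijective (fun v => t • v) ⟨smul_right_injective _ ht, fun v => ⟨t⁻¹ • v, by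
      simp [smul_smul, mul_inv_cancel₀ ht]⟩⟩ _ _ fun v => ?_
    simp only [lowMult, smul_eq_zero, ht, false_or, B, SetLike.val_smul, QuadraticMap.map_smul,
      QuadraticMap.polar_smul_right, smul_eq_mul, hM t _ ht]
  have havg : (Fintype.card F : ℂ) * ∑ v : R.tail.W1, lowMult R M v * (if B v = 0 then 1 else 0) =
      ∑ v : R.tail.W1, lowMult R M v +
        ((Fintype.card F : ℂ) - 1) * ∑ v : R.tail.W1, lowMult R M v * ψ (B v) := by
    have h1 : ∑ t : F, ∑ v : R.tail.W1, lowMult R M v * ψ (t * B v) =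
        (Fintype.card F : ℂ) * ∑ v : R.tail.W1, lowMult R M v * (if B v = 0 then 1 else 0) := by
      rw [Finset.sum_comm, Finset.mul_sum]
      refine Finset.sum_congr rfl fun v _ => ?_
      rw [← Finset.mul_sum, sum_mul_char hψ]
      split_ifs <;> ring
    rw [← h1, ← Finset.add_sum_erase _ _ (Finset.mem_univ (0 : F)),
      Finset.sum_congr rfl fun t ht => hscale t (Finset.ne_of_mem_erase ht), Finset.sum_const,
      Finset.card_erase_of_mem (Finset.mem_univ _), Finset.card_univ, nsmul_eq_mul,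
      Nat.cast_sub Fintype.card_pos, Nat.cast_one]
    simp
  simp only [mul_sub, Finset.sum_sub_distrib, mul_one]
  linear_combination -havg

/-- The multiplicities descend. -/
theorem rnk_wQ (hψ : ψ.IsPrimitive) (hM : ∀ t c : F, t ≠ 0 → M (t * t * c) = M c)
    (hrk : ∀ w : R.W1, w ≠ 0 → rnk (wP ψ R σ (w : ι → F)) = M (Q (w : ι → F))) (hT : Trivial R σ ψ)
    (w' : R.tail.W1) :
    (rnk (wQ R σ ψ (w' : ι → F)) : ℂ) = lowMult R M w' +
      if w' = 0 then (rnk (wP ψ R σ 0) : ℂ) - ∑ v, lowMult R M v else 0 := by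
  classical
  rw [← rnk_trace (wQ_idem R σ ψ _), wQ, proj, mul_smul_comm, map_smul, Finset.mul_sum, map_sum,
    smul_eq_mul]
  have hterm : ∀ u : R.tail.W1, LinearMap.trace ℂ V (wP ψ R σ 0 *
      (col ψ Q R.tail.W1 (w' : ι → F) (-u) • resChar σ (rootTwo R) u)) =
      ψ (-QuadraticMap.polar (⇑Q) (u : ι → F) (w' : ι → F)) *
        ((rnk (wP ψ R σ 0) : ℂ) - ∑ v, lowMult R M v +
          ∑ v : R.tail.W1, lowMult R M v * ψ (QuadraticMap.polar (⇑Q) (u : ι → F) (v : ι → F))) := by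
    intro u
    rw [mul_smul_comm, map_smul, resChar_apply, ← rootTwo_comm_zero, trace_rootTwo_zero R M hψ hM hrk hT,
      smul_eq_mul, col_apply, Submodule.coe_neg, QuadraticMap.polar_neg_left]
    simp only [mul_sub, mul_one, Finset.sum_sub_distrib]
    ring
  rw [Finset.sum_congr rfl fun u _ => hterm u]
  have hsep : ∀ x ∈ R.tail.W1, (∀ y ∈ R.tail.W1, QuadraticMap.polar (⇑Q) x y = 0) → x = 0 :=
    fun _ hx h => R.tail.sep_W1 hx h
  have hneg : ∀ x : R.tail.W1, ∑ u : R.tail.W1, ψ (-QuadraticMap.polar (⇑Q) (u : ι → F) (w' : ι → F)) *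
      ψ (QuadraticMap.polar (⇑Q) (u : ι → F) (x : ι → F)) =
      if x = w' then (Fintype.card R.tail.W1 : ℂ) else 0 := by
    intro x
    have h1 := sum_col hψ hsep (x - w')
    simp only [sub_eq_zero] at h1
    rw [← h1]
    refine Finset.sum_congr rfl fun u _ => ?_
    rw [← AddChar.map_add_eq_mul, AddSubgroupClass.coe_sub, QuadraticMap.polar_sub_right, neg_add_eq_sub]
  have hconst : ∑ u : R.tail.W1, ψ (-QuadraticMap.polar (⇑Q) (u : ι → F) (w' : ι → F)) =
      if w' = 0 then (Fintype.card R.tail.W1 : ℂ) else 0 := by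
    have h1 := hneg 0
    simpa [eq_comm (a := (0 : R.tail.W1))] using h1
  simp only [mul_add, Finset.sum_add_distrib, ← Finset.sum_mul, hconst]
  simp only [Finset.mul_sum]
  rw [Finset.sum_comm (γ := R.tail.W1)]
  have hswap : ∀ v : R.tail.W1, ∑ u : R.tail.W1,
      ψ (-QuadraticMap.polar (⇑Q) (u : ι → F) (w' : ι → F)) *
        (lowMult R M v * ψ (QuadraticMap.polar (⇑Q) (u : ι → F) (v : ι → F))) =
      lowMult R M v * if v = w' then (Fintype.card R.tail.W1 : ℂ) else 0 := by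
    intro v
    rw [← hneg v, Finset.mul_sum]
    exact Finset.sum_congr rfl fun u _ => by ring
  have hc : (Fintype.card R.tail.W1 : ℂ) ≠ 0 := Nat.cast_ne_zero.mpr Fintype.card_ne_zero
  rw [Finset.sum_congr rfl fun v _ => (Finset.mul_sum _ _ _).symm.trans
    (congrArg ((Fintype.card R.tail.W1 : ℂ)⁻¹ * ·) (hswap v))]
  simp only [mul_ite, mul_zero, Finset.sum_ite_eq', Finset.mem_univ, if_true]
  split_ifs <;> field_simp <;> ring

/-- A weight of the next level has the same multiplicity. -/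
theorem rnk_wQ_of_ne (hψ : ψ.IsPrimitive) (hM : ∀ t c : F, t ≠ 0 → M (t * t * c) = M c)
    (hrk : ∀ w : R.W1, w ≠ 0 → rnk (wP ψ R σ (w : ι → F)) = M (Q (w : ι → F))) (hT : Trivial R σ ψ)
    {w' : R.tail.W1} (hw : w' ≠ 0) : rnk (wQ R σ ψ (w' : ι → F)) = M (Q (w' : ι → F)) := by
  have h := rnk_wQ R M hψ hM hrk hT w'
  rw [if_neg hw, add_zero, lowMult, if_neg hw] at h
  exact_mod_cast h

/-- The fixed space splits into the weights of the next level and the doubly fixed space. -/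
theorem rnk_zero_eq (hψ : ψ.IsPrimitive) (hM : ∀ t c : F, t ≠ 0 → M (t * t * c) = M c)
    (hrk : ∀ w : R.W1, w ≠ 0 → rnk (wP ψ R σ (w : ι → F)) = M (Q (w : ι → F))) (hT : Trivial R σ ψ) :
    rnk (wP ψ R σ 0) = rnk (wQ R σ ψ 0) + ∑ v ∈ Finset.univ.erase (0 : R.tail.W1), M (Q (v : ι → F)) := by
  classical
  have h := rnk_wQ R M hψ hM hrk hT 0
  rw [if_pos rfl, ZeroMemClass.coe_zero, ← Finset.add_sum_erase _ _ (Finset.mem_univ (0 : R.tail.W1))] at h
  simp only [lowMult, if_true, zero_add] at h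
  rw [Finset.sum_congr rfl fun v hv => if_neg (Finset.ne_of_mem_erase hv), eq_sub_iff_add_eq] at h
  exact_mod_cast h.symm

end CfsgLib.OrthDeg
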