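import Cfsg.Agent.OrthDeg.Levels
import Cfsg.Agent.Characters.Integrality

/-!
# The class of long root elements divides out

If only singular weights occur, once each, the value of the character at a long root element is known and
the integrality of its class sum gives a divisibility condition on the degree.
-/

set_option autoImplicit false
set_option linter.unusedSectionVars false

namespace CfsgLib.OrthDeg

open Matrix Module CfsgLib.Forms CfsgLib.Spinor CfsgLib.Forms4 CfsgLib.RepBounds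

variable {F : Type*} [Field F] [Fintype F] [DecidableEq F] {ι : Type} [Fintype ι] [DecidableEq ι]
  {Q : QuadraticForm F (ι → F)}

noncomputable local instance subFintypeDivide (S : Submodule F (ι → F)) : Fintype S := Fintype.ofFinite S

theorem card_det_one :
    (Finset.univ.filter fun p : F × F × F × F => p.1 * p.2.2.2 - p.2.1 * p.2.2.1 = 1).card =
      Fintype.card F * (Fintype.card F ^ 2 - 1) := by
  classical
  set q := Fintype.card F
  have h1 : ∀ a : F, a ≠ 0 → ∀ b c : F, ∑ d : F, (if a * d - b * c = 1 then 1 else 0 : ℕ) = 1 := fun a ha b c => by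
    rw [Finset.sum_eq_single ((1 + b * c) / a) (fun d _ hd => if_neg fun h => hd (by
      rw [eq_div_iff ha]; linear_combination h)) (by simp), if_pos (by field_simp; ring)]
  have h0 : ∀ b : F, ∑ c : F, (if (0 : F) - b * c = 1 then 1 else 0 : ℕ) = if b = 0 then 0 else 1 := fun b => by
    by_cases hb : b = 0
    · simp [hb]
    · rw [if_neg hb, Finset.sum_eq_single (-1 / b) (fun c _ hc => if_neg fun h => hc (by
        rw [eq_div_iff hb]; linear_combination -h)) (by simp), if_pos (by field_simp; ring)]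
  rw [Finset.card_filter, Fintype.sum_prod_type, ← Finset.add_sum_erase _ _ (Finset.mem_univ (0 : F))]
  have hrest : ∀ a ∈ Finset.univ.erase (0 : F), ∑ y : F × F × F,
      (if (a, y).1 * (a, y).2.2.2 - (a, y).2.1 * (a, y).2.2.1 = 1 then 1 else 0 : ℕ) = q * q := fun a ha => by
    rw [Fintype.sum_prod_type, Finset.sum_congr rfl fun b _ => Fintype.sum_prod_type _]
    rw [Finset.sum_congr rfl fun b _ => Finset.sum_congr rfl fun c _ => h1 a (Finset.ne_of_mem_erase ha) b c]
    simp [q]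
  rw [Finset.sum_congr rfl hrest, Fintype.sum_prod_type, Finset.sum_congr rfl fun b _ => Fintype.sum_prod_type _]
  simp only [zero_mul, Finset.sum_const, Finset.card_univ, smul_eq_mul, ← Finset.mul_sum, h0, Finset.sum_ite,
    mul_one, mul_zero, zero_add, Finset.filter_ne', Finset.card_erase_of_mem (Finset.mem_univ (0 : F))]
  have hq : 0 < q := Fintype.card_pos
  obtain ⟨k, hk⟩ : ∃ k, q = k + 1 := ⟨q - 1, by omega⟩
  show q * (q - 1) + (q - 1) * (q * q) = q * (q ^ 2 - 1)
  rw [hk, Nat.add_sub_cancel, show (k + 1) ^ 2 - 1 = k * k + 2 * k by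
    rw [show (k + 1) ^ 2 = k * k + 2 * k + 1 by ring, Nat.add_sub_cancel]]
  ring

variable {n : ℕ} (R : Fr Q (n + 3))

/-- The long root element. -/
noncomputable def rootEl : ↥(gw Q R.top) := rootE R ⟨R.tail.e 0, R.tail.e_mem 0⟩

theorem gmat_rootEl : gmat (rootEl R) = eich Q (R.e 0) (R.tail.e 0) := rfl

theorem e_tail_perp : QuadraticMap.polar (⇑Q) (R.e 0) (R.tail.e 0) = 0 := R.ee _ _

/-- Pairs giving long root elements. -/
def IsRootPair (p : R.top × R.top) : Prop :=
  (p.1 : ι → F) ≠ 0 ∧ Q (p.1 : ι → F) = 0 ∧ Q (p.2 : ι → F) = 0 ∧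
    QuadraticMap.polar (⇑Q) (p.1 : ι → F) (p.2 : ι → F) = 0 ∧ ∀ t : F, (p.2 : ι → F) ≠ t • (p.1 : ι → F)

/-- The set of those pairs. -/
noncomputable def rootPairs : Finset (R.top × R.top) := by
  classical exact Finset.univ.filter (IsRootPair R)

theorem mem_rootPairs {p : R.top × R.top} : p ∈ rootPairs R ↔ IsRootPair R p := by
  simp [rootPairs]

theorem exists_move_pair {p : R.top × R.top} (hp : IsRootPair R p) :
    ∃ g : ↥(gw Q R.top), ∀ h : QuadraticMap.polar (⇑Q) (p.1 : ι → F) (p.2 : ι → F) = 0,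
      g * ⟨eichIso Q _ _ hp.2.1 h, eichIso_mem_gw p.1.2 p.2.2 hp.2.1 h⟩ * g⁻¹ = rootEl R := by
  obtain ⟨hu0, hu, hy, huy, hind⟩ := hp
  obtain ⟨g, -, hg⟩ := R.exists_move p.1.2 hu0 (R.e_mem 0) (R.toPr.e_ne_zero 0) (by rw [hu, R.qe])
  set y' := gmat g *ᵥ (p.2 : ι → F)
  have hy't : y' ∈ R.top := (gw_spec g.2).1 _ p.2.2
  have hey : QuadraticMap.polar (⇑Q) (R.e 0) y' = 0 := by
    rw [← hg]; exact (polar_mulVec Q _ _ _).trans huy
  have hd : y' = R.proj y' + QuadraticMap.polar (⇑Q) (R.f 0) y' • R.e 0 := by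
    have h0 := R.decomp y'
    rw [hey, zero_smul, add_zero, add_comm] at h0
    exact h0
  have hz : R.proj y' ∈ R.W1 := R.proj_mem hy't
  have hz0 : Q (R.proj y') = 0 := by
    have h1 : Q y' = 0 := (quad_mulVec Q _ _).trans hy
    rw [hd, QuadraticMap.map_add (⇑Q), QuadraticMap.map_smul, R.qe, QuadraticMap.polar_smul_right,
      QuadraticMap.polar_comm (⇑Q) (R.proj y'), hz.2.1] at h1
    simpa using h1
  have hzne : R.proj y' ≠ 0 := fun h0 => by
    rw [h0, zero_add, ← hg, ← Matrix.mulVec_smul] at hd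
    refine hind (QuadraticMap.polar (⇑Q) (R.f 0) y') ?_
    have h2 := congrArg (gmat g⁻¹ *ᵥ ·) hd
    simp only [y', Matrix.mulVec_mulVec, ← gmat_mul, inv_mul_cancel, gmat_one, Matrix.one_mulVec] at h2
    exact h2
  obtain ⟨g', -, hg'⟩ := R.tail.exists_move hz hzne (R.tail.e_mem 0) (R.tail.toPr.e_ne_zero 0)
    (by rw [hz0, R.tail.qe])
  refine ⟨incl R g' * g, fun h => ?_⟩
  rw [mul_inv_eq_iff_eq_mul]
  refine Subtype.ext (mat_ext Q ?_)
  have hge : gmat g' *ᵥ R.e 0 = R.e 0 := (gw_spec g'.2).2 _ fun z hz => by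
    have hz' : z ∈ R.W1 := hz
    rw [QuadraticMap.polar_comm]; exact hz'.2.1
  show gmat g' * gmat g * eich Q (p.1 : ι → F) (p.2 : ι → F) = gmat (rootEl R) * (gmat g' * gmat g)
  have e1 : gmat g * eich Q (p.1 : ι → F) (p.2 : ι → F) = eich Q (R.e 0) (R.proj y') * gmat g := by
    have e0 := conj_eich (g : ↥(Cfsg.isometryGroup F ⇑Q)) (p.1 : ι → F) (p.2 : ι → F)
    rw [show mat Q (g : ↥(Cfsg.isometryGroup F ⇑Q)) *ᵥ (p.1 : ι → F) = R.e 0 from hg,
      show mat Q (g : ↥(Cfsg.isometryGroup F ⇑Q)) *ᵥ (p.2 : ι → F) = y' from rfl, hd,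
      eich_add_smul_self (R.qe 0) hz.2.1] at e0
    exact e0
  have e2 : gmat g' * eich Q (R.e 0) (R.proj y') = gmat (rootEl R) * gmat g' := by
    have e0 := conj_eich (g' : ↥(Cfsg.isometryGroup F ⇑Q)) (R.e 0) (R.proj y')
    rw [show mat Q (g' : ↥(Cfsg.isometryGroup F ⇑Q)) *ᵥ R.e 0 = R.e 0 from hge,
      show mat Q (g' : ↥(Cfsg.isometryGroup F ⇑Q)) *ᵥ R.proj y' = R.tail.e 0 from hg'] at e0
    exact e0
  rw [mul_assoc, e1, ← mul_assoc, e2, mul_assoc]

theorem card_rootPairs :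
    (rootPairs R).card = cntNZ Q R.top 0 * (Fintype.card F * cntNZ Q R.W1 0) := by
  classical
  set U := (Finset.univ.erase (0 : R.top)).filter fun u : R.top => Q (u : ι → F) = 0
  have hfib : ∀ u ∈ U, ((rootPairs R).filter fun p => p.1 = u).card = Fintype.card F * cntNZ Q R.W1 0 := by
    intro u hu
    obtain ⟨hu1, hu2⟩ := Finset.mem_filter.1 hu
    have hu0 : (u : ι → F) ≠ 0 := fun h => Finset.ne_of_mem_erase hu1 (Subtype.ext h)
    obtain ⟨g, -, hg⟩ := R.exists_move (R.e_mem 0) (R.toPr.e_ne_zero 0) u.2 hu0 (by rw [hu2, R.qe])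
    set A := (Finset.univ : Finset F) ×ˢ ((Finset.univ.erase (0 : R.W1)).filter fun z : R.W1 => Q (z : ι → F) = 0)
    have hA : A.card = Fintype.card F * cntNZ Q R.W1 0 := by
      rw [Finset.card_product, Finset.card_univ, card_erase_filter]
    rw [← hA]
    let Ψ : F × R.W1 → R.top × R.top := fun q =>
      (u, ⟨gmat g *ᵥ (q.1 • R.e 0 + (q.2 : ι → F)),
        (gw_spec g.2).1 _ (R.top.add_mem (R.top.smul_mem _ (R.e_mem 0)) q.2.2.1)⟩)
    refine (Finset.card_bij (fun q _ => Ψ q) ?_ ?_ ?_).symm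
    · intro q hq
      obtain ⟨hz1, hz2⟩ := Finset.mem_filter.1 (Finset.mem_product.1 hq).2
      refine Finset.mem_filter.2 ⟨(mem_rootPairs R).2 ⟨hu0, hu2, ?_, ?_, fun t ht => ?_⟩, rfl⟩
      · show Q (gmat g *ᵥ _) = 0
        rw [quad_mulVec, QuadraticMap.map_add (⇑Q), QuadraticMap.map_smul, R.qe, hz2,
          QuadraticMap.polar_smul_left, q.2.2.2.1]
        simp
      · show QuadraticMap.polar (⇑Q) (u : ι → F) (gmat g *ᵥ _) = 0
        rw [← hg, polar_mulVec, QuadraticMap.polar_add_right, QuadraticMap.polar_smul_right, R.ee, q.2.2.2.1]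
        simp
      · have h1 : gmat g⁻¹ *ᵥ (gmat g *ᵥ (q.1 • R.e 0 + (q.2 : ι → F))) = gmat g⁻¹ *ᵥ (t • (u : ι → F)) :=
          congrArg (gmat g⁻¹ *ᵥ ·) ht
        rw [gmat_inv_mulVec rfl, Matrix.mulVec_smul, gmat_inv_mulVec hg] at h1
        refine Finset.ne_of_mem_erase hz1 (Subtype.ext ?_)
        have h2 := congrArg R.proj h1
        simp [Fr.proj, QuadraticMap.polar_add_right, QuadraticMap.polar_smul_right, R.ee, R.toPr.fe_self,
          q.2.2.2.1, q.2.2.2.2] at h2
        exact congrArg Subtype.val h2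
    · intro q hq q' hq' h
      have h1 : gmat g *ᵥ (q.1 • R.e 0 + (q.2 : ι → F)) = gmat g *ᵥ (q'.1 • R.e 0 + (q'.2 : ι → F)) :=
        congrArg (fun p : R.top × R.top => (p.2 : ι → F)) h
      have h2 := congrArg (gmat g⁻¹ *ᵥ ·) h1
      simp only [Matrix.mulVec_mulVec, ← gmat_mul, inv_mul_cancel, gmat_one, Matrix.one_mulVec] at h2
      have ha := congrArg (QuadraticMap.polar (⇑Q) (R.f 0)) h2
      simp [QuadraticMap.polar_add_right, QuadraticMap.polar_smul_right, R.toPr.fe_self, q.2.2.2.2, q'.2.2.2.2] at ha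
      exact Prod.ext ha (Subtype.ext (by rw [ha] at h2; exact add_left_cancel h2))
    · intro p hp
      obtain ⟨hp1, rfl⟩ := Finset.mem_filter.1 hp
      obtain ⟨-, -, hy, huy, hind⟩ := (mem_rootPairs R).1 hp1
      set y' := gmat g⁻¹ *ᵥ (p.2 : ι → F) with hy'
      have hy't : y' ∈ R.top := (gw_spec (g⁻¹).2).1 _ p.2.2
      have hey : QuadraticMap.polar (⇑Q) (R.e 0) y' = 0 := by
        rw [← gmat_inv_mulVec hg, hy']; exact (polar_mulVec Q _ _ _).trans huy
      have hd : y' = QuadraticMap.polar (⇑Q) (R.f 0) y' • R.e 0 + R.proj y' := by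
        have h0 := R.decomp y'
        rwa [hey, zero_smul, add_zero] at h0
      have hz : R.proj y' ∈ R.W1 := R.proj_mem hy't
      refine ⟨(QuadraticMap.polar (⇑Q) (R.f 0) y', ⟨_, hz⟩), Finset.mem_product.2 ⟨Finset.mem_univ _,
        Finset.mem_filter.2 ⟨Finset.mem_erase.2 ⟨fun h0 => ?_, Finset.mem_univ _⟩, ?_⟩⟩, ?_⟩
      · have h1 : R.proj y' = 0 := congrArg Subtype.val h0
        rw [h1, add_zero] at hd
        refine hind (QuadraticMap.polar (⇑Q) (R.f 0) y') ?_
        have h2 := congrArg (gmat g *ᵥ ·) hd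
        simp only [y', Matrix.mulVec_mulVec, ← gmat_mul, mul_inv_cancel, gmat_one, Matrix.one_mulVec,
          Matrix.mulVec_smul, hg] at h2
        exact h2
      · have h1 : Q y' = 0 := (quad_mulVec Q _ _).trans hy
        rw [hd, QuadraticMap.map_add (⇑Q), QuadraticMap.map_smul, R.qe, QuadraticMap.polar_smul_left,
          hz.2.1] at h1
        simpa using h1
      · refine Prod.ext rfl (Subtype.ext ?_)
        show gmat g *ᵥ (QuadraticMap.polar (⇑Q) (R.f 0) y' • R.e 0 + R.proj y') = (p.2 : ι → F)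
        rw [← hd, hy', Matrix.mulVec_mulVec, ← gmat_mul, mul_inv_cancel, gmat_one, Matrix.one_mulVec]
  rw [Finset.card_eq_sum_card_fiberwise (f := Prod.fst) (t := U) fun p hp => ?_, Finset.sum_congr rfl hfib,
    Finset.sum_const, smul_eq_mul, card_erase_filter]
  obtain ⟨h1, h2, -⟩ := (mem_rootPairs R).1 hp
  exact Finset.mem_filter.2 ⟨Finset.mem_erase.2 ⟨fun h => h1 (congrArg Subtype.val h), Finset.mem_univ _⟩, h2⟩

open Classical in
theorem card_fibre :
    ((rootPairs R).filter fun p => eich Q (p.1 : ι → F) (p.2 : ι → F) = eich Q (R.e 0) (R.tail.e 0)).card =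
      Fintype.card F * (Fintype.card F ^ 2 - 1) := by
  rw [← card_det_one]
  set e := R.e 0
  set e' := R.tail.e 0
  have hee : QuadraticMap.polar (⇑Q) e e' = 0 := e_tail_perp R
  have he'e : QuadraticMap.polar (⇑Q) e' e = 0 := by rw [QuadraticMap.polar_comm, hee]
  have hmem : ∀ a b : F, a • e + b • e' ∈ R.top := fun a b =>
    R.top.add_mem (R.top.smul_mem _ (R.e_mem 0)) (R.top.smul_mem _ (R.e_mem _))
  have hq : ∀ a b : F, Q (a • e + b • e') = 0 := fun a b => by
    rw [QuadraticMap.map_add (⇑Q), QuadraticMap.map_smul, QuadraticMap.map_smul, QuadraticMap.polar_smul_left,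
      QuadraticMap.polar_smul_right, hee]
    simp [e, e', R.qe, R.tail.qe]
  have hp : ∀ a b c d : F, QuadraticMap.polar (⇑Q) (a • e + b • e') (c • e + d • e') = 0 := fun a b c d => by
    simp [QuadraticMap.polar_add_left, QuadraticMap.polar_add_right, QuadraticMap.polar_smul_left,
      QuadraticMap.polar_smul_right, hee, he'e, e, e', R.ee, R.tail.ee]
  have heq : ∀ a b c d : F, a * d - b * c = 1 →
      eich Q (a • e + b • e') (c • e + d • e') = eich Q e e' := fun a b c d h => by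
    refine Matrix.ext_iff_mulVec.2 fun x => ?_
    rw [eich_mulVec, eich_mulVec, hq, show Q e' = 0 from R.tail.qe 0]
    simp only [QuadraticMap.polar_add_left, QuadraticMap.polar_smul_left, smul_eq_mul]
    match_scalars <;> first
      | ring1
      | linear_combination QuadraticMap.polar (⇑Q) e x * h
      | linear_combination -QuadraticMap.polar (⇑Q) e x * h
      | linear_combination QuadraticMap.polar (⇑Q) e' x * h
      | linear_combination -QuadraticMap.polar (⇑Q) e' x * h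
  refine (Finset.card_bij (fun q _ => ((⟨q.1 • e + q.2.1 • e', hmem _ _⟩ : R.top),
    (⟨q.2.2.1 • e + q.2.2.2 • e', hmem _ _⟩ : R.top))) ?_ ?_ ?_).symm
  · intro q hq'
    obtain ⟨-, hdet⟩ := Finset.mem_filter.1 hq'
    refine Finset.mem_filter.2 ⟨(mem_rootPairs R).2 ⟨?_, hq _ _, hq _ _, hp _ _ _ _, ?_⟩, heq _ _ _ _ hdet⟩
    · intro h
      have h1 := congrArg (QuadraticMap.polar (⇑Q) (R.f 0)) h
      have h2 := congrArg (QuadraticMap.polar (⇑Q) (R.tail.f 0)) h
      simp [e, e', QuadraticMap.polar_add_right, QuadraticMap.polar_smul_right, R.toPr.fe_self,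
        R.tail.toPr.fe_self, (R.tail.e_mem 0).2.2, QuadraticMap.polar_comm (⇑Q) (R.tail.f 0) (R.e 0),
        (R.tail.f_mem 0).2.1] at h1 h2
      rw [h1, h2] at hdet
      simp at hdet
    · intro t h
      have h1 := congrArg (QuadraticMap.polar (⇑Q) (R.f 0)) h
      have h2 := congrArg (QuadraticMap.polar (⇑Q) (R.tail.f 0)) h
      simp [e, e', QuadraticMap.polar_add_right, QuadraticMap.polar_smul_right, R.toPr.fe_self,
        R.tail.toPr.fe_self, (R.tail.e_mem 0).2.2, QuadraticMap.polar_comm (⇑Q) (R.tail.f 0) (R.e 0),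
        (R.tail.f_mem 0).2.1] at h1 h2
      rw [h1, h2] at hdet
      exact zero_ne_one (α := F) (by linear_combination hdet)
  · intro q _ q' _ h
    have hu : q.1 • e + q.2.1 • e' = q'.1 • e + q'.2.1 • e' := congrArg (fun p : R.top × R.top => (p.1 : ι → F)) h
    have hy : q.2.2.1 • e + q.2.2.2 • e' = q'.2.2.1 • e + q'.2.2.2 • e' :=
      congrArg (fun p : R.top × R.top => (p.2 : ι → F)) h
    have h1 := congrArg (QuadraticMap.polar (⇑Q) (R.f 0)) hu
    have h2 := congrArg (QuadraticMap.polar (⇑Q) (R.tail.f 0)) hu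
    have h3 := congrArg (QuadraticMap.polar (⇑Q) (R.f 0)) hy
    have h4 := congrArg (QuadraticMap.polar (⇑Q) (R.tail.f 0)) hy
    simp [e, e', QuadraticMap.polar_add_right, QuadraticMap.polar_smul_right, R.toPr.fe_self,
      R.tail.toPr.fe_self, (R.tail.e_mem 0).2.2, QuadraticMap.polar_comm (⇑Q) (R.tail.f 0) (R.e 0),
      (R.tail.f_mem 0).2.1] at h1 h2 h3 h4
    exact Prod.ext h1 (Prod.ext h2 (Prod.ext h3 h4))
  · intro p hp'
    obtain ⟨hp1, hp2⟩ := Finset.mem_filter.1 hp'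
    obtain ⟨-, hu, hy, huy, -⟩ := (mem_rootPairs R).1 hp1
    set u : ι → F := (p.1 : ι → F)
    set y : ι → F := (p.2 : ι → F)
    have hz : ∀ x, QuadraticMap.polar (⇑Q) u x • y - QuadraticMap.polar (⇑Q) y x • u =
        QuadraticMap.polar (⇑Q) e x • e' - QuadraticMap.polar (⇑Q) e' x • e := fun x => by
      have h1 := congrArg (· *ᵥ x) hp2
      simp only [eich_mulVec, hy, show Q e' = 0 from R.tail.qe 0, zero_mul, zero_smul, sub_zero] at h1
      exact add_left_cancel h1
    have k1 : QuadraticMap.polar (⇑Q) u (R.f 0) • y - QuadraticMap.polar (⇑Q) y (R.f 0) • u = e' := by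
      rw [hz]
      simp [e, e', R.toPr.ef_self, QuadraticMap.polar_comm (⇑Q) (R.tail.e 0) (R.f 0), (R.tail.e_mem 0).2.2]
    have k2 : QuadraticMap.polar (⇑Q) u (R.tail.f 0) • y - QuadraticMap.polar (⇑Q) y (R.tail.f 0) • u = -e := by
      rw [hz]
      simp [e, e', R.tail.toPr.ef_self, (R.tail.f_mem 0).2.1]
    set a := QuadraticMap.polar (⇑Q) u (R.f 0)
    set b := QuadraticMap.polar (⇑Q) u (R.tail.f 0)
    set c := QuadraticMap.polar (⇑Q) y (R.f 0)
    set d := QuadraticMap.polar (⇑Q) y (R.tail.f 0)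
    have hdet : a * d - b * c = 1 := by
      have h1 := congrArg (QuadraticMap.polar (⇑Q) · (R.tail.f 0)) k1
      simp only [e', QuadraticMap.polar_sub_left, QuadraticMap.polar_smul_left, R.tail.toPr.ef_self, smul_eq_mul] at h1
      rw [← h1]; ring
    refine ⟨(a, b, c, d), Finset.mem_filter.2 ⟨Finset.mem_univ _, hdet⟩, Prod.ext (Subtype.ext ?_) (Subtype.ext ?_)⟩
    · show a • e + b • e' = u
      rw [← k1, show e = -(-e) from (neg_neg e).symm, ← k2]
      calc a • -(b • y - d • u) + b • (a • y - c • u) = (a * d - b * c) • u := by module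
        _ = u := by rw [hdet, one_smul]
    · show c • e + d • e' = y
      rw [← k1, show e = -(-e) from (neg_neg e).symm, ← k2]
      calc c • -(b • y - d • u) + d • (a • y - c • u) = (a * d - b * c) • y := by module
        _ = y := by rw [hdet, one_smul]

theorem sum_singular_char {ψ : AddChar F ℂ} (hψ : ψ.IsPrimitive) :
    ∑ w ∈ Finset.univ.filter (fun w : R.W1 => Q (w : ι → F) = 0),
      ψ (QuadraticMap.polar (⇑Q) (R.tail.e 0) (w : ι → F)) =
      (Fintype.card F : ℂ) * cnt Q R.tail.W1 0 - Fintype.card R.tail.W1 := by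
  classical
  let Φ : F × F × R.tail.W1 ≃ R.W1 := R.tail.coordEquiv
  have hΦ : ∀ p, (Φ p : ι → F) = p.1 • R.tail.e 0 + p.2.1 • R.tail.f 0 + (p.2.2 : ι → F) := fun p => rfl
  have hB : ∀ p, QuadraticMap.polar (⇑Q) (R.tail.e 0) (Φ p : ι → F) = p.2.1 := fun p => by
    rw [hΦ, QuadraticMap.polar_add_right, QuadraticMap.polar_add_right, QuadraticMap.polar_smul_right,
      QuadraticMap.polar_smul_right, R.tail.ee, R.tail.toPr.ef_self, p.2.2.2.2.1]
    simp
  have hQ : ∀ p, Q (Φ p : ι → F) = p.1 * p.2.1 + Q (p.2.2 : ι → F) := fun p => by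
    rw [hΦ]; exact R.tail.quad_comb _ _ p.2.2.2
  have h1 : ∀ (z : R.tail.W1) (b : F), b ≠ 0 →
      ∑ a : F, (if a * b + Q (z : ι → F) = 0 then ψ b else 0) = ψ b := fun z b hb => by
    rw [Finset.sum_eq_single (-Q (z : ι → F) / b) (fun a _ ha => if_neg fun h => ha (by
      rw [eq_div_iff hb]; linear_combination h)) (by simp),
      if_pos (by rw [div_mul_cancel₀ _ hb, neg_add_cancel])]
  have hψs : ∑ b ∈ Finset.univ.erase (0 : F), ψ b = -1 := by
    have h := sum_mul_char hψ (1 : F)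
    simp only [mul_one, one_ne_zero, if_false] at h
    rw [← Finset.add_sum_erase _ _ (Finset.mem_univ (0 : F)), AddChar.map_zero_eq_one] at h
    linear_combination h
  rw [Finset.sum_filter, ← Φ.sum_comp]
  simp only [hB, hQ]
  rw [Fintype.sum_prod_type, Finset.sum_congr rfl fun a _ => Fintype.sum_prod_type _, Finset.sum_comm,
    ← Finset.add_sum_erase _ _ (Finset.mem_univ (0 : F)),
    Finset.sum_congr rfl fun b hb => Finset.sum_comm.trans
      (Finset.sum_congr rfl fun z _ => h1 z b (Finset.ne_of_mem_erase hb)),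
    Finset.sum_congr rfl fun b _ => Finset.sum_const _]
  simp only [mul_zero, zero_add, AddChar.map_zero_eq_one, Finset.sum_boole, cnt,
    Finset.sum_const, Finset.card_univ, nsmul_eq_mul]
  rw [← Finset.mul_sum, hψs]
  ring

theorem card_pairs_eq_index :
    (rootPairs R).card = (Subgroup.centralizer ({rootEl R} : Set ↥(gw Q R.top))).index *
      (Fintype.card F * (Fintype.card F ^ 2 - 1)) := by
  classical
  rw [← card_fibre R, ← Characters.card_conjugates_eq_index, Nat.card_eq_fintype_card, Fintype.card_subtype]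
  set C := Finset.univ.filter fun x : ↥(gw Q R.top) => IsConj x (rootEl R)
  have hinj : Set.InjOn (fun x : ↥(gw Q R.top) => gmat x) C := fun a _ b _ h => Subtype.ext (mat_ext Q h)
  rw [← Finset.card_image_of_injOn hinj, ← smul_eq_mul, ← Finset.sum_const,
    Finset.card_eq_sum_card_fiberwise (f := fun p : R.top × R.top => eich Q (p.1 : ι → F) (p.2 : ι → F))
      (t := C.image fun x => gmat x) fun p hp => ?_]
  · refine Finset.sum_congr rfl fun X hX => ?_
    obtain ⟨x, hx, rfl⟩ := Finset.mem_image.1 hX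
    obtain ⟨c, rfl⟩ := isConj_iff.1 (Finset.mem_filter.1 hx).2.symm
    have htr : ∀ (c : ↥(gw Q R.top)) (p : R.top × R.top), IsRootPair R p →
        IsRootPair R (⟨gmat c *ᵥ (p.1 : ι → F), (gw_spec c.2).1 _ p.1.2⟩,
          ⟨gmat c *ᵥ (p.2 : ι → F), (gw_spec c.2).1 _ p.2.2⟩) ∧
        eich Q (gmat c *ᵥ (p.1 : ι → F)) (gmat c *ᵥ (p.2 : ι → F)) =
          gmat c * eich Q (p.1 : ι → F) (p.2 : ι → F) * gmat c⁻¹ := by
      rintro c p ⟨hu0, hu, hy, huy, hind⟩
      refine ⟨⟨fun h => hu0 ?_, ?_, ?_, ?_, fun t h => hind t ?_⟩, ?_⟩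
      · rw [← gmat_inv_mulVec (h : gmat c *ᵥ (p.1 : ι → F) = 0), Matrix.mulVec_zero]
      · exact (quad_mulVec Q _ _).trans hu
      · exact (quad_mulVec Q _ _).trans hy
      · exact (polar_mulVec Q _ _ _).trans huy
      · have h' : gmat c *ᵥ (p.2 : ι → F) = gmat c *ᵥ (t • (p.1 : ι → F)) := by
          rw [Matrix.mulVec_smul]; exact h
        rw [← gmat_inv_mulVec h', gmat_inv_mulVec rfl]
      · rw [show gmat c * eich Q (p.1 : ι → F) (p.2 : ι → F) = _ from
          conj_eich (c : ↥(Cfsg.isometryGroup F ⇑Q)) (p.1 : ι → F) (p.2 : ι → F), mul_assoc,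
          ← gmat_mul, mul_inv_cancel, gmat_one, mul_one]
    refine Finset.card_bij' (fun p _ => (⟨gmat c⁻¹ *ᵥ (p.1 : ι → F), (gw_spec c⁻¹.2).1 _ p.1.2⟩,
          ⟨gmat c⁻¹ *ᵥ (p.2 : ι → F), (gw_spec c⁻¹.2).1 _ p.2.2⟩))
      (fun p _ => (⟨gmat c *ᵥ (p.1 : ι → F), (gw_spec c.2).1 _ p.1.2⟩,
          ⟨gmat c *ᵥ (p.2 : ι → F), (gw_spec c.2).1 _ p.2.2⟩)) ?_ ?_ ?_ ?_
    · intro p hp
      obtain ⟨h1, h2⟩ := Finset.mem_filter.1 hp
      obtain ⟨h3, h4⟩ := htr c⁻¹ p ((mem_rootPairs R).1 h1)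
      refine Finset.mem_filter.2 ⟨(mem_rootPairs R).2 h3, h4.trans ?_⟩
      rw [h2, gmat_mul, gmat_mul, inv_inv]
      simp only [mul_assoc, ← gmat_mul, inv_mul_cancel, gmat_one, mul_one]
      simp only [← mul_assoc, ← gmat_mul, inv_mul_cancel, gmat_one, one_mul]
      exact gmat_rootEl R
    · intro p hp
      obtain ⟨h1, h2⟩ := Finset.mem_filter.1 hp
      obtain ⟨h3, h4⟩ := htr c p ((mem_rootPairs R).1 h1)
      refine Finset.mem_filter.2 ⟨(mem_rootPairs R).2 h3, h4.trans ?_⟩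
      rw [h2, gmat_mul, gmat_mul, gmat_rootEl]
    · intro p _
      refine Prod.ext (Subtype.ext ?_) (Subtype.ext ?_) <;>
        simp only [Matrix.mulVec_mulVec, ← gmat_mul, mul_inv_cancel, gmat_one, Matrix.one_mulVec]
    · intro p _
      refine Prod.ext (Subtype.ext ?_) (Subtype.ext ?_) <;>
        simp only [Matrix.mulVec_mulVec, ← gmat_mul, inv_mul_cancel, gmat_one, Matrix.one_mulVec]
  · have hp' := (mem_rootPairs R).1 hp
    obtain ⟨g, hg⟩ := exists_move_pair R hp'
    exact Finset.mem_image.2 ⟨⟨eichIso Q _ _ hp'.2.1 hp'.2.2.2.1, eichIso_mem_gw p.1.2 p.2.2 hp'.2.1 hp'.2.2.2.1⟩,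
      Finset.mem_filter.2 ⟨Finset.mem_univ _, isConj_iff.2 ⟨g, hg hp'.2.2.2.1⟩⟩, rfl⟩

variable {V : Type*} [AddCommGroup V] [Module ℂ V] [FiniteDimensional ℂ V]

/-- The degree condition. -/
theorem finrank_mul_dvd (σ : Representation ℂ ↥(gw Q R.top) V) [σ.IsIrreducible] {ψ : AddChar F ℂ}
    (hψ : ψ.IsPrimitive) (hns : ∀ c : F, c ≠ 0 → mOf ψ R σ c = 0) (h1 : mOf ψ R σ 0 = 1) :
    finrank ℂ V * (Fintype.card F ^ 2 - 1) ∣
      cntNZ Q R.top 0 * cntNZ Q R.W1 0 * (Fintype.card F * Fintype.card R.tail.W1) := by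
  classical
  set q := Fintype.card F
  set K := (Subgroup.centralizer ({rootEl R} : Set ↥(gw Q R.top))).index
  have hrk : ∀ w : R.W1, (rnk (wP ψ R σ (w : ι → F)) : ℂ) =
      (if w = 0 then (rnk (wP ψ R σ 0) : ℂ) - 1 else 0) + if Q (w : ι → F) = 0 then 1 else 0 := by
    intro w
    by_cases hw : w = 0
    · subst hw; simp
    · rw [rnk_wP_eq R σ w hw, if_neg hw, zero_add]
      by_cases hq : Q (w : ι → F) = 0
      · rw [if_pos hq, hq, h1, Nat.cast_one]
      · rw [if_neg hq, hns _ hq, Nat.cast_zero]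
  have hD := finrank_eq_singular R σ hψ hns
  have hpos : 1 ≤ cnt Q R.W1 0 := Finset.card_pos.2 ⟨0, by simp⟩
  have hW : cnt Q R.W1 0 = q * cnt Q R.tail.W1 0 + (q - 1) * Fintype.card R.tail.W1 := cnt_top R.tail 0
  have hχ : σ.character (rootEl R) = (finrank ℂ V : ℂ) - (q : ℂ) * Fintype.card R.tail.W1 := by
    rw [rootEl, Representation.character, trace_rootE R σ hψ]
    simp only [hrk, mul_add, Finset.sum_add_distrib, mul_ite, mul_zero, Finset.sum_ite_eq', Finset.mem_univ,
      if_true, mul_one]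
    rw [← Finset.sum_filter, sum_singular_char R hψ, hD, h1, mul_one, cntNZ, if_pos rfl, Nat.cast_add,
      Nat.cast_sub hpos, hW, Nat.cast_add, Nat.cast_mul, Nat.cast_mul, Nat.cast_sub Fintype.card_pos]
    simp
    ring
  have hint := Characters.isIntegral_index_mul_char_div σ (rootEl R)
  have hpos' : finrank ℂ V ≠ 0 := (Characters.finrank_pos_of_isIrreducible σ).ne'
  have hdvd : finrank ℂ V ∣ K * (q * Fintype.card R.tail.W1) := by
    refine Characters.dvd_of_isIntegral_div hpos' ?_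
    have h2 := (isIntegral_algebraMap (R := ℤ) (A := ℂ) (x := (K : ℤ))).sub hint
    have hne : (finrank ℂ V : ℂ) ≠ 0 := Nat.cast_ne_zero.2 hpos'
    have heq : ((K * (q * Fintype.card R.tail.W1) : ℕ) : ℂ) / (finrank ℂ V : ℂ) =
        algebraMap ℤ ℂ (K : ℤ) - (K : ℂ) * σ.character (rootEl R) / (finrank ℂ V : ℂ) := by
      rw [hχ]
      simp
      field_simp
      ring
    rw [heq]
    exact h2
  have h3 : finrank ℂ V * (q * (q ^ 2 - 1)) ∣ (rootPairs R).card * (q * Fintype.card R.tail.W1) := by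
    rw [card_pairs_eq_index, show K * (q * (q ^ 2 - 1)) * (q * Fintype.card R.tail.W1) =
      K * (q * Fintype.card R.tail.W1) * (q * (q ^ 2 - 1)) by ring]
    exact Nat.mul_dvd_mul_right hdvd _
  rw [card_rootPairs] at h3
  refine (Nat.mul_dvd_mul_iff_left (Fintype.card_pos (α := F))).1 ?_
  calc q * (finrank ℂ V * (q ^ 2 - 1)) = finrank ℂ V * (q * (q ^ 2 - 1)) := by ring
    _ ∣ cntNZ Q R.top 0 * (q * cntNZ Q R.W1 0) * (q * Fintype.card R.tail.W1) := h3
    _ = q * (cntNZ Q R.top 0 * cntNZ Q R.W1 0 * (q * Fintype.card R.tail.W1)) := by ring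

end CfsgLib.OrthDeg
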