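import Cfsg.Agent.Forms4.OmegaSimple
import Cfsg.Agent.Linear.Perfect

/-!
# Frames of hyperbolic pairs inside a quadratic space

A frame is a non-degenerate subspace with pairwise perpendicular hyperbolic pairs; `W i` is the part
perpendicular to the first `i` pairs, `gw S` the group generated by the Eichler maps supported in `S`.
-/

set_option autoImplicit false
set_option linter.unusedSectionVars false

namespace CfsgLib.OrthDeg

open Matrix Module CfsgLib.Forms CfsgLib.Spinor CfsgLib.Forms4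

variable {F : Type*} [Field F] {ι : Type} [Fintype ι] [DecidableEq ι] {Q : QuadraticForm F (ι → F)}

/-- The group generated by the Eichler maps supported in `S`. -/
def gw (Q : QuadraticForm F (ι → F)) (S : Submodule F (ι → F)) : Subgroup ↥(Cfsg.isometryGroup F ⇑Q) :=
  Subgroup.closure {g | ∃ u ∈ S, ∃ w ∈ S, Q u = 0 ∧ QuadraticMap.polar (⇑Q) u w = 0 ∧ mat Q g = eich Q u w}

theorem eichIso_mem_gw {S : Submodule F (ι → F)} {u w : ι → F} (hu : u ∈ S) (hw : w ∈ S) (hq : Q u = 0)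
    (huw : QuadraticMap.polar (⇑Q) u w = 0) : eichIso Q u w hq huw ∈ gw Q S :=
  Subgroup.subset_closure ⟨u, hu, w, hw, hq, huw, rfl⟩

theorem gw_mono {S T : Submodule F (ι → F)} (h : S ≤ T) : gw Q S ≤ gw Q T :=
  Subgroup.closure_mono fun _ ⟨u, hu, w, hw, h'⟩ => ⟨u, h hu, w, h hw, h'⟩

theorem gw_top : gw Q ⊤ = eichGroup Q :=
  congrArg Subgroup.closure (Set.ext fun g => ⟨fun ⟨u, _, w, _, h⟩ => ⟨u, w, h⟩,
    fun ⟨u, w, h⟩ => ⟨u, trivial, w, trivial, h⟩⟩)

/-- An element of `gw S` preserves `S` and fixes the vectors perpendicular to `S`. -/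
theorem gw_spec {S : Submodule F (ι → F)} {g : ↥(Cfsg.isometryGroup F ⇑Q)} (hg : g ∈ gw Q S) :
    (∀ x ∈ S, mat Q g *ᵥ x ∈ S) ∧ ∀ x, (∀ y ∈ S, QuadraticMap.polar (⇑Q) y x = 0) → mat Q g *ᵥ x = x := by
  induction hg using Subgroup.closure_induction'' with
  | mem y hy =>
    obtain ⟨u, hu, w, hw, -, -, hy⟩ := hy
    refine ⟨fun x hx => ?_, fun x hx => ?_⟩
    · rw [hy, eich_mulVec]
      exact S.add_mem hx (S.sub_mem (S.sub_mem (S.smul_mem _ hw) (S.smul_mem _ hu)) (S.smul_mem _ hu))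
    · rw [hy, eich_mulVec, hx u hu, hx w hw]
      simp
  | inv_mem y hy =>
    obtain ⟨u, hu, w, hw, hq, huw, hy⟩ := hy
    have : y = eichIso Q u w hq huw := mat_ext Q hy
    subst this
    refine ⟨fun x hx => ?_, fun x hx => ?_⟩
    · rw [show mat Q (eichIso Q u w hq huw)⁻¹ = eich Q u (-w) from rfl, eich_mulVec]
      exact S.add_mem hx (S.sub_mem (S.sub_mem (S.smul_mem _ (S.neg_mem hw)) (S.smul_mem _ hu))
        (S.smul_mem _ hu))
    · rw [show mat Q (eichIso Q u w hq huw)⁻¹ = eich Q u (-w) from rfl, eich_mulVec, hx u hu,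
        hx (-w) (S.neg_mem hw)]
      simp
  | one => simp [mat_one]
  | mul a b _ _ ha hb =>
    refine ⟨fun x hx => ?_, fun x hx => ?_⟩
    · rw [mat_mul, ← Matrix.mulVec_mulVec]; exact ha.1 _ (hb.1 x hx)
    · rw [mat_mul, ← Matrix.mulVec_mulVec, hb.2 x hx, ha.2 x hx]

theorem conj_eichIso_eq {g : ↥(Cfsg.isometryGroup F ⇑Q)} {u w : ι → F} (hq : Q u = 0) (huw : QuadraticMap.polar (⇑Q) u w = 0)
    {u' w' : ι → F} (hu' : mat Q g *ᵥ u = u') (hw' : mat Q g *ᵥ w = w') (hq' : Q u' = 0)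
    (huw' : QuadraticMap.polar (⇑Q) u' w' = 0) :
    g * eichIso Q u w hq huw * g⁻¹ = eichIso Q u' w' hq' huw' := by
  rw [mul_inv_eq_iff_eq_mul]
  refine mat_ext Q ?_
  rw [mat_mul, mat_mul, mat_eichIso, mat_eichIso, conj_eich, hu', hw']

theorem eich_add_smul_self {u w : ι → F} (hq : Q u = 0) (huw : QuadraticMap.polar (⇑Q) u w = 0) (t : F) :
    eich Q u (w + t • u) = eich Q u w := by
  rw [← eich_mul hq huw (by rw [QuadraticMap.polar_smul_right, polar_self', hq]; simp),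
    eich_smul_self Q hq, mul_one]

/-- Eichler maps along a moving isotropic vector. -/
theorem eich_add_left {u u' y : ι → F} (hu : Q u = 0) (hu' : Q u' = 0) (huu : QuadraticMap.polar (⇑Q) u u' = 0) (huy : QuadraticMap.polar (⇑Q) u y = 0)
    (hu'y : QuadraticMap.polar (⇑Q) u' y = 0) (t : F) :
    eich Q (u + t • u') y = eich Q u y * eich Q u' (t • y + (t * Q y) • u) := by
  refine Matrix.ext_iff_mulVec.2 fun x => ?_
  have h1 : QuadraticMap.polar (⇑Q) u u = 0 := by rw [polar_self', hu, mul_zero]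
  have h2 : QuadraticMap.polar (⇑Q) y u = 0 := by rw [QuadraticMap.polar_comm, huy]
  have h3 : QuadraticMap.polar (⇑Q) u' u = 0 := by rw [QuadraticMap.polar_comm, huu]
  have h4 : QuadraticMap.polar (⇑Q) y u' = 0 := by rw [QuadraticMap.polar_comm, hu'y]
  have h5 : QuadraticMap.polar (⇑Q) y y = 2 * Q y := polar_self' Q y
  have hQ : Q (t • y + (t * Q y) • u) = t * t * Q y := by
    rw [QuadraticMap.map_add (⇑Q), QuadraticMap.map_smul, QuadraticMap.map_smul, hu,
      QuadraticMap.polar_smul_left, QuadraticMap.polar_smul_right, h2]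
    simp
  rw [← Matrix.mulVec_mulVec, eich_mulVec u' (t • y + (t * Q y) • u), eich_mulVec, eich_mulVec, hQ]
  simp only [QuadraticMap.polar_add_right, QuadraticMap.polar_sub_right, QuadraticMap.polar_smul_right,
    QuadraticMap.polar_add_left, QuadraticMap.polar_smul_left, smul_eq_mul, huu, huy, h1, h2, h3, h4, h5]
  module

/-- Pairwise perpendicular hyperbolic pairs. -/
structure Pr (Q : QuadraticForm F (ι → F)) (m : ℕ) where
  /-- first vectors -/
  e : Fin m → ι → F
  /-- their partners -/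
  f : Fin m → ι → F
  qe : ∀ i, Q (e i) = 0
  qf : ∀ i, Q (f i) = 0
  ee : ∀ i j, QuadraticMap.polar (⇑Q) (e i) (e j) = 0
  ff : ∀ i j, QuadraticMap.polar (⇑Q) (f i) (f j) = 0
  ef : ∀ i j, QuadraticMap.polar (⇑Q) (e i) (f j) = if i = j then 1 else 0

namespace Pr

variable {m : ℕ} (P : Pr Q m)

theorem fe (i j : Fin m) : QuadraticMap.polar (⇑Q) (P.f i) (P.e j) = if i = j then 1 else 0 := by
  rw [QuadraticMap.polar_comm, P.ef]
  simp [eq_comm]

theorem ef_self (i : Fin m) : QuadraticMap.polar (⇑Q) (P.e i) (P.f i) = 1 := by rw [P.ef, if_pos rfl]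

theorem ef_ne {i j : Fin m} (h : i ≠ j) : QuadraticMap.polar (⇑Q) (P.e i) (P.f j) = 0 := by rw [P.ef, if_neg h]

theorem fe_self (i : Fin m) : QuadraticMap.polar (⇑Q) (P.f i) (P.e i) = 1 := by rw [P.fe, if_pos rfl]

theorem fe_ne {i j : Fin m} (h : i ≠ j) : QuadraticMap.polar (⇑Q) (P.f i) (P.e j) = 0 := by rw [P.fe, if_neg h]

theorem e_ne_zero (i : Fin m) : P.e i ≠ 0 := fun h => by
  have := P.ef_self i
  rw [h, QuadraticMap.polar_zero_left] at this
  exact zero_ne_one this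

/-- The same pairs along an injection. -/
def comp {k : ℕ} (σ : Fin k ↪ Fin m) : Pr Q k where
  e := P.e ∘ σ
  f := P.f ∘ σ
  qe i := P.qe _
  qf i := P.qf _
  ee i j := P.ee _ _
  ff i j := P.ff _ _
  ef i j := by simp [P.ef]

/-- Exchange the two vectors of the pairs in `s`. -/
def flip (s : Finset (Fin m)) : Pr Q m where
  e i := if i ∈ s then P.f i else P.e i
  f i := if i ∈ s then P.e i else P.f i
  qe i := by split_ifs <;> simp [P.qe, P.qf]
  qf i := by split_ifs <;> simp [P.qe, P.qf]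
  ee i j := by
    split_ifs with h1 h2 h2
    · exact P.ff i j
    · exact P.fe_ne (fun h => h2 (h ▸ h1))
    · exact P.ef_ne (fun h => h1 (h ▸ h2))
    · exact P.ee i j
  ff i j := by
    split_ifs with h1 h2 h2
    · exact P.ee i j
    · exact P.ef_ne (fun h => h2 (h ▸ h1))
    · exact P.fe_ne (fun h => h1 (h ▸ h2))
    · exact P.ff i j
  ef i j := by
    rcases eq_or_ne i j with rfl | h
    · rw [if_pos rfl]
      split_ifs with h1
      · exact P.fe_self i
      · exact P.ef_self i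
    · rw [if_neg h]
      split_ifs
      · exact P.fe_ne h
      · exact P.ff i j
      · exact P.ee i j
      · exact P.ef_ne h

end Pr

/-- A frame: pairs inside a non-degenerate subspace. -/
structure Fr (Q : QuadraticForm F (ι → F)) (n : ℕ) extends Pr Q n where
  /-- the ambient subspace -/
  top : Submodule F (ι → F)
  e_mem : ∀ i, e i ∈ top
  f_mem : ∀ i, f i ∈ top
  sep : ∀ x ∈ top, (∀ y ∈ top, QuadraticMap.polar (⇑Q) x y = 0) → x = 0

namespace Fr

variable {n : ℕ} (R : Fr Q (n + 1))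

/-- The perpendicular space of the first pair inside the top. -/
def W1 : Submodule F (ι → F) where
  carrier := {x | x ∈ R.top ∧ QuadraticMap.polar (⇑Q) (R.e 0) x = 0 ∧ QuadraticMap.polar (⇑Q) (R.f 0) x = 0}
  add_mem' := fun ⟨h1, h2, h3⟩ ⟨h1', h2', h3'⟩ => ⟨R.top.add_mem h1 h1',
    by rw [QuadraticMap.polar_add_right, h2, h2', add_zero],
    by rw [QuadraticMap.polar_add_right, h3, h3', add_zero]⟩
  zero_mem' := ⟨R.top.zero_mem, QuadraticMap.polar_zero_right _ _, QuadraticMap.polar_zero_right _ _⟩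
  smul_mem' := fun c _ ⟨h1, h2, h3⟩ => ⟨R.top.smul_mem c h1,
    by rw [QuadraticMap.polar_smul_right, h2, smul_zero],
    by rw [QuadraticMap.polar_smul_right, h3, smul_zero]⟩

theorem W1_le : R.W1 ≤ R.top := fun _ h => h.1

theorem mem_W1_of_perp {x : ι → F} (h : x ∈ R.top) (he : QuadraticMap.polar (⇑Q) (R.e 0) x = 0) (hf : QuadraticMap.polar (⇑Q) (R.f 0) x = 0) :
    x ∈ R.W1 := ⟨h, he, hf⟩

theorem e_succ_mem (i : Fin n) : R.e i.succ ∈ R.W1 :=
  ⟨R.e_mem _, R.ee _ _, R.toPr.fe_ne (Fin.succ_ne_zero i).symm⟩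

theorem f_succ_mem (i : Fin n) : R.f i.succ ∈ R.W1 :=
  ⟨R.f_mem _, R.toPr.ef_ne (Fin.succ_ne_zero i).symm, R.ff _ _⟩

/-- The component in `W1`. -/
def proj (x : ι → F) : ι → F := x - QuadraticMap.polar (⇑Q) (R.f 0) x • R.e 0 - QuadraticMap.polar (⇑Q) (R.e 0) x • R.f 0

theorem decomp (x : ι → F) : x = QuadraticMap.polar (⇑Q) (R.f 0) x • R.e 0 + QuadraticMap.polar (⇑Q) (R.e 0) x • R.f 0 + R.proj x := by
  rw [proj]; module

theorem proj_mem {x : ι → F} (hx : x ∈ R.top) : R.proj x ∈ R.W1 := by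
  refine ⟨R.top.sub_mem (R.top.sub_mem hx (R.top.smul_mem _ (R.e_mem 0))) (R.top.smul_mem _ (R.f_mem 0)),
    ?_, ?_⟩ <;>
    simp [proj, QuadraticMap.polar_sub_right, QuadraticMap.polar_smul_right, R.ee, R.ff,
      R.toPr.ef_self, R.toPr.fe_self]

theorem comb_mem (a b : F) {z : ι → F} (hz : z ∈ R.W1) : a • R.e 0 + b • R.f 0 + z ∈ R.top :=
  R.top.add_mem (R.top.add_mem (R.top.smul_mem _ (R.e_mem 0)) (R.top.smul_mem _ (R.f_mem 0))) hz.1

theorem quad_comb (a b : F) {z : ι → F} (hz : z ∈ R.W1) :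
    Q (a • R.e 0 + b • R.f 0 + z) = a * b + Q z := by
  rw [QuadraticMap.map_add (⇑Q), QuadraticMap.map_add (⇑Q), QuadraticMap.map_smul,
    QuadraticMap.map_smul, R.qe, R.qf, QuadraticMap.polar_add_left,
    QuadraticMap.polar_smul_left, QuadraticMap.polar_smul_left, QuadraticMap.polar_smul_left,
    QuadraticMap.polar_smul_right, R.toPr.ef_self, hz.2.1, hz.2.2]
  simp

theorem polar_comb (a b a' b' : F) {z z' : ι → F} (hz : z ∈ R.W1) (hz' : z' ∈ R.W1) :
    QuadraticMap.polar (⇑Q) (a • R.e 0 + b • R.f 0 + z) (a' • R.e 0 + b' • R.f 0 + z') = a * b' + b * a' + QuadraticMap.polar (⇑Q) z z' := by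
  simp only [QuadraticMap.polar_add_left, QuadraticMap.polar_add_right, QuadraticMap.polar_smul_left,
    QuadraticMap.polar_smul_right, R.ee, R.ff, R.toPr.ef_self, R.toPr.fe_self, hz'.2.1, hz'.2.2,
    QuadraticMap.polar_comm (⇑Q) z (R.e 0), QuadraticMap.polar_comm (⇑Q) z (R.f 0), hz.2.1, hz.2.2,
    smul_eq_mul]
  ring

/-- Coordinates in the top. -/
def coordEquiv : F × F × R.W1 ≃ R.top where
  toFun p := ⟨p.1 • R.e 0 + p.2.1 • R.f 0 + p.2.2, R.comb_mem _ _ p.2.2.2⟩
  invFun x := (QuadraticMap.polar (⇑Q) (R.f 0) x, QuadraticMap.polar (⇑Q) (R.e 0) x, ⟨R.proj x, R.proj_mem x.2⟩)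
  left_inv := fun ⟨a, b, z⟩ => by
    have h1 : QuadraticMap.polar (⇑Q) (R.f 0) (a • R.e 0 + b • R.f 0 + z) = a := by
      simp [QuadraticMap.polar_add_right, QuadraticMap.polar_smul_right, R.ff, R.toPr.fe_self, z.2.2.2]
    have h2 : QuadraticMap.polar (⇑Q) (R.e 0) (a • R.e 0 + b • R.f 0 + z) = b := by
      simp [QuadraticMap.polar_add_right, QuadraticMap.polar_smul_right, R.ee, R.toPr.ef_self, z.2.2.1]
    refine Prod.ext h1 (Prod.ext h2 (Subtype.ext ?_))
    show R.proj _ = _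
    rw [proj, h1, h2]
    module
  right_inv := fun x => Subtype.ext (R.decomp x).symm

theorem coordEquiv_apply (p : F × F × R.W1) :
    (R.coordEquiv p : ι → F) = p.1 • R.e 0 + p.2.1 • R.f 0 + p.2.2 := rfl

theorem sep_W1 {x : ι → F} (hx : x ∈ R.W1) (h : ∀ y ∈ R.W1, QuadraticMap.polar (⇑Q) x y = 0) : x = 0 := by
  refine R.sep x hx.1 fun y hy => ?_
  rw [R.decomp y, QuadraticMap.polar_add_right, QuadraticMap.polar_add_right,
    QuadraticMap.polar_smul_right, QuadraticMap.polar_smul_right, QuadraticMap.polar_comm (⇑Q) x (R.e 0),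
    QuadraticMap.polar_comm (⇑Q) x (R.f 0), hx.2.1, hx.2.2, h _ (R.proj_mem hy)]
  simp

/-- The frame of the remaining pairs. -/
def tail : Fr Q n where
  toPr := R.toPr.comp ⟨Fin.succ, Fin.succ_injective _⟩
  top := R.W1
  e_mem := R.e_succ_mem
  f_mem := R.f_succ_mem
  sep _ hx h := R.sep_W1 hx h

theorem tail_top : R.tail.top = R.W1 := rfl

theorem tail_e (i : Fin n) : R.tail.e i = R.e i.succ := rfl

theorem tail_f (i : Fin n) : R.tail.f i = R.f i.succ := rfl

/-- Exchanging the vectors of some pairs. -/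
def flip {m : ℕ} (R : Fr Q m) (s : Finset (Fin m)) : Fr Q m where
  toPr := R.toPr.flip s
  top := R.top
  e_mem i := by show (if i ∈ s then R.f i else R.e i) ∈ R.top; split_ifs <;> simp [R.e_mem, R.f_mem]
  f_mem i := by show (if i ∈ s then R.e i else R.f i) ∈ R.top; split_ifs <;> simp [R.e_mem, R.f_mem]
  sep := R.sep

theorem flip_e {m : ℕ} (R : Fr Q m) (s : Finset (Fin m)) (i : Fin m) :
    (R.flip s).e i = if i ∈ s then R.f i else R.e i := rfl

theorem flip_f {m : ℕ} (R : Fr Q m) (s : Finset (Fin m)) (i : Fin m) :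
    (R.flip s).f i = if i ∈ s then R.e i else R.f i := rfl

theorem eich_e_apply (a b : F) {z w : ι → F} (hz : z ∈ R.W1) (hw : w ∈ R.W1) :
    eich Q (R.e 0) w *ᵥ (a • R.e 0 + b • R.f 0 + z) =
      (a - QuadraticMap.polar (⇑Q) w z - Q w * b) • R.e 0 + b • R.f 0 + (z + b • w) := by
  simp only [eich_mulVec, QuadraticMap.polar_add_right, QuadraticMap.polar_smul_right, R.ee, R.toPr.ef_self,
    hz.2.1, QuadraticMap.polar_comm (⇑Q) w (R.e 0), QuadraticMap.polar_comm (⇑Q) w (R.f 0), hw.2.1, hw.2.2,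
    smul_eq_mul]
  module

theorem eich_f_apply (a b : F) {z w : ι → F} (hz : z ∈ R.W1) (hw : w ∈ R.W1) :
    eich Q (R.f 0) w *ᵥ (a • R.e 0 + b • R.f 0 + z) =
      a • R.e 0 + (b - QuadraticMap.polar (⇑Q) w z - Q w * a) • R.f 0 + (z + a • w) := by
  simp only [eich_mulVec, QuadraticMap.polar_add_right, QuadraticMap.polar_smul_right, R.ff, R.toPr.fe_self,
    hz.2.2, QuadraticMap.polar_comm (⇑Q) w (R.e 0), QuadraticMap.polar_comm (⇑Q) w (R.f 0), hw.2.1, hw.2.2,
    smul_eq_mul]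
  module

end Fr

/-- The root subgroup `w ↦ E (e₀, w)`. -/
noncomputable def rootE {n : ℕ} (R : Fr Q (n + 1)) : AddChar R.W1 ↥(gw Q R.top) where
  toFun w := ⟨eichIso Q (R.e 0) w (R.qe 0) w.2.2.1, eichIso_mem_gw (R.e_mem 0) w.2.1 _ _⟩
  map_zero_eq_one' := Subtype.ext (mat_ext Q (eich_zero _))
  map_add_eq_mul' w w' := Subtype.ext (mat_ext Q (eich_mul (R.qe 0) w.2.2.1 w'.2.2.1).symm)

theorem mat_rootE {n : ℕ} (R : Fr Q (n + 1)) (w : R.W1) :
    mat Q (rootE R w : ↥(Cfsg.isometryGroup F ⇑Q)) = eich Q (R.e 0) w := rfl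

/-- The same for `f₀`. -/
noncomputable def rootF {n : ℕ} (R : Fr Q (n + 1)) : AddChar R.W1 ↥(gw Q R.top) where
  toFun w := ⟨eichIso Q (R.f 0) w (R.qf 0) w.2.2.2, eichIso_mem_gw (R.f_mem 0) w.2.1 _ _⟩
  map_zero_eq_one' := Subtype.ext (mat_ext Q (eich_zero _))
  map_add_eq_mul' w w' := Subtype.ext (mat_ext Q (eich_mul (R.qf 0) w.2.2.2 w'.2.2.2).symm)

theorem mat_rootF {n : ℕ} (R : Fr Q (n + 1)) (w : R.W1) :
    mat Q (rootF R w : ↥(Cfsg.isometryGroup F ⇑Q)) = eich Q (R.f 0) w := rfl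

/-- The subgroup generated by the two root subgroups of the first pair. -/
noncomputable def rootGroup {n : ℕ} (R : Fr Q (n + 1)) : Subgroup ↥(gw Q R.top) :=
  Subgroup.closure (Set.range (rootE R) ∪ Set.range (rootF R))

theorem rootE_mem {n : ℕ} (R : Fr Q (n + 1)) (w : R.W1) : rootE R w ∈ rootGroup R :=
  Subgroup.subset_closure (.inl ⟨w, rfl⟩)

theorem rootF_mem {n : ℕ} (R : Fr Q (n + 1)) (w : R.W1) : rootF R w ∈ rootGroup R :=
  Subgroup.subset_closure (.inr ⟨w, rfl⟩)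

/-- The matrix of an element of `gw`. -/
abbrev gmat {S : Submodule F (ι → F)} (g : ↥(gw Q S)) : Matrix ι ι F :=
  mat Q (g : ↥(Cfsg.isometryGroup F ⇑Q))

theorem gmat_mul {S : Submodule F (ι → F)} (g h : ↥(gw Q S)) : gmat (g * h) = gmat g * gmat h := rfl

theorem gmat_one {S : Submodule F (ι → F)} : gmat (1 : ↥(gw Q S)) = 1 := rfl

theorem gmat_inv_mulVec {S : Submodule F (ι → F)} {g : ↥(gw Q S)} {x y : ι → F} (h : gmat g *ᵥ x = y) :
    gmat g⁻¹ *ᵥ y = x := by
  rw [← h, Matrix.mulVec_mulVec, ← gmat_mul, inv_mul_cancel, gmat_one, Matrix.one_mulVec]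

namespace Fr

variable {n : ℕ} (R : Fr Q (n + 2))

/-- Every non-zero vector of the top goes to its normal form. -/
theorem exists_to_normal {x : ι → F} (hx : x ∈ R.top) (hx0 : x ≠ 0) :
    ∃ g ∈ rootGroup R, gmat g *ᵥ x = Q x • R.e 0 + R.f 0 := by
  set e1 := R.e (Fin.succ 0) with he1
  set f1 := R.f (Fin.succ 0) with hf1
  have hq : ∀ t : F, Q (e1 + t • f1) = t := fun t => by
    rw [QuadraticMap.map_add (⇑Q), QuadraticMap.map_smul, R.qe, R.qf, QuadraticMap.polar_smul_right,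
      R.toPr.ef_self]
    simp
  have hm : ∀ t : F, e1 + t • f1 ∈ R.W1 := fun t =>
    R.W1.add_mem (R.e_succ_mem 0) (R.W1.smul_mem _ (R.f_succ_mem 0))
  have hQform : ∀ (a b : F) (z : ι → F) (hz : z ∈ R.W1) (g : ↥(gw Q R.top)),
      gmat g *ᵥ x = a • R.e 0 + b • R.f 0 + z → Q x = a * b + Q z := fun a b z hz g h => by
    rw [← quad_mulVec Q (g : ↥(Cfsg.isometryGroup F ⇑Q)) x]
    exact (congrArg Q h).trans (R.quad_comb a b hz)
  obtain ⟨g₁, hg₁, a, b, z, hz, hb, h1⟩ : ∃ g ∈ rootGroup R, ∃ a b : F, ∃ z : ι → F, z ∈ R.W1 ∧ b ≠ 0 ∧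
      gmat g *ᵥ x = a • R.e 0 + b • R.f 0 + z := by
    set a := QuadraticMap.polar (⇑Q) (R.f 0) x
    set b := QuadraticMap.polar (⇑Q) (R.e 0) x
    have hz : R.proj x ∈ R.W1 := R.proj_mem hx
    have hd : x = a • R.e 0 + b • R.f 0 + R.proj x := R.decomp x
    by_cases hb : b = 0
    swap
    · exact ⟨1, one_mem _, a, b, _, hz, hb, by rw [gmat_one, Matrix.one_mulVec]; exact hd⟩
    obtain ⟨y, hy, hne⟩ : ∃ y ∈ R.W1, b - QuadraticMap.polar (⇑Q) y (R.proj x) - Q y * a ≠ 0 := by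
      by_contra hall
      push Not at hall
      have hadd : ∀ y y', y ∈ R.W1 → y' ∈ R.W1 → QuadraticMap.polar (⇑Q) y y' * a = 0 := fun y y' hy hy' => by
        have h3 := hall (y + y') (R.W1.add_mem hy hy')
        rw [QuadraticMap.polar_add_left, QuadraticMap.map_add (⇑Q)] at h3
        linear_combination hall y hy + hall y' hy' - h3 - hb
      have ha : a = 0 := by
        simpa [R.toPr.ef_self] using hadd _ _ (R.e_succ_mem 0) (R.f_succ_mem 0)
      have hzW : R.proj x = 0 := R.sep_W1 hz fun y hy => by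
        have h3 := hall y hy
        rw [hb, ha] at h3
        rw [QuadraticMap.polar_comm]
        linear_combination -h3
      exact hx0 (by rw [hd, ha, hb, hzW]; simp)
    refine ⟨rootF R ⟨y, hy⟩, rootF_mem R _, a, _, R.proj x + a • y, R.W1.add_mem hz (R.W1.smul_mem _ hy),
      hne, ?_⟩
    conv_lhs => rw [hd]
    exact R.eich_f_apply a b hz hy
  obtain ⟨g₂, hg₂, a₂, h2⟩ : ∃ g ∈ rootGroup R, ∃ a : F, gmat g *ᵥ x = a • R.e 0 + b • R.f 0 := by
    have hw : (-b⁻¹) • z ∈ R.W1 := R.W1.smul_mem _ hz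
    refine ⟨rootE R ⟨_, hw⟩ * g₁, mul_mem (rootE_mem R _) hg₁, a - QuadraticMap.polar (⇑Q) ((-b⁻¹) • z) z - Q ((-b⁻¹) • z) * b, ?_⟩
    rw [gmat_mul, ← Matrix.mulVec_mulVec, h1]
    refine (R.eich_e_apply a b hz hw).trans ?_
    rw [smul_smul, mul_neg, mul_inv_cancel₀ hb, neg_one_smul, add_neg_cancel, add_zero]
  have hc : Q x = a₂ * b := by simpa using hQform a₂ b 0 R.W1.zero_mem g₂ (by rw [h2, add_zero])
  obtain ⟨g₃, hg₃, a₃, z₃, hz₃, h3⟩ : ∃ g ∈ rootGroup R, ∃ a : F, ∃ z : ι → F, z ∈ R.W1 ∧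
      gmat g *ᵥ x = a • R.e 0 + (1 : F) • R.f 0 + z := by
    by_cases ha : a₂ = 0
    · have hy : (1 - b⁻¹) • f1 ∈ R.W1 := R.W1.smul_mem _ (R.f_succ_mem 0)
      refine ⟨rootF R ⟨_, hy⟩ * (rootE R ⟨e1, R.e_succ_mem 0⟩ * g₂),
        mul_mem (rootF_mem R _) (mul_mem (rootE_mem R _) hg₂), 0, b • e1,
        R.W1.smul_mem _ (R.e_succ_mem 0), ?_⟩
      rw [gmat_mul, gmat_mul, ← Matrix.mulVec_mulVec, ← Matrix.mulVec_mulVec, h2]
      have e1' : gmat (rootE R ⟨e1, R.e_succ_mem 0⟩) *ᵥ (a₂ • R.e 0 + b • R.f 0) =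
          (0 : F) • R.e 0 + b • R.f 0 + b • e1 := by
        rw [← add_zero (a₂ • R.e 0 + b • R.f 0)]
        refine (R.eich_e_apply a₂ b R.W1.zero_mem (R.e_succ_mem 0)).trans ?_
        simp [he1, ha, R.qe]
      rw [e1']
      refine (R.eich_f_apply 0 b (R.W1.smul_mem b (R.e_succ_mem 0)) hy).trans ?_
      have hcoef : b - QuadraticMap.polar (⇑Q) ((1 - b⁻¹) • f1) (b • e1) - Q ((1 - b⁻¹) • f1) * 0 = 1 := by
        rw [QuadraticMap.polar_smul_left, QuadraticMap.polar_smul_right, he1, hf1, R.toPr.fe_self,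
          smul_eq_mul, smul_eq_mul]
        field_simp
        ring
      rw [hcoef, zero_smul, zero_smul, add_zero]
    · refine ⟨rootF R ⟨e1 + ((b - 1) / a₂) • f1, hm _⟩ * g₂, mul_mem (rootF_mem R _) hg₂, a₂,
        a₂ • (e1 + ((b - 1) / a₂) • f1), R.W1.smul_mem _ (hm _), ?_⟩
      rw [gmat_mul, ← Matrix.mulVec_mulVec, h2, ← add_zero (a₂ • R.e 0 + b • R.f 0)]
      refine (R.eich_f_apply a₂ b R.W1.zero_mem (hm _)).trans ?_
      rw [QuadraticMap.polar_zero_right, hq, div_mul_cancel₀ _ ha, zero_add, sub_zero, sub_sub_cancel]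
  refine ⟨rootE R ⟨-z₃, R.W1.neg_mem hz₃⟩ * g₃, mul_mem (rootE_mem R _) hg₃, ?_⟩
  rw [gmat_mul, ← Matrix.mulVec_mulVec, h3]
  refine (R.eich_e_apply a₃ 1 hz₃ (R.W1.neg_mem hz₃)).trans ?_
  have hq3 := hQform a₃ 1 z₃ hz₃ g₃ h3
  rw [one_smul, one_smul, add_neg_cancel, add_zero, QuadraticMap.polar_neg_left, polar_self',
    QuadraticMap.map_neg]
  congr 2
  rw [hq3]; ring

/-- Vectors of the top with the same value are conjugate. -/
theorem exists_move {x y : ι → F} (hx : x ∈ R.top) (hx0 : x ≠ 0) (hy : y ∈ R.top) (hy0 : y ≠ 0)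
    (h : Q x = Q y) : ∃ g ∈ rootGroup R, gmat g *ᵥ x = y := by
  obtain ⟨g, hg, hgx⟩ := R.exists_to_normal hx hx0
  obtain ⟨g', hg', hgy⟩ := R.exists_to_normal hy hy0
  refine ⟨g'⁻¹ * g, mul_mem (inv_mem hg') hg, ?_⟩
  rw [gmat_mul, ← Matrix.mulVec_mulVec, hgx, h]
  exact gmat_inv_mulVec hgy

/-- The root subgroups of the first pair generate. -/
theorem rootGroup_eq_top : rootGroup R = ⊤ := by
  rw [eq_top_iff]
  rintro ⟨g, hg⟩ -
  have hkey : ∀ (u w : ι → F) (hu : u ∈ R.top) (hw : w ∈ R.top) (hq : Q u = 0) (huw : QuadraticMap.polar (⇑Q) u w = 0),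
      (⟨eichIso Q u w hq huw, eichIso_mem_gw hu hw hq huw⟩ : ↥(gw Q R.top)) ∈ rootGroup R := by
    intro u w hu hw hq huw
    by_cases hu0 : u = 0
    · convert one_mem (rootGroup R) using 1
      refine Subtype.ext (mat_ext Q ?_)
      show eich Q u w = 1
      rw [hu0, ← zero_smul F (R.e 0), eich_smul_left, zero_smul, eich_zero]
    obtain ⟨s, hs, hsu⟩ := R.exists_to_normal hu hu0
    rw [hq, zero_smul, zero_add] at hsu
    set w' := gmat s *ᵥ w with hw'
    have hw't : w' ∈ R.top := (gw_spec s.2).1 w hw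
    have hfw : QuadraticMap.polar (⇑Q) (R.f 0) w' = 0 := by rw [← hsu, hw']; exact (polar_mulVec Q _ u w).trans huw
    have hp : R.proj w' ∈ R.W1 := R.proj_mem hw't
    have hE : eich Q (R.f 0) w' = eich Q (R.f 0) (R.proj w') := by
      have hd : w' = R.proj w' + QuadraticMap.polar (⇑Q) (R.e 0) w' • R.f 0 := by
        have h0 := R.decomp w'
        rw [hfw, zero_smul, zero_add, add_comm] at h0
        exact h0
      exact (congrArg (eich Q (R.f 0)) hd).trans (eich_add_smul_self (R.qf 0) hp.2.2 _)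
    have e : (⟨eichIso Q u w hq huw, eichIso_mem_gw hu hw hq huw⟩ : ↥(gw Q R.top)) =
        s⁻¹ * rootF R ⟨_, hp⟩ * s := by
      refine Subtype.ext ?_
      have h1 := conj_eichIso_eq (g := (s : ↥(Cfsg.isometryGroup F ⇑Q))) hq huw hsu rfl (R.qf 0)
        (hfw : QuadraticMap.polar (⇑Q) (R.f 0) w' = 0)
      have h2 : eichIso Q (R.f 0) w' (R.qf 0) hfw = (rootF R ⟨_, hp⟩ : ↥(Cfsg.isometryGroup F ⇑Q)) :=
        mat_ext Q hE
      rw [Subgroup.coe_mul, Subgroup.coe_mul, ← h2, ← h1, InvMemClass.coe_inv]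
      group
    rw [e]
    exact mul_mem (mul_mem (inv_mem hs) (rootF_mem R _)) hs
  induction hg using Subgroup.closure_induction with
  | mem y hy =>
    obtain ⟨u, hu, w, hw, hq, huw, hy⟩ := hy
    have e := hkey u w hu hw hq huw
    convert e using 1
    exact Subtype.ext (mat_ext Q hy)
  | one => exact one_mem _
  | mul a b _ _ ha hb => exact mul_mem ha hb
  | inv a _ ha => exact inv_mem ha

end Fr

section levi

variable {m : ℕ} (P : Pr Q m)

/-- The action of a pair of matrices on the pairs. -/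
def levMap (A B : Matrix (Fin m) (Fin m) F) (x : ι → F) : ι → F :=
  x + ∑ i, ((A - 1) *ᵥ fun j => QuadraticMap.polar (⇑Q) (P.f j) x) i • P.e i +
    ∑ i, ((B - 1) *ᵥ fun j => QuadraticMap.polar (⇑Q) (P.e j) x) i • P.f i

theorem polar_sum {κ : Type*} (s : Finset κ) (x : ι → F) (v : κ → ι → F) :
    QuadraticMap.polar (⇑Q) x (∑ i ∈ s, v i) = ∑ i ∈ s, QuadraticMap.polar (⇑Q) x (v i) := by
  classical
  induction s using Finset.induction_on with
  | empty => simp
  | insert i s hi ih => rw [Finset.sum_insert hi, Finset.sum_insert hi, QuadraticMap.polar_add_right, ih]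

theorem polar_e_levMap (A B : Matrix (Fin m) (Fin m) F) (x : ι → F) (k : Fin m) :
    QuadraticMap.polar (⇑Q) (P.e k) (levMap P A B x) = (B *ᵥ fun j => QuadraticMap.polar (⇑Q) (P.e j) x) k := by
  have h : ∀ (c : Fin m → F) (v : Fin m → ι → F),
      QuadraticMap.polar (⇑Q) (P.e k) (∑ i, c i • v i) = ∑ i, c i * QuadraticMap.polar (⇑Q) (P.e k) (v i) := fun c v => by
    simp [polar_sum, QuadraticMap.polar_smul_right]
  rw [levMap, QuadraticMap.polar_add_right, QuadraticMap.polar_add_right, h, h]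
  simp [P.ee, P.ef, Matrix.sub_mulVec]

theorem polar_f_levMap (A B : Matrix (Fin m) (Fin m) F) (x : ι → F) (k : Fin m) :
    QuadraticMap.polar (⇑Q) (P.f k) (levMap P A B x) = (A *ᵥ fun j => QuadraticMap.polar (⇑Q) (P.f j) x) k := by
  have h : ∀ (c : Fin m → F) (v : Fin m → ι → F),
      QuadraticMap.polar (⇑Q) (P.f k) (∑ i, c i • v i) = ∑ i, c i * QuadraticMap.polar (⇑Q) (P.f k) (v i) := fun c v => by
    simp [polar_sum, QuadraticMap.polar_smul_right]
  rw [levMap, QuadraticMap.polar_add_right, QuadraticMap.polar_add_right, h, h]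
  simp [P.ff, P.fe, Matrix.sub_mulVec]

theorem levMap_levMap (A B A' B' : Matrix (Fin m) (Fin m) F) (x : ι → F) :
    levMap P A B (levMap P A' B' x) = levMap P (A * A') (B * B') x := by
  have e1 : (fun j => QuadraticMap.polar (⇑Q) (P.f j) (levMap P A' B' x)) = A' *ᵥ fun j => QuadraticMap.polar (⇑Q) (P.f j) x :=
    funext fun j => polar_f_levMap P A' B' x j
  have e2 : (fun j => QuadraticMap.polar (⇑Q) (P.e j) (levMap P A' B' x)) = B' *ᵥ fun j => QuadraticMap.polar (⇑Q) (P.e j) x :=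
    funext fun j => polar_e_levMap P A' B' x j
  conv_lhs => rw [levMap, e1, e2]
  simp only [levMap, Matrix.sub_mulVec, Matrix.one_mulVec, ← Matrix.mulVec_mulVec, Pi.sub_apply, sub_smul,
    Finset.sum_sub_distrib]
  abel

theorem levMap_one (x : ι → F) : levMap P 1 1 x = x := by
  simp [levMap]

theorem quad_levMap {A B : Matrix (Fin m) (Fin m) F} (h : Aᵀ * B = 1) (x : ι → F) :
    Q (levMap P A B x) = Q x := by
  have key : ∀ (s : Finset (Fin m)) (c d : Fin m → F),
      Q (∑ i ∈ s, (c i • P.e i + d i • P.f i)) = ∑ i ∈ s, c i * d i := by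
    intro s c d
    induction s using Finset.induction_on with
    | empty => simp
    | @insert i s his ih =>
      rw [Finset.sum_insert his, Finset.sum_insert his, QuadraticMap.map_add (⇑Q), ih]
      have hsum : QuadraticMap.polar (⇑Q) (c i • P.e i + d i • P.f i) (∑ l ∈ s, (c l • P.e l + d l • P.f l)) = 0 := by
        rw [show QuadraticMap.polar (⇑Q) (c i • P.e i + d i • P.f i) (∑ l ∈ s, (c l • P.e l + d l • P.f l)) =
          ∑ l ∈ s, QuadraticMap.polar (⇑Q) (c i • P.e i + d i • P.f i) (c l • P.e l + d l • P.f l) from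
            polar_sum _ _ _]
        refine Finset.sum_eq_zero fun l hl => ?_
        have hne : i ≠ l := fun h => his (h ▸ hl)
        simp [QuadraticMap.polar_add_left, QuadraticMap.polar_add_right, QuadraticMap.polar_smul_left,
          QuadraticMap.polar_smul_right, P.ee, P.ff, P.ef_ne hne, P.fe_ne hne]
      rw [hsum, add_zero, QuadraticMap.map_add (⇑Q), QuadraticMap.map_smul, QuadraticMap.map_smul, P.qe, P.qf,
        QuadraticMap.polar_smul_left, QuadraticMap.polar_smul_right, P.ef_self]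
      simp
  set al : Fin m → F := fun j => QuadraticMap.polar (⇑Q) (P.f j) x
  set be : Fin m → F := fun j => QuadraticMap.polar (⇑Q) (P.e j) x
  set c := (A - 1) *ᵥ al
  set d := (B - 1) *ᵥ be
  have hx : QuadraticMap.polar (⇑Q) x (∑ i, (c i • P.e i + d i • P.f i)) = ∑ i, (c i * be i + d i * al i) := by
    rw [show QuadraticMap.polar (⇑Q) x (∑ i, (c i • P.e i + d i • P.f i)) = ∑ i, QuadraticMap.polar (⇑Q) x (c i • P.e i + d i • P.f i) from
      polar_sum _ _ _]
    simp [QuadraticMap.polar_add_right, QuadraticMap.polar_smul_right, al, be,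
      QuadraticMap.polar_comm (⇑Q) x]
  rw [levMap, add_assoc, ← Finset.sum_add_distrib, QuadraticMap.map_add (⇑Q), key, hx, add_assoc,
    ← Finset.sum_add_distrib]
  suffices h0 : ∑ i, (c i * d i + (c i * be i + d i * al i)) = 0 by rw [h0, add_zero]
  have hdot : (A *ᵥ al) ⬝ᵥ (B *ᵥ be) = al ⬝ᵥ be := by
    rw [← Matrix.vecMul_transpose, ← Matrix.dotProduct_mulVec, Matrix.mulVec_mulVec, h, Matrix.one_mulVec]
  calc ∑ i, (c i * d i + (c i * be i + d i * al i))
      = ∑ i, ((A *ᵥ al) i * (B *ᵥ be) i - al i * be i) := Finset.sum_congr rfl fun i _ => by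
        simp only [c, d, Matrix.sub_mulVec, Matrix.one_mulVec, Pi.sub_apply]; ring
    _ = 0 := by rw [Finset.sum_sub_distrib]; exact sub_eq_zero.2 hdot

/-- The linear map of `levMap`. -/
noncomputable def levLin (A B : Matrix (Fin m) (Fin m) F) : (ι → F) →ₗ[F] ι → F where
  toFun := levMap P A B
  map_add' x y := by
    have e1 : (fun j => QuadraticMap.polar (⇑Q) (P.f j) (x + y)) = (fun j => QuadraticMap.polar (⇑Q) (P.f j) x) + fun j => QuadraticMap.polar (⇑Q) (P.f j) y :=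
      funext fun j => by simp [QuadraticMap.polar_add_right]
    have e2 : (fun j => QuadraticMap.polar (⇑Q) (P.e j) (x + y)) = (fun j => QuadraticMap.polar (⇑Q) (P.e j) x) + fun j => QuadraticMap.polar (⇑Q) (P.e j) y :=
      funext fun j => by simp [QuadraticMap.polar_add_right]
    simp only [levMap, e1, e2, Matrix.mulVec_add, Pi.add_apply, add_smul, Finset.sum_add_distrib]
    abel
  map_smul' t x := by
    have e1 : (fun j => QuadraticMap.polar (⇑Q) (P.f j) (t • x)) = t • fun j => QuadraticMap.polar (⇑Q) (P.f j) x :=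
      funext fun j => by simp [QuadraticMap.polar_smul_right]
    have e2 : (fun j => QuadraticMap.polar (⇑Q) (P.e j) (t • x)) = t • fun j => QuadraticMap.polar (⇑Q) (P.e j) x :=
      funext fun j => by simp [QuadraticMap.polar_smul_right]
    simp only [levMap, e1, e2, Matrix.mulVec_smul, Pi.smul_apply, smul_eq_mul, mul_smul, ← Finset.smul_sum,
      smul_add, RingHom.id_apply]

theorem levLin_mulVec (A B : Matrix (Fin m) (Fin m) F) (x : ι → F) :
    LinearMap.toMatrix' (levLin P A B) *ᵥ x = levMap P A B x := by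
  rw [LinearMap.toMatrix'_mulVec]; rfl

theorem transpose_mul_inv_transpose (A : Matrix.SpecialLinearGroup (Fin m) F) :
    A.1ᵀ * (A⁻¹).1ᵀ = 1 := by
  rw [← Matrix.transpose_mul, ← Matrix.SpecialLinearGroup.coe_mul, inv_mul_cancel,
    Matrix.SpecialLinearGroup.coe_one, Matrix.transpose_one]

/-- The isometry attached to an element of `SL m`. -/
noncomputable def lev : Matrix.SpecialLinearGroup (Fin m) F →* ↥(Cfsg.isometryGroup F ⇑Q) :=
  let M : Matrix.SpecialLinearGroup (Fin m) F → Matrix ι ι F := fun A =>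
    LinearMap.toMatrix' (levLin P A.1 (A⁻¹).1ᵀ)
  have hM : ∀ A B, M (A * B) = M A * M B := fun A B => Matrix.ext_iff_mulVec.2 fun x => by
    rw [← Matrix.mulVec_mulVec, levLin_mulVec, levLin_mulVec, levLin_mulVec, levMap_levMap,
      Matrix.SpecialLinearGroup.coe_mul, _root_.mul_inv_rev, Matrix.SpecialLinearGroup.coe_mul, Matrix.transpose_mul]
  have hM1 : M 1 = 1 := Matrix.ext_iff_mulVec.2 fun x => by
    rw [levLin_mulVec, inv_one, Matrix.SpecialLinearGroup.coe_one, Matrix.transpose_one, levMap_one,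
      Matrix.one_mulVec]
  { toFun := fun A => ⟨⟨M A, M A⁻¹, by rw [← hM, mul_inv_cancel, hM1], by rw [← hM, inv_mul_cancel, hM1]⟩,
      fun x _ => by
        show Q (M A *ᵥ x) = Q x
        rw [levLin_mulVec, quad_levMap P (transpose_mul_inv_transpose A)]⟩
    map_one' := mat_ext Q hM1
    map_mul' := fun A B => mat_ext Q (hM A B) }

theorem lev_mulVec (A : Matrix.SpecialLinearGroup (Fin m) F) (x : ι → F) :
    mat Q (lev P A) *ᵥ x = levMap P A.1 (A⁻¹).1ᵀ x := levLin_mulVec P _ _ x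

theorem lev_mulVec_e (A : Matrix.SpecialLinearGroup (Fin m) F) (k : Fin m) :
    mat Q (lev P A) *ᵥ P.e k = ∑ i, A.1 i k • P.e i := by
  rw [lev_mulVec, levMap]
  have e1 : (fun j => QuadraticMap.polar (⇑Q) (P.f j) (P.e k)) = Pi.single k 1 := funext fun j => by
    simp [P.fe, Pi.single_apply]
  have e2 : (fun j => QuadraticMap.polar (⇑Q) (P.e j) (P.e k)) = 0 := funext fun j => P.ee j k
  rw [e1, e2, Matrix.mulVec_zero]
  simp [sub_smul, Finset.sum_sub_distrib, Matrix.one_apply]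

theorem lev_mulVec_f (A : Matrix.SpecialLinearGroup (Fin m) F) (k : Fin m) :
    mat Q (lev P A) *ᵥ P.f k = ∑ i, (A⁻¹).1 k i • P.f i := by
  rw [lev_mulVec, levMap]
  have e1 : (fun j => QuadraticMap.polar (⇑Q) (P.f j) (P.f k)) = 0 := funext fun j => P.ff j k
  have e2 : (fun j => QuadraticMap.polar (⇑Q) (P.e j) (P.f k)) = Pi.single k 1 := funext fun j => by
    simp [P.ef, Pi.single_apply]
  rw [e1, e2, Matrix.mulVec_zero]
  simp [sub_smul, Finset.sum_sub_distrib, Matrix.one_apply]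

theorem lev_mulVec_perp (A : Matrix.SpecialLinearGroup (Fin m) F) {x : ι → F}
    (he : ∀ i, QuadraticMap.polar (⇑Q) (P.e i) x = 0) (hf : ∀ i, QuadraticMap.polar (⇑Q) (P.f i) x = 0) : mat Q (lev P A) *ᵥ x = x := by
  rw [lev_mulVec, levMap]
  simp [funext he, funext hf, ← Pi.zero_def]

/-- A transvection acts as an Eichler map. -/
theorem lev_transvection {i j : Fin m} (hij : i ≠ j) (c : F) (A : Matrix.SpecialLinearGroup (Fin m) F)
    (hA : A.1 = Matrix.transvection i j c) :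
    mat Q (lev P A) = eich Q (P.e i) (-c • P.f j) := by
  refine Matrix.ext_iff_mulVec.2 fun x => ?_
  have hinv : (A⁻¹).1 = Matrix.transvection i j (-c) := by
    have h1 : A.1 * Matrix.transvection i j (-c) = 1 := by
      rw [hA, Matrix.transvection_mul_transvection_same (i := i) (j := j) hij, add_neg_cancel,
        Matrix.transvection_zero]
    calc (A⁻¹).1 = (A⁻¹).1 * (A.1 * Matrix.transvection i j (-c)) := by rw [h1, mul_one]
      _ = Matrix.transvection i j (-c) := by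
        rw [← mul_assoc, ← Matrix.SpecialLinearGroup.coe_mul, inv_mul_cancel,
          Matrix.SpecialLinearGroup.coe_one, one_mul]
  rw [lev_mulVec, hA, hinv, eich_mulVec, levMap]
  simp only [Matrix.transvection, Matrix.transpose_add, Matrix.transpose_one, add_sub_cancel_left,
    Matrix.transpose_single, QuadraticMap.map_smul, P.qf, QuadraticMap.polar_smul_left, smul_eq_mul,
    Matrix.single_mulVec, Pi.single_apply]
  simp [Function.update_apply, mul_comm]
  module

theorem lev_mem_gw {S : Submodule F (ι → F)} (he : ∀ i, P.e i ∈ S) (hf : ∀ i, P.f i ∈ S)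
    (A : Matrix.SpecialLinearGroup (Fin m) F) : lev P A ∈ gw Q S := by
  suffices h : (gw Q S).comap (lev P) = ⊤ by
    have : A ∈ (gw Q S).comap (lev P) := by rw [h]; trivial
    exact this
  refine CfsgLib.Linear.sl_eq_top_of_transvections fun i j hij c => ?_
  refine Subgroup.subset_closure ⟨P.e i, he i, -c • P.f j, S.smul_mem _ (hf j), P.qe i, ?_,
    lev_transvection P hij c _ rfl⟩
  rw [QuadraticMap.polar_smul_right, P.ef_ne hij, smul_zero]

/-- The Levi homomorphism into `gw`. -/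
noncomputable def levG {S : Submodule F (ι → F)} (he : ∀ i, P.e i ∈ S) (hf : ∀ i, P.f i ∈ S) :
    Matrix.SpecialLinearGroup (Fin m) F →* ↥(gw Q S) :=
  (lev P).codRestrict _ (lev_mem_gw P he hf)

theorem gmat_levG {S : Submodule F (ι → F)} (he : ∀ i, P.e i ∈ S) (hf : ∀ i, P.f i ∈ S)
    (A : Matrix.SpecialLinearGroup (Fin m) F) : gmat (levG P he hf A) = mat Q (lev P A) := rfl

end levi

end CfsgLib.OrthDeg
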