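import Cfsg.Agent.OrthDeg.Trivial

/-!
# The multiplicity of a weight depends only on its value; counting weights
-/

set_option autoImplicit false
set_option linter.unusedSectionVars false

namespace CfsgLib.OrthDeg

open Matrix Module CfsgLib.Forms CfsgLib.Spinor CfsgLib.Forms4 CfsgLib.RepBounds

variable {F : Type*} [Field F] [Fintype F] [DecidableEq F] {ι : Type} [Fintype ι] [DecidableEq ι]
  {Q : QuadraticForm F (ι → F)}

noncomputable local instance subFintypeLevels (S : Submodule F (ι → F)) : Fintype S := Fintype.ofFinite S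

/-- The standard vector of value `c` in the pair `i`. -/
def nfv {m : ℕ} (R : Fr Q (m + 1)) (c : F) : ι → F := c • R.e 0 + R.f 0

theorem nfv_mem {m : ℕ} (R : Fr Q (m + 1)) (c : F) : nfv R c ∈ R.top :=
  R.top.add_mem (R.top.smul_mem _ (R.e_mem 0)) (R.f_mem 0)

theorem quad_nfv {m : ℕ} (R : Fr Q (m + 1)) (c : F) : Q (nfv R c) = c := by
  simpa [nfv] using R.quad_comb c 1 R.W1.zero_mem

theorem nfv_ne {m : ℕ} (R : Fr Q (m + 1)) (c : F) : nfv R c ≠ 0 := fun h => by
  have := congrArg (QuadraticMap.polar (⇑Q) (R.e 0)) h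
  simp [nfv, QuadraticMap.polar_add_right, QuadraticMap.polar_smul_right, R.ee, R.toPr.ef_self] at this

variable {V : Type*} [AddCommGroup V] [Module ℂ V] [FiniteDimensional ℂ V] (ψ : AddChar F ℂ)

/-- The multiplicity attached to a value. -/
noncomputable def mOf {n : ℕ} (R : Fr Q (n + 2)) (σ : Representation ℂ ↥(gw Q R.top) V) (c : F) : ℕ :=
  rnk (wP ψ R σ (nfv R.tail c))

variable {ψ}

section three

variable {n : ℕ} (R : Fr Q (n + 3)) (σ : Representation ℂ ↥(gw Q R.top) V)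

theorem rnk_wP_eq (w : R.W1) (hw : w ≠ 0) : rnk (wP ψ R σ (w : ι → F)) = mOf ψ R σ (Q (w : ι → F)) := by
  obtain ⟨g, -, hg⟩ := R.tail.exists_move (x := nfv R.tail (Q (w : ι → F))) (nfv_mem R.tail _)
    (nfv_ne R.tail _) w.2 (fun h => hw (Subtype.ext h)) (quad_nfv R.tail _)
  refine rnk_conj_eq R σ (incl R g) (wP_idem R σ _) ?_
  have he : gmat (incl R g) *ᵥ R.e 0 = (1 : F) • R.e 0 := by
    rw [one_smul]
    exact (gw_spec g.2).2 _ fun y hy => by
      have hy' : y ∈ R.W1 := hy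
      rw [QuadraticMap.polar_comm]; exact hy'.2.1
  rw [conj_wP R σ _ one_ne_zero he (fun x hx => (gw_spec g.2).1 x hx), inv_one, one_smul]
  exact congrArg (fun z => wP ψ R σ z * σ (incl R g)) hg

theorem mOf_scale (t c : F) (ht : t ≠ 0) : mOf ψ R σ (t * t * c) = mOf ψ R σ c := by
  set x : Fˣ := (Units.mk0 t ht)⁻¹
  have hz : nfv R.tail.tail c ∈ R.tail.W1 := nfv_mem R.tail.tail c
  set g : ↥(gw Q R.top) := hEl (twoPairs R) (twoPairs_e_mem R) (twoPairs_f_mem R) x
  have he : gmat g *ᵥ R.e 0 = (x : F) • R.e 0 := (hEl_e (twoPairs R) (twoPairs_e_mem R) (twoPairs_f_mem R) x).1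
  have hf : gmat g *ᵥ R.f 0 = (x : F)⁻¹ • R.f 0 := (hEl_f (twoPairs R) (twoPairs_e_mem R) (twoPairs_f_mem R) x).1
  have hfix : gmat g *ᵥ nfv R.tail.tail c = nfv R.tail.tail c :=
    lev_mulVec_perp _ _ (twoPairs_perp R hz).1 (twoPairs_perp R hz).2
  have hW : ∀ z ∈ R.W1, gmat g *ᵥ z ∈ R.W1 := fun z hz => by
    refine ⟨(gw_spec g.2).1 z hz.1, ?_, ?_⟩
    · have := polar_mulVec Q g.1 (R.e 0) z
      rw [show mat Q g.1 *ᵥ R.e 0 = (x : F) • R.e 0 from he, hz.2.1, QuadraticMap.polar_smul_left,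
        smul_eq_mul, mul_eq_zero] at this
      exact this.resolve_left (Units.ne_zero x)
    · have := polar_mulVec Q g.1 (R.f 0) z
      rw [show mat Q g.1 *ᵥ R.f 0 = (x : F)⁻¹ • R.f 0 from hf, hz.2.2, QuadraticMap.polar_smul_left,
        smul_eq_mul, mul_eq_zero] at this
      exact this.resolve_left (inv_ne_zero (Units.ne_zero x))
  have hx : (x : F)⁻¹ = t := by simp [x]
  have h := rnk_conj_eq R σ g (wP_idem R σ _) (conj_wP (ψ := ψ) R σ g (Units.ne_zero x) he hW (nfv R.tail.tail c))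
  rw [hfix, hx] at h
  have h1 : (⟨nfv R.tail.tail c, R.tail.W1_le hz⟩ : R.W1) ≠ 0 :=
    fun h0 => nfv_ne R.tail.tail c (congrArg Subtype.val h0)
  have h2 : (⟨t • nfv R.tail.tail c, R.W1.smul_mem t (R.tail.W1_le hz)⟩ : R.W1) ≠ 0 := fun h0 =>
    smul_ne_zero ht (nfv_ne R.tail.tail c) (congrArg Subtype.val h0)
  have e1 := rnk_wP_eq (ψ := ψ) R σ _ h1
  have e2 := rnk_wP_eq (ψ := ψ) R σ _ h2
  simp only [QuadraticMap.map_smul, quad_nfv, smul_eq_mul] at e1 e2
  rw [← e1, ← e2, h]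

end three

/-- The number of non-zero vectors of value `c`. -/
noncomputable def cntNZ (Q : QuadraticForm F (ι → F)) (S : Submodule F (ι → F)) (c : F) : ℕ :=
  cnt Q S c - if c = 0 then 1 else 0

theorem card_erase_filter (S : Submodule F (ι → F)) (c : F) :
    ((Finset.univ.erase (0 : S)).filter fun x : S => Q (x : ι → F) = c).card = cntNZ Q S c := by
  classical
  rw [Finset.filter_erase, cntNZ, cnt, Finset.card_erase_eq_ite]
  by_cases hc : c = 0
  · rw [if_pos hc, if_pos (by simp [hc])]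
  · rw [if_neg hc, if_neg (by simp [Ne.symm hc]), Nat.sub_zero]

theorem sum_value_eq (S : Submodule F (ι → F)) (M : F → ℕ) :
    ∑ w ∈ Finset.univ.erase (0 : S), M (Q (w : ι → F)) = ∑ c : F, cntNZ Q S c * M c := by
  classical
  rw [← Finset.sum_fiberwise (Finset.univ.erase (0 : S)) (fun w : S => Q (w : ι → F))]
  refine Finset.sum_congr rfl fun c _ => ?_
  rw [Finset.sum_congr rfl fun w hw => by rw [(Finset.mem_filter.1 hw).2], Finset.sum_const,
    card_erase_filter, smul_eq_mul]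

theorem finrank_eq_levels {n : ℕ} (R : Fr Q (n + 3)) (σ : Representation ℂ ↥(gw Q R.top) V)
    (hψ : ψ.IsPrimitive) :
    finrank ℂ V = rnk (wP ψ R σ 0) + ∑ c : F, cntNZ Q R.W1 c * mOf ψ R σ c := by
  classical
  rw [finrank_eq_sum R σ hψ, ← Finset.add_sum_erase _ _ (Finset.mem_univ (0 : R.W1)), ZeroMemClass.coe_zero,
    Finset.sum_congr rfl fun w hw => rnk_wP_eq R σ w (Finset.ne_of_mem_erase hw), sum_value_eq]

/-- The values in the square class of `c`. -/
noncomputable def sqClass (c : F) : Finset F := (Finset.univ.erase (0 : F)).image fun t => t * t * c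

theorem le_two_mul_card_sqClass {c : F} (hc : c ≠ 0) : Fintype.card F - 1 ≤ 2 * (sqClass c).card := by
  classical
  rw [sqClass, ← Finset.card_univ, ← Finset.card_erase_of_mem (Finset.mem_univ (0 : F))]
  refine Finset.card_le_mul_card_image (f := fun t : F => t * t * c) _ 2 fun b hb => ?_
  obtain ⟨t, ht, rfl⟩ := Finset.mem_image.1 hb
  refine (Finset.card_le_card (t := ({t, -t} : Finset F)) fun s hs => ?_).trans Finset.card_le_two
  obtain ⟨-, hs⟩ := Finset.mem_filter.1 hs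
  rcases mul_self_eq_mul_self_iff.1 (mul_right_cancel₀ hc hs) with h | h <;> simp [h]

theorem ne_zero_of_mem_sqClass {c d : F} (hc : c ≠ 0) (hd : d ∈ sqClass c) : d ≠ 0 := by
  classical
  obtain ⟨t, ht, rfl⟩ := Finset.mem_image.1 hd
  exact mul_ne_zero (mul_ne_zero (Finset.ne_of_mem_erase ht) (Finset.ne_of_mem_erase ht)) hc

/-- A non-zero multiplicity contributes its whole square class. -/
theorem class_le_finrank {n : ℕ} (R : Fr Q (n + 3)) (σ : Representation ℂ ↥(gw Q R.top) V)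
    (hψ : ψ.IsPrimitive) {c : F} (hc : c ≠ 0) (N : ℕ) (hN : ∀ d : F, d ≠ 0 → N ≤ cnt Q R.W1 d) :
    rnk (wP ψ R σ 0) + cntNZ Q R.W1 0 * mOf ψ R σ 0 + (sqClass c).card * (N * mOf ψ R σ c) ≤ finrank ℂ V := by
  classical
  rw [finrank_eq_levels R σ hψ, add_assoc, ← Finset.add_sum_erase _ _ (Finset.mem_univ (0 : F))]
  refine Nat.add_le_add_left (Nat.add_le_add_left ?_ _) _
  refine le_trans ?_ (Finset.sum_le_sum_of_subset (f := fun d => cntNZ Q R.W1 d * mOf ψ R σ d)
    (s := sqClass c) fun d hd => Finset.mem_erase.2 ⟨ne_zero_of_mem_sqClass hc hd, Finset.mem_univ _⟩)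
  rw [← smul_eq_mul]
  refine Finset.card_nsmul_le_sum _ _ _ fun d hd => ?_
  obtain ⟨t, ht, rfl⟩ := Finset.mem_image.1 hd
  rw [mOf_scale R σ t c (Finset.ne_of_mem_erase ht), cntNZ, if_neg (ne_zero_of_mem_sqClass hc hd),
    Nat.sub_zero]
  exact Nat.mul_le_mul_right _ (hN _ (ne_zero_of_mem_sqClass hc hd))

theorem singular_le_finrank {n : ℕ} (R : Fr Q (n + 3)) (σ : Representation ℂ ↥(gw Q R.top) V)
    (hψ : ψ.IsPrimitive) :
    rnk (wP ψ R σ 0) + cntNZ Q R.W1 0 * mOf ψ R σ 0 ≤ finrank ℂ V := by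
  classical
  rw [finrank_eq_levels R σ hψ]
  exact Nat.add_le_add_left
    (Finset.single_le_sum (f := fun c => cntNZ Q R.W1 c * mOf ψ R σ c) (fun c _ => Nat.zero_le _)
      (Finset.mem_univ 0)) _

theorem finrank_eq_singular {n : ℕ} (R : Fr Q (n + 3)) (σ : Representation ℂ ↥(gw Q R.top) V)
    (hψ : ψ.IsPrimitive) (h : ∀ c : F, c ≠ 0 → mOf ψ R σ c = 0) :
    finrank ℂ V = rnk (wP ψ R σ 0) + cntNZ Q R.W1 0 * mOf ψ R σ 0 := by
  rw [finrank_eq_levels R σ hψ, Finset.sum_eq_single 0 (fun c _ hc => by rw [h c hc, mul_zero]) (by simp)]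

end CfsgLib.OrthDeg
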