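import Cfsg.Agent.OrthDeg.MinusTrivial
import Cfsg.Agent.OrthDeg.Clique
import Cfsg.Agent.OrthDeg.Arith

/-!
# Minimal degree for frames of minus type
-/

set_option autoImplicit false
set_option linter.unusedSectionVars false

namespace CfsgLib.OrthDeg

open Matrix Module CfsgLib.Forms CfsgLib.Spinor CfsgLib.Forms4 CfsgLib.RepBounds

variable {F : Type*} [Field F] [Fintype F] [DecidableEq F] {ι : Type} [Fintype ι] [DecidableEq ι]
  {Q : QuadraticForm F (ι → F)}

noncomputable local instance subFintypeMinus (S : Submodule F (ι → F)) : Fintype S := Fintype.ofFinite S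

/-- The bound for `j + 3` pairs. -/
def minusBound (q : ℕ) : ℕ → ℕ
  | 0 => q ^ 5 + q
  | j + 1 => minusBound q j + (q ^ (2 * j + 7) - (q - 1) * q ^ (j + 3))

theorem minusBound_aux {q : ℕ} (hq : 2 ≤ q) (j : ℕ) : (q - 1) * q ^ (j + 3) ≤ q ^ (2 * j + 7) :=
  calc (q - 1) * q ^ (j + 3) ≤ q * q ^ (j + 3) := Nat.mul_le_mul_right _ (Nat.sub_le _ _)
    _ = q ^ (j + 4) := by ring
    _ ≤ _ := Nat.pow_le_pow_right (by omega) (by omega)

theorem minusBound_formula {q : ℕ} (hq : 2 ≤ q) (j : ℕ) :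
    minusBound q j * (q ^ 2 - 1) = (q ^ (j + 4) + 1) * (q ^ (j + 3) - q) := by
  obtain ⟨r, rfl⟩ : ∃ r, q = r + 1 := ⟨q - 1, by omega⟩
  have h : (minusBound (r + 1) j : ℤ) * (((r : ℤ) + 1) ^ 2 - 1) =
      (((r : ℤ) + 1) ^ (j + 4) + 1) * (((r : ℤ) + 1) ^ (j + 3) - ((r : ℤ) + 1)) := by
    induction j with
    | zero => simp [minusBound]; ring
    | succ j ih =>
      have hle := minusBound_aux hq j
      simp only [minusBound]
      rw [Nat.add_sub_cancel] at hle ⊢
      push_cast [Nat.cast_sub hle]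
      linear_combination ih
  have h1 : 1 ≤ (r + 1) ^ 2 := Nat.one_le_pow _ _ (by omega)
  have h2 : r + 1 ≤ (r + 1) ^ (j + 3) := Nat.le_self_pow (by omega) _
  exact_mod_cast (by push_cast [Nat.cast_sub h1, Nat.cast_sub h2]; linear_combination h :
    ((minusBound (r + 1) j * ((r + 1) ^ 2 - 1) : ℕ) : ℤ) =
      (((r + 1) ^ (j + 4) + 1) * ((r + 1) ^ (j + 3) - (r + 1)) : ℕ))

theorem minusBound_le {q : ℕ} (hq : 2 ≤ q) (j : ℕ) :
    minusBound q j + 2 * q ^ (j + 3) ≤ 2 * q ^ (2 * j + 5) := by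
  induction j with
  | zero =>
    have h1 : q ^ 5 = q ^ 2 * q ^ 3 := by ring
    have h2 : 4 * q ^ 3 ≤ q ^ 2 * q ^ 3 := Nat.mul_le_mul_right _ (by nlinarith)
    have h3 : q ≤ q ^ 3 := Nat.le_self_pow (by omega) _
    simp [minusBound]
    omega
  | succ j ih =>
    have h0 := minusBound_aux hq j
    have h1 : q ^ (j + 4) ≤ q ^ (2 * j + 5) := Nat.pow_le_pow_right (by omega) (by omega)
    have h5 : q ^ (2 * (j + 1) + 5) = q ^ (2 * j + 7) := by ring
    have h6 : 4 * q ^ (2 * j + 5) ≤ q ^ (2 * j + 7) := by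
      rw [show q ^ (2 * j + 7) = q ^ 2 * q ^ (2 * j + 5) by ring]
      exact Nat.mul_le_mul_right _ (by nlinarith)
    simp only [minusBound]
    rw [show j + 1 + 3 = j + 4 from rfl, h5]
    omega

variable {k : ℕ}

theorem minus_card (R : Fr Q k) (hm : IsMinus R) :
    Fintype.card R.top = Fintype.card F ^ (2 * k + 2) := by rw [card_top_eq R, hm.card_core, ← pow_add]

theorem minus_cnt_zero (R : Fr Q k) (hm : IsMinus R) :
    cnt Q R.top 0 + Fintype.card F ^ (k + 1) = Fintype.card F ^ (2 * k + 1) + Fintype.card F ^ k := by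
  have h := cnt_top_eq R 0
  rw [hm.card_core, hm.cnt_zero] at h
  refine Nat.eq_of_mul_eq_mul_left (Fintype.card_pos (α := F)) ?_
  ring_nf at h ⊢
  linarith

theorem minus_cnt_ne (R : Fr Q k) (hm : IsMinus R) {c : F} (h0 : c ≠ 0) :
    cnt Q R.top c = Fintype.card F ^ (2 * k + 1) + Fintype.card F ^ k := by
  have h := cnt_top_eq R c
  rw [hm.card_core, hm.cnt_ne c h0] at h
  refine Nat.eq_of_mul_eq_mul_left (Fintype.card_pos (α := F)) ?_
  ring_nf at h ⊢
  linarith

theorem one_le_card_sqClass (c : F) : 1 ≤ (sqClass c).card := by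
  classical
  exact Finset.card_pos.2 ⟨c, Finset.mem_image.2 ⟨1, by simp, by simp⟩⟩

variable {V : Type} [AddCommGroup V] [Module ℂ V] [FiniteDimensional ℂ V] {ψ : AddChar F ℂ}

/-- Either the bound holds or every weight occurs at most once. -/
theorem minus_cases {n : ℕ} (R : Fr Q (n + 3)) (hm : IsMinus R)
    (σ : Representation ℂ ↥(gw Q R.top) V) (hψ : ψ.IsPrimitive) :
    minusBound (Fintype.card F) n ≤ finrank ℂ V ∨ ∀ c : F, mOf ψ R σ c ≤ 1 := by
  by_cases hall : ∀ c : F, mOf ψ R σ c ≤ 1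
  · exact .inr hall
  left
  push Not at hall
  obtain ⟨c, hM⟩ := hall
  have hq : 2 ≤ Fintype.card F := Fintype.one_lt_card
  have hle := minusBound_le hq n
  have hN : cnt Q R.W1 0 + Fintype.card F ^ (n + 3) = Fintype.card F ^ (2 * n + 5) + Fintype.card F ^ (n + 2) := by
    have := minus_cnt_zero (k := n + 2) R.tail hm.tail
    rwa [show 2 * (n + 2) + 1 = 2 * n + 5 by ring] at this
  have h4 : 1 ≤ Fintype.card F ^ (n + 2) := Nat.one_le_pow _ _ (by omega)
  by_cases h0 : c = 0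
  · subst h0
    have h := singular_le_finrank R σ hψ
    have h1 : cntNZ Q R.W1 0 * 2 ≤ cntNZ Q R.W1 0 * mOf ψ R σ 0 := Nat.mul_le_mul_left _ hM
    have h2 := cntNZ_zero_add (Q := Q) R.W1
    omega
  · have he : ∀ d : F, d ≠ 0 → Fintype.card F ^ (2 * n + 5) + Fintype.card F ^ (n + 2) ≤ cnt Q R.W1 d := fun d hd => by
      have := minus_cnt_ne (k := n + 2) R.tail hm.tail hd
      rw [show 2 * (n + 2) + 1 = 2 * n + 5 by ring] at this
      exact this.ge
    have h := class_le_finrank R σ hψ h0 _ he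
    have h1 : 1 * ((Fintype.card F ^ (2 * n + 5) + Fintype.card F ^ (n + 2)) * 2) ≤
        (sqClass c).card * ((Fintype.card F ^ (2 * n + 5) + Fintype.card F ^ (n + 2)) * mOf ψ R σ c) :=
      Nat.mul_le_mul (one_le_card_sqClass c) (Nat.mul_le_mul_left _ hM)
    omega

/-- The divisibility that excludes one less than the bound. -/
theorem minus_exclude {n : ℕ} (R : Fr Q (n + 3)) (hm : IsMinus R)
    (σ : Representation ℂ ↥(gw Q R.top) V) [σ.IsIrreducible] (hψ : ψ.IsPrimitive)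
    (hns : ∀ c : F, c ≠ 0 → mOf ψ R σ c = 0) (h1 : mOf ψ R σ 0 = 1) :
    finrank ℂ V + 1 ≠ minusBound (Fintype.card F) n := by
  intro hDeq
  have hdvd := finrank_mul_dvd R σ hψ hns h1
  have hform := minusBound_formula (Fintype.one_lt_card (α := F)) n
  have hN1 : cntNZ Q R.W1 0 + 1 + Fintype.card F ^ (n + 3) =
      Fintype.card F ^ (2 * n + 5) + Fintype.card F ^ (n + 2) := by
    have := minus_cnt_zero (k := n + 2) R.tail hm.tail
    rwa [show 2 * (n + 2) + 1 = 2 * n + 5 by ring, ← cntNZ_zero_add] at this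
  have hN0 : cntNZ Q R.top 0 + 1 + Fintype.card F ^ (n + 4) =
      Fintype.card F ^ (2 * n + 7) + Fintype.card F ^ (n + 3) := by
    have := minus_cnt_zero (k := n + 3) R hm
    rwa [show 2 * (n + 3) + 1 = 2 * n + 7 by ring, ← cntNZ_zero_add] at this
  have hW2 : Fintype.card R.tail.W1 = Fintype.card F ^ (2 * (n + 1) + 2) :=
    minus_card (k := n + 1) R.tail.tail hm.tail.tail
  refine Arith.no_dvd_minus (q := Fintype.card F) (m := n + 2) (s := 2 * n + 5) Fintype.one_lt_card (by omega) ?_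
  obtain ⟨r, hr⟩ : ∃ r, Fintype.card F = r + 1 := ⟨Fintype.card F - 1, (Nat.succ_pred_eq_of_pos Fintype.card_pos).symm⟩
  rw [hr] at hN1 hN0 hW2 hform hDeq hdvd ⊢
  have p1 : ∀ s, 1 ≤ (r + 1) ^ s := fun s => Nat.one_le_pow _ _ (by omega)
  have hr1 : 1 ≤ r := by
    have := Fintype.one_lt_card (α := F)
    omega
  have pB : (r + 1) ^ 2 + (r + 1) ≤ (r + 1) ^ (n + 2 + 2) + 1 := by
    have h4 : (r + 1) ^ 4 ≤ (r + 1) ^ (n + 2 + 2) := Nat.pow_le_pow_right (by omega) (by omega)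
    have h5 : 4 * (r + 1) ^ 2 ≤ (r + 1) ^ 4 := by
      rw [show (r + 1) ^ 4 = (r + 1) ^ 2 * (r + 1) ^ 2 by ring]
      exact Nat.mul_le_mul_right _ (by nlinarith)
    have h6 : r + 1 ≤ (r + 1) ^ 2 := Nat.le_self_pow two_ne_zero _
    omega
  have pQ : r + 1 ≤ (r + 1) ^ (n + 3) := Nat.le_self_pow (by omega) _
  have hDB : finrank ℂ V * ((r + 1) ^ 2 - 1) =
      ((r + 1) ^ (n + 3) + 1) * ((r + 1) ^ (n + 2 + 2) + 1 - ((r + 1) ^ 2 + (r + 1))) := by
    zify [p1 2, pB, pQ] at hform hDeq ⊢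
    linear_combination hform + (((r : ℤ) + 1) ^ 2 - 1) * hDeq
  have hA : cntNZ Q R.top 0 * cntNZ Q R.W1 0 * ((r + 1) * Fintype.card R.tail.W1) =
      ((r + 1) ^ (n + 3) + 1) * (((r + 1) ^ (n + 2 + 2) + 1) * ((r + 1) ^ (n + 2 + 1) - 1) *
        ((r + 1) ^ (n + 2) - 1) * (r + 1) ^ (2 * n + 5)) := by
    rw [hW2]
    zify [p1 (n + 2 + 1), p1 (n + 2)] at hN0 hN1 ⊢
    rw [show (cntNZ Q R.top 0 : ℤ) = ((r : ℤ) + 1) ^ (2 * n + 7) + ((r : ℤ) + 1) ^ (n + 3) - 1 -
        ((r : ℤ) + 1) ^ (n + 4) by linear_combination hN0,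
      show (cntNZ Q R.W1 0 : ℤ) = ((r : ℤ) + 1) ^ (2 * n + 5) + ((r : ℤ) + 1) ^ (n + 2) - 1 -
        ((r : ℤ) + 1) ^ (n + 3) by linear_combination hN1]
    ring
  rw [hDB, hA] at hdvd
  exact (Nat.mul_dvd_mul_iff_left (Nat.succ_pos _)).1 hdvd

/-- The minimal degree for three pairs. -/
theorem minus_three (R : Fr Q 3) (hm : IsMinus R) (σ : Representation ℂ ↥(gw Q R.top) V) [σ.IsIrreducible]
    (hψ : ψ.IsPrimitive) (hne : ∃ g, σ g ≠ 1) : minusBound (Fintype.card F) 0 ≤ finrank ℂ V := by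
  classical
  by_cases hns : ∃ c : F, c ≠ 0 ∧ mOf ψ R σ c ≠ 0
  · obtain ⟨c, h0, hM⟩ := hns
    have he : ∀ d : F, d ≠ 0 → Fintype.card F ^ 5 + Fintype.card F ^ 2 ≤ cnt Q R.W1 d := fun d hd =>
      (minus_cnt_ne (k := 2) R.tail hm.tail hd).ge
    have h := class_le_finrank (n := 0) R σ hψ h0 _ he
    have h1 : 1 * ((Fintype.card F ^ 5 + Fintype.card F ^ 2) * 1) ≤
        (sqClass c).card * ((Fintype.card F ^ 5 + Fintype.card F ^ 2) * mOf ψ R σ c) :=
      Nat.mul_le_mul (one_le_card_sqClass c) (Nat.mul_le_mul_left _ (Nat.one_le_iff_ne_zero.2 hM))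
    have h2 : Fintype.card F ≤ Fintype.card F ^ 2 := Nat.le_self_pow two_ne_zero _
    show Fintype.card F ^ 5 + Fintype.card F ≤ _
    omega
  push Not at hns
  rcases minus_cases (n := 0) R hm σ hψ with h | hle
  · exact h
  obtain ⟨c, hM⟩ := exists_mOf_ne (n := 0) R σ hψ hne
  have hc0 : c = 0 := by
    by_contra h0
    exact hM (hns c h0)
  subst hc0
  have h1 : mOf ψ R σ 0 = 1 := by have := hle 0; omega
  have hT : Trivial R σ ψ := minus_trivial_three R hm σ (fun w hw => by rw [rnk_wP_eq R σ w hw]; exact hle _)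
    fun w hw => eq_zero_of_rnk (by rw [rnk_wP_eq R σ w fun h => hw (by simp [h])]; exact hns _ hw)
  have hD := finrank_eq_singular R σ hψ hns
  rw [h1, mul_one] at hD
  have hz := rnk_zero_eq (n := 1) R (mOf ψ R σ) hψ (mOf_scale R σ) (rnk_wP_eq R σ) hT
  rw [sum_value_eq, Finset.sum_eq_single 0 (fun c _ hc0 => by rw [hns c hc0, mul_zero]) (by simp), h1, mul_one] at hz
  have hN2 : cntNZ Q R.tail.W1 0 + 1 + Fintype.card F ^ 2 = Fintype.card F ^ 3 + Fintype.card F := by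
    have := minus_cnt_zero (k := 1) R.tail.tail hm.tail.tail
    rwa [← cntNZ_zero_add, show 2 * 1 + 1 = 3 from rfl, pow_one] at this
  have hN1 : cntNZ Q R.W1 0 + 1 + Fintype.card F ^ 3 = Fintype.card F ^ 5 + Fintype.card F ^ 2 := by
    have := minus_cnt_zero (k := 2) R.tail hm.tail
    rwa [← cntNZ_zero_add] at this
  have hexcl := minus_exclude (n := 0) R hm σ hψ hns h1
  simp only [minusBound] at hexcl ⊢
  by_cases ht : rnk (wQ R σ ψ 0) = 0
  · exfalso
    have hcl := clique (n := 0) R σ ht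
    have hX : rnk (wP ψ R σ 0) + 1 + Fintype.card F ^ 2 = Fintype.card F ^ 3 + Fintype.card F := by omega
    have h2 : 2 ≤ Fintype.card F := Fintype.one_lt_card
    have hDv : finrank ℂ V + 2 = Fintype.card F ^ 5 + Fintype.card F := by omega
    generalize Fintype.card F = q at hX hDv hcl h2
    generalize rnk (wP ψ R σ 0) = X at hX hcl
    generalize finrank ℂ V = D at hDv hcl
    obtain ⟨r, rfl⟩ : ∃ r, q = r + 2 := ⟨q - 2, by omega⟩
    have hX' : X + 1 = (r + 2) * (r + 2) * (r + 1) + (r + 2) := by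
      ring_nf at hX ⊢
      omega
    have h3 := congrArg (((r + 2) ^ 2 + (r + 2) + 1) * ·) hX'
    ring_nf at h3 hcl hDv
    nlinarith
  · omega

/-- One step: more pairs. -/
theorem minus_step {n : ℕ} (R : Fr Q (n + 4)) (hm : IsMinus R)
    (σ : Representation ℂ ↥(gw Q R.top) V) [σ.IsIrreducible] (hψ : ψ.IsPrimitive) (hne : ∃ g, σ g ≠ 1)
    (ih : ∀ (W : Type) [AddCommGroup W] [Module ℂ W] [FiniteDimensional ℂ W]
      (τ : Representation ℂ ↥(gw Q R.tail.top) W), (∃ g, τ g ≠ 1) → minusBound (Fintype.card F) n ≤ finrank ℂ W) :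
    minusBound (Fintype.card F) (n + 1) ≤ finrank ℂ V := by
  classical
  rcases minus_cases (n := n + 1) R hm σ hψ with h | hle
  · exact h
  have hT : Trivial R σ ψ := minus_trivial_four R hm σ fun w hw => by rw [rnk_wP_eq R σ w hw]; exact hle _
  obtain ⟨c, hM⟩ := exists_mOf_ne (n := n + 1) R σ hψ hne
  let w' : R.tail.W1 := ⟨nfv R.tail.tail c, nfv_mem R.tail.tail c⟩
  have hw' : w' ≠ 0 := fun h => nfv_ne R.tail.tail c (congrArg Subtype.val h)
  have hwq : rnk (wQ R σ ψ (w' : ι → F)) ≠ 0 := by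
    rw [rnk_wQ_of_ne (n := n + 2) R (mOf ψ R σ) hψ (mOf_scale R σ) (rnk_wP_eq R σ) hT hw',
      show Q (w' : ι → F) = c from quad_nfv R.tail.tail c]
    exact hM
  have hlow : minusBound (Fintype.card F) n ≤ rnk (wP ψ R σ 0) :=
    ih _ (fixedRep ψ R σ) (fixedRep_ne (n := n + 2) R σ hψ hw' hwq)
  have hN1 : cntNZ Q R.W1 0 + 1 + Fintype.card F ^ (n + 4) =
      Fintype.card F ^ (2 * n + 7) + Fintype.card F ^ (n + 3) := by
    have := minus_cnt_zero (k := n + 3) R.tail hm.tail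
    rwa [show 2 * (n + 3) + 1 = 2 * n + 7 by ring, ← cntNZ_zero_add] at this
  have hsub : (Fintype.card F - 1) * Fintype.card F ^ (n + 3) + Fintype.card F ^ (n + 3) = Fintype.card F ^ (n + 4) := by
    rw [← Nat.succ_mul, Nat.succ_eq_add_one, Nat.sub_add_cancel Fintype.card_pos]
    ring
  show minusBound (Fintype.card F) n + _ ≤ _
  by_cases hns : ∃ d : F, d ≠ 0 ∧ mOf ψ R σ d ≠ 0
  · obtain ⟨d, h0, hd⟩ := hns
    have he : ∀ d : F, d ≠ 0 → Fintype.card F ^ (2 * n + 7) + Fintype.card F ^ (n + 3) ≤ cnt Q R.W1 d := fun d hd => by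
      have := minus_cnt_ne (k := n + 3) R.tail hm.tail hd
      rw [show 2 * (n + 3) + 1 = 2 * n + 7 by ring] at this
      exact this.ge
    have h := class_le_finrank (n := n + 1) R σ hψ h0 _ he
    have h1 : 1 * ((Fintype.card F ^ (2 * n + 7) + Fintype.card F ^ (n + 3)) * 1) ≤
        (sqClass d).card * ((Fintype.card F ^ (2 * n + 7) + Fintype.card F ^ (n + 3)) * mOf ψ R σ d) :=
      Nat.mul_le_mul (one_le_card_sqClass d) (Nat.mul_le_mul_left _ (Nat.one_le_iff_ne_zero.2 hd))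
    omega
  push Not at hns
  have hc0 : c = 0 := by
    by_contra h0
    exact hM (hns c h0)
  subst hc0
  have h1 : mOf ψ R σ 0 = 1 := by have := hle 0; omega
  have hD := finrank_eq_singular R σ hψ hns
  rw [h1, mul_one] at hD
  have hexcl := minus_exclude (n := n + 1) R hm σ hψ hns h1
  simp only [minusBound] at hexcl
  omega

/-- The minimal degree for frames of minus type. -/
theorem minus_bound : ∀ (n : ℕ) (R : Fr Q (n + 3)), IsMinus R →
    ∀ (W : Type) [AddCommGroup W] [Module ℂ W] [FiniteDimensional ℂ W]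
      (τ : Representation ℂ ↥(gw Q R.top) W), (∃ g, τ g ≠ 1) → minusBound (Fintype.card F) n ≤ finrank ℂ W := by
  intro n
  induction n with
  | zero =>
    intro R hm W _ _ _ τ hne
    have : Fintype ↥(gw Q R.top) := Fintype.ofFinite _
    obtain ⟨U, σ, hirr, -, hne'⟩ := SLR.exists_irreducible_nontrivial τ hne
    obtain ⟨p, hp⟩ := CharP.exists F
    have : Fact p.Prime := ⟨(FiniteField.card F p).choose_spec.1⟩
    obtain ⟨ψ, hψ, -⟩ := exists_frobenius_char F p
    exact (minus_three R hm σ hψ hne').trans (Submodule.finrank_le U)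
  | succ n ih =>
    intro R hm W _ _ _ τ hne
    have : Fintype ↥(gw Q R.top) := Fintype.ofFinite _
    obtain ⟨U, σ, hirr, -, hne'⟩ := SLR.exists_irreducible_nontrivial τ hne
    obtain ⟨p, hp⟩ := CharP.exists F
    have : Fact p.Prime := ⟨(FiniteField.card F p).choose_spec.1⟩
    obtain ⟨ψ, hψ, -⟩ := exists_frobenius_char F p
    exact (minus_step R hm σ hψ hne' (ih R.tail hm.tail)).trans (Submodule.finrank_le U)

end CfsgLib.OrthDeg
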