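import Cfsg.Agent.OrthDeg.Stab

/-!
# Frames of minus type: stabilisers act trivially on lines of weights
-/

set_option autoImplicit false
set_option linter.unusedSectionVars false

namespace CfsgLib.OrthDeg

open Matrix Module CfsgLib.Forms CfsgLib.Spinor CfsgLib.Forms4 CfsgLib.RepBounds

variable {F : Type*} [Field F] [Fintype F] [DecidableEq F] {ι : Type} [Fintype ι] [DecidableEq ι]
  {Q : QuadraticForm F (ι → F)}

noncomputable local instance subFintypeMinusTrivial (S : Submodule F (ι → F)) : Fintype S := Fintype.ofFinite S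

/-- The core is an anisotropic plane. -/
structure IsMinus {k : ℕ} (R : Fr Q k) : Prop where
  card_core : Fintype.card R.core = Fintype.card F ^ 2
  cnt_zero : cnt Q R.core 0 = 1
  cnt_ne : ∀ c : F, c ≠ 0 → cnt Q R.core c = Fintype.card F + 1

theorem IsMinus.tail {k : ℕ} {R : Fr Q (k + 1)} (h : IsMinus R) : IsMinus R.tail := ⟨h.1, h.2, h.3⟩

theorem core_sep : ∀ {k : ℕ} (R : Fr Q k), ∀ x ∈ R.core,
    (∀ y ∈ R.core, QuadraticMap.polar (⇑Q) x y = 0) → x = 0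
  | 0, R => fun x hx h => R.sep x hx h
  | _ + 1, R => core_sep R.tail

theorem exists_pairing {k : ℕ} {R : Fr Q k} (h : IsMinus R) :
    ∃ z₁ ∈ R.core, ∃ z₂ ∈ R.core, QuadraticMap.polar (⇑Q) z₁ z₂ ≠ 0 := by
  by_contra hall
  push Not at hall
  have h1 : Fintype.card R.core ≤ 1 := Fintype.card_le_one_iff.2 fun a b =>
    Subtype.ext ((core_sep R _ a.2 (hall _ a.2)).trans (core_sep R _ b.2 (hall _ b.2)).symm)
  have h2 : 2 ^ 2 ≤ Fintype.card F ^ 2 := Nat.pow_le_pow_left Fintype.one_lt_card _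
  rw [h.card_core] at h1
  omega

theorem exists_independent {k : ℕ} {R : Fr Q k} (h : IsMinus R) :
    ∃ z₁ z₂ : R.core, Q (z₁ : ι → F) = 1 ∧ Q (z₂ : ι → F) = 1 ∧
      ∀ a b : F, a • z₁ + b • z₂ = 0 → a = 0 ∧ b = 0 := by
  classical
  have hc : 3 ≤ cnt Q R.core 1 := by
    rw [h.cnt_ne 1 one_ne_zero]
    have := Fintype.one_lt_card (α := F)
    omega
  obtain ⟨z₁, hz₁⟩ := Finset.card_pos.1 (show 0 < cnt Q R.core 1 by omega)
  have hq₁ : Q (z₁ : ι → F) = 1 := (Finset.mem_filter.1 hz₁).2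
  obtain ⟨z₂, hz₂, hne⟩ := Finset.exists_mem_notMem_of_card_lt_card (s := ({z₁, -z₁} : Finset R.core))
    (t := Finset.univ.filter fun x : R.core => Q (x : ι → F) = 1)
    (Finset.card_le_two.trans_lt (show 2 < _ from hc))
  have hq₂ : Q (z₂ : ι → F) = 1 := (Finset.mem_filter.1 hz₂).2
  refine ⟨z₁, z₂, hq₁, hq₂, fun a b hab => ?_⟩
  by_cases hb : b = 0
  · rw [hb, zero_smul, add_zero, smul_eq_zero] at hab
    exact ⟨hab.resolve_right fun h0 => by rw [h0, ZeroMemClass.coe_zero, map_zero] at hq₁; exact zero_ne_one hq₁, hb⟩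
  exfalso
  have he : z₂ = (-(b⁻¹ * a)) • z₁ := by
    have h3 := congrArg (b⁻¹ • ·) hab
    simp only [smul_add, smul_smul, inv_mul_cancel₀ hb, one_smul, smul_zero] at h3
    linear_combination (norm := module) h3
  rw [he, SetLike.val_smul, QuadraticMap.map_smul, hq₁, smul_eq_mul, mul_one] at hq₂
  rcases mul_self_eq_one_iff.1 hq₂ with h1 | h1
  · exact hne (by rw [he, h1]; simp)
  · exact hne (by
      rw [he, h1, Finset.mem_insert, Finset.mem_singleton]
      right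
      module)

variable {V : Type*} [AddCommGroup V] [Module ℂ V] [FiniteDimensional ℂ V] {ψ : AddChar F ℂ}

/-- Three pairs, only singular weights. -/
theorem minus_trivial_three (R : Fr Q 3) (hm : IsMinus R) (σ : Representation ℂ ↥(gw Q R.top) V)
    (h1 : ∀ w : R.W1, w ≠ 0 → rnk (wP ψ R σ (w : ι → F)) ≤ 1)
    (hs : ∀ w : R.W1, Q (w : ι → F) ≠ 0 → wP ψ R σ (w : ι → F) = 0) : Trivial R σ ψ := by
  classical
  set S := R.tail.tail with hS
  have hmS : IsMinus S := hm.tail.tail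
  have hpair := exists_pairing hmS
  have hcoreW : ∀ z ∈ S.core, z ∈ S.W1 := fun z hz => hz
  have hT0 : ∀ z ∈ S.W1, z ∈ R.tail.W1 ∧ QuadraticMap.polar (⇑Q) (S.e 0) z = 0 ∧
      QuadraticMap.polar (⇑Q) (S.f 0) z = 0 := fun z hz => ⟨hz.1, hz.2.1, hz.2.2⟩
  have hr : ∀ (a : F) (w' : R.tail.W1), (a ≠ 0 ∨ w' ≠ 0) →
      rnk (wP ψ R σ (a • R.tail.e 0 + (w' : ι → F))) ≤ 1 := by
    intro a w' hne
    refine h1 ⟨_, R.W1.add_mem (R.W1.smul_mem _ (R.tail.e_mem 0)) (tail_W1_le R w'.2)⟩ fun h => ?_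
    have h2 : a • R.tail.e 0 + (w' : ι → F) = 0 := congrArg Subtype.val h
    have ha := congrArg (QuadraticMap.polar (⇑Q) (R.tail.f 0)) h2
    rw [QuadraticMap.polar_add_right, QuadraticMap.polar_smul_right, R.tail.toPr.fe_self, w'.2.2.2,
      QuadraticMap.polar_zero_right] at ha
    have ha' : a = 0 := by simpa using ha
    rw [ha', zero_smul, zero_add] at h2
    exact hne.elim (fun h => h ha') fun h => h (Subtype.ext h2)
  -- weights on a singular line of the third level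
  have hline : ∀ (x x' : ι → F) (hx : x ∈ R.tail.W1) (hx' : x' ∈ R.tail.W1), Q x = 0 → Q x' = 0 →
      QuadraticMap.polar (⇑Q) x x' = 1 →
      (∀ z ∈ S.W1, QuadraticMap.polar (⇑Q) x z = 0 ∧ QuadraticMap.polar (⇑Q) x' z = 0) →
      (∀ v ∈ R.tail.W1, ∃ s t : F, ∃ z ∈ S.W1, v = s • x + t • x' + z) →
      ∀ (A : F), A ≠ 0 → ∀ u : R.tail.W1, QuadraticMap.polar (⇑Q) (u : ι → F) (A • x) = 0 →
        Kills R σ ψ 0 (A • x) u := by
    intro x x' hx hx' hqx hqx' hxx hperp hdec A hA u hu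
    set w' : R.tail.W1 := A • ⟨x, hx⟩ with hw'
    have hwv : ((w' : R.tail.W1) : ι → F) = A • x := rfl
    have hrw := hr 0 w' (.inr (smul_ne_zero hA fun h => by
      have h2 : x = 0 := congrArg Subtype.val h
      rw [h2, QuadraticMap.polar_zero_left] at hxx
      exact zero_ne_one hxx))
    have hzw : ∀ z ∈ S.W1, QuadraticMap.polar (⇑Q) z ((w' : R.tail.W1) : ι → F) = 0 := fun z hz => by
      rw [hwv, QuadraticMap.polar_smul_right, QuadraticMap.polar_comm, (hperp z hz).1, smul_zero]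
    have hxw : QuadraticMap.polar (⇑Q) x ((w' : R.tail.W1) : ι → F) = 0 := by
      rw [hwv, QuadraticMap.polar_smul_right, polar_self', hqx, mul_zero, smul_zero]
    obtain ⟨s, t, z, hz, hdu⟩ := hdec _ u.2
    have ht : t = 0 := by
      rw [hdu, QuadraticMap.polar_smul_right, QuadraticMap.polar_add_left, QuadraticMap.polar_add_left,
        QuadraticMap.polar_smul_left, QuadraticMap.polar_smul_left, polar_self', hqx,
        QuadraticMap.polar_comm (⇑Q) x' x, hxx, QuadraticMap.polar_comm (⇑Q) z x, (hperp z hz).1] at hu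
      simpa [hA] using hu
    obtain ⟨z₁, hz₁, z₂, hz₂, hne⟩ := hpair
    set β := QuadraticMap.polar (⇑Q) z₁ z₂
    have hks : Kills R σ ψ 0 ((w' : R.tail.W1) : ι → F) (s • ⟨x, hx⟩) := by
      refine kills_eich R σ ψ w' hrw hx (R.tail.W1.smul_mem (-s * β⁻¹) (hT0 z₁ hz₁).1) (hT0 z₂ hz₂).1 hqx ?_ hxw
        ?_ (hzw z₂ hz₂) ?_
      · rw [QuadraticMap.polar_smul_right, (hperp z₁ hz₁).1, smul_zero]
      · rw [QuadraticMap.polar_smul_left, hzw z₁ hz₁, smul_zero]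
      · simp only [eich_mulVec, QuadraticMap.polar_smul_left, (hperp z₂ hz₂).1, smul_eq_mul, SetLike.val_smul]
        show _ = s • x
        match_scalars <;> (field_simp; ring)
    -- a rotation of the anisotropic plane
    obtain ⟨p₁, p₂, hp₁, hp₂, hind⟩ := exists_independent hmS
    set g : ↥(gw Q R.top) := rotEl R ⟨p₁, (hT0 _ p₁.2).1.1⟩ ⟨p₂, (hT0 _ p₂.2).1.1⟩
    obtain ⟨g0, g1, g2⟩ := rotEl_spec R (z₁ := ⟨p₁, (hT0 _ p₁.2).1.1⟩) (z₂ := ⟨p₂, (hT0 _ p₂.2).1.1⟩)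
      (c := (1 : F)) hp₁ hp₂ one_ne_zero
    simp only [inv_one, mul_one] at g2
    have hfix : ∀ v ∈ R.W1, QuadraticMap.polar (⇑Q) (p₁ : ι → F) v = 0 →
        QuadraticMap.polar (⇑Q) (p₂ : ι → F) v = 0 → gmat g *ᵥ v = v := fun v hv a b => by
      rw [g2 v hv, b]; simp [a]
    have he1 : gmat g *ᵥ R.tail.e 0 = R.tail.e 0 := hfix _ (R.tail.e_mem 0)
      (by rw [QuadraticMap.polar_comm]; exact (hT0 _ p₁.2).1.2.1)
      (by rw [QuadraticMap.polar_comm]; exact (hT0 _ p₂.2).1.2.1)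
    have hgw : gmat g *ᵥ ((w' : R.tail.W1) : ι → F) = w' := hfix _ w'.2.1
      (hzw _ p₁.2) (hzw _ p₂.2)
    let M : S.core → S.core := fun v =>
      -(QuadraticMap.polar (⇑Q) (p₂ : ι → F) (v : ι → F) • p₂) -
        QuadraticMap.polar (⇑Q) (p₁ : ι → F)
          ((v : ι → F) - QuadraticMap.polar (⇑Q) (p₂ : ι → F) (v : ι → F) • (p₂ : ι → F)) • p₁
    have hMk : ∀ v : S.core, Kills R σ ψ 0 ((w' : R.tail.W1) : ι → F) ⟨M v, (hT0 _ (M v).2).1⟩ := by
      intro v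
      have hk := kills_moved R σ ψ w' hrw g g0 g1 he1 hgw (u := ⟨v, (hT0 _ v.2).1⟩)
        (v := ⟨(v : ι → F) + M v, (hT0 _ (S.W1.add_mem v.2 (M v).2)).1⟩) (by
          show gmat g *ᵥ (v : ι → F) = (v : ι → F) + (M v : ι → F)
          rw [g2 _ (hT0 _ v.2).1.1]
          simp only [M, AddSubgroupClass.coe_sub, NegMemClass.coe_neg, SetLike.val_smul]
          module) (hzw _ v.2)
      convert hk using 1
      exact Subtype.ext (by simp)
    have hinj : Function.Injective M := by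
      intro v v' hvv
      rw [← sub_eq_zero]
      set d := v - v'
      have hd : -(QuadraticMap.polar (⇑Q) (p₂ : ι → F) (d : ι → F) • p₂) -
          QuadraticMap.polar (⇑Q) (p₁ : ι → F)
            ((d : ι → F) - QuadraticMap.polar (⇑Q) (p₂ : ι → F) (d : ι → F) • (p₂ : ι → F)) • p₁ = 0 := by
        rw [← sub_eq_zero.2 hvv]
        simp only [M, d, AddSubgroupClass.coe_sub, QuadraticMap.polar_sub_right, QuadraticMap.polar_smul_right,
          smul_eq_mul]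
        module
      have h2 := hind (-(QuadraticMap.polar (⇑Q) (p₁ : ι → F)
          ((d : ι → F) - QuadraticMap.polar (⇑Q) (p₂ : ι → F) (d : ι → F) • (p₂ : ι → F))))
        (-QuadraticMap.polar (⇑Q) (p₂ : ι → F) (d : ι → F)) (by rw [← hd]; module)
      obtain ⟨e1, e2⟩ := h2
      rw [neg_eq_zero] at e1 e2
      rw [e2, zero_smul, sub_zero] at e1
      have hsurj : Function.Surjective fun p : F × F => p.1 • p₁ + p.2 • p₂ := by
        refine ((Fintype.bijective_iff_injective_and_card _).2 ⟨fun p p' hpp => ?_, ?_⟩).2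
        · have h3 := hind (p.1 - p'.1) (p.2 - p'.2) (by
            rw [show (p.1 - p'.1) • p₁ + (p.2 - p'.2) • p₂ = (p.1 • p₁ + p.2 • p₂) - (p'.1 • p₁ + p'.2 • p₂) by
              module, sub_eq_zero]
            exact hpp)
          exact Prod.ext (sub_eq_zero.1 h3.1) (sub_eq_zero.1 h3.2)
        · rw [Fintype.card_prod, hmS.card_core, sq]
      refine Subtype.ext (core_sep S _ d.2 fun y hy => ?_)
      obtain ⟨⟨c₁, c₂⟩, hc⟩ := hsurj ⟨y, hy⟩
      have hy' : y = c₁ • (p₁ : ι → F) + c₂ • (p₂ : ι → F) := (congrArg Subtype.val hc).symm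
      rw [hy', QuadraticMap.polar_add_right, QuadraticMap.polar_smul_right, QuadraticMap.polar_smul_right,
        QuadraticMap.polar_comm (⇑Q) (d : ι → F), e1, QuadraticMap.polar_comm (⇑Q) (d : ι → F), e2]
      simp
    obtain ⟨v, hv⟩ := (Finite.injective_iff_surjective.1 hinj) ⟨z, hz⟩
    have hkz := hMk v
    have hu' : u = s • (⟨x, hx⟩ : R.tail.W1) + ⟨M v, (hT0 _ (M v).2).1⟩ := Subtype.ext (by
      show (u : ι → F) = s • x + (M v : ι → F)
      rw [hv, hdu, ht, zero_smul, add_zero])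
    rw [hu']
    exact hks.add hkz
  refine trivial_of_cases R σ ψ (fun a u ha => ?_) fun w' u hw' hu => ?_
  · refine kills_pair R σ ψ 0 (hr a 0 (.inl ha)) (S.e_mem 0) (S.f_mem 0) (S.qe 0) (S.qf 0) (S.toPr.ef_self 0)
      (by simp) (by simp) S.W1 (fun z hz => ⟨hz.1, hz.2.1, hz.2.2, by simp⟩) hpair u
      ⟨_, _, _, S.proj_mem u.2, S.decomp _⟩
  · by_cases hq : Q (w' : ι → F) = 0
    swap
    · unfold Kills
      rw [zero_smul, zero_add, hs ⟨_, tail_W1_le R w'.2⟩ hq, mul_zero]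
    have hdec : ∀ v ∈ R.tail.W1, ∃ s t : F, ∃ z ∈ S.W1, v = s • S.e 0 + t • S.f 0 + z := fun v hv =>
      ⟨_, _, _, S.proj_mem hv, S.decomp v⟩
    set A := QuadraticMap.polar (⇑Q) (S.f 0) (w' : ι → F) with hA
    set B := QuadraticMap.polar (⇑Q) (S.e 0) (w' : ι → F) with hB
    have hd := S.decomp (w' : ι → F)
    have hp := S.proj_mem (x := (w' : ι → F)) w'.2
    have hqd : A * B + Q (S.proj (w' : ι → F)) = 0 := by
      have h2 := congrArg Q hd
      rw [hq, S.quad_comb _ _ hp] at h2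
      exact h2.symm
    by_cases hB0 : B = 0
    · have hz : S.proj (w' : ι → F) = 0 := by
        rw [hB0, mul_zero, zero_add] at hqd
        have h3 : (⟨_, hp⟩ : S.core) = 0 := by
          by_contra h4
          have h5 : 2 ≤ cnt Q S.core 0 := Finset.one_lt_card.2 ⟨⟨_, hp⟩,
            Finset.mem_filter.2 ⟨Finset.mem_univ _, hqd⟩, 0, Finset.mem_filter.2 ⟨Finset.mem_univ _, by simp⟩, h4⟩
          rw [hmS.cnt_zero] at h5
          omega
        exact congrArg Subtype.val h3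
      have hwA : (w' : ι → F) = A • S.e 0 := by
        rw [hd, hz, ← hB, hB0, zero_smul, add_zero, add_zero]
      rw [hwA] at hu ⊢
      exact hline _ _ (S.e_mem 0) (S.f_mem 0) (S.qe 0) (S.qf 0) (S.toPr.ef_self 0)
        (fun z hz => ⟨hz.2.1, hz.2.2⟩) hdec A (fun h => hw' (Subtype.ext (by
          rw [hwA, h, zero_smul, ZeroMemClass.coe_zero]))) u hu
    set y : S.W1 := ⟨(-B⁻¹) • S.proj (w' : ι → F), S.W1.smul_mem _ hp⟩
    set h : ↥(gw Q R.top) := incl R (incl R.tail (rootE S y)) with hh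
    have hhm : gmat h = eich Q (S.e 0) (y : ι → F) := rfl
    have hh0 : gmat h *ᵥ (w' : ι → F) = B • S.f 0 := by
      have h2 : gmat h *ᵥ (w' : ι → F) = (A - QuadraticMap.polar (⇑Q) (y : ι → F) (S.proj (w' : ι → F)) -
          Q (y : ι → F) * B) • S.e 0 + B • S.f 0 + (S.proj (w' : ι → F) + B • (y : ι → F)) := by
        conv_lhs => rw [hd]
        rw [hhm]
        exact S.eich_e_apply A B hp y.2
      have h4 : S.proj (w' : ι → F) + B • (y : ι → F) = 0 := by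
        show _ + B • ((-B⁻¹) • S.proj (w' : ι → F)) = 0
        rw [smul_smul, mul_neg, mul_inv_cancel₀ hB0, neg_one_smul, add_neg_cancel]
      rw [h4, add_zero] at h2
      set A' := A - QuadraticMap.polar (⇑Q) (y : ι → F) (S.proj (w' : ι → F)) - Q (y : ι → F) * B
      have h5 : A' * B = 0 := by
        have h6 : Q (gmat h *ᵥ (w' : ι → F)) = 0 := (quad_mulVec Q _ _).trans hq
        rw [h2, ← add_zero (A' • S.e 0 + B • S.f 0), S.quad_comb _ _ S.W1.zero_mem] at h6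
        simpa using h6
      rw [h2, (mul_eq_zero.1 h5).resolve_right hB0, zero_smul, zero_add]
    have hfixed : ∀ v : ι → F, QuadraticMap.polar (⇑Q) (S.e 0) v = 0 → QuadraticMap.polar (⇑Q) (y : ι → F) v = 0 →
        gmat h *ᵥ v = v := fun v a b => by rw [hhm]; simp [eich_mulVec, a, b]
    have hy : (y : ι → F) ∈ R.tail.W1 := y.2.1
    have k0 := hfixed (R.e 0) (by rw [QuadraticMap.polar_comm]; exact (S.e_mem 0).1.2.1)
      (by rw [QuadraticMap.polar_comm]; exact hy.1.2.1)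
    have k1 := hfixed (R.f 0) (by rw [QuadraticMap.polar_comm]; exact (S.e_mem 0).1.2.2)
      (by rw [QuadraticMap.polar_comm]; exact hy.1.2.2)
    have k2 := hfixed (R.tail.e 0) (by rw [QuadraticMap.polar_comm]; exact (S.e_mem 0).2.1)
      (by rw [QuadraticMap.polar_comm]; exact hy.2.1)
    have hmem : gmat h *ᵥ (u : ι → F) ∈ R.tail.W1 := (gw_spec (rootE S y).2).1 _ u.2
    refine kills_transport R σ ψ h⁻¹ (gmat_inv_mulVec k0) (gmat_inv_mulVec k1) (gmat_inv_mulVec k2)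
      (gmat_inv_mulVec hh0) (u := ⟨_, hmem⟩) (gmat_inv_mulVec rfl) ?_
    refine hline _ _ (S.f_mem 0) (S.e_mem 0) (S.qf 0) (S.qe 0) (S.toPr.fe_self 0)
      (fun z hz => ⟨hz.2.2, hz.2.1⟩) (fun v hv => ?_) B hB0 _ ?_
    · obtain ⟨s, t, z, hz, hvd⟩ := hdec v hv
      exact ⟨t, s, z, hz, by rw [hvd, add_comm (s • _)]⟩
    · show QuadraticMap.polar (⇑Q) (gmat h *ᵥ (u : ι → F)) (B • S.f 0) = 0
      rw [← hh0]
      exact (polar_mulVec Q _ _ _).trans hu

/-- At least four pairs. -/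
theorem minus_trivial_four {n : ℕ} (R : Fr Q (n + 4)) (hm : IsMinus R) (σ : Representation ℂ ↥(gw Q R.top) V)
    (h1 : ∀ w : R.W1, w ≠ 0 → rnk (wP ψ R σ (w : ι → F)) ≤ 1) : Trivial R σ ψ := by
  classical
  set S := R.tail.tail with hS
  set S' := S.tail with hS'
  have hmS : IsMinus S' := hm.tail.tail.tail
  have hne : ∀ T : Submodule F (ι → F), (∀ x ∈ T, (∀ y ∈ T, QuadraticMap.polar (⇑Q) x y = 0) → x = 0) →
      2 ≤ Fintype.card T → ∃ z₁ ∈ T, ∃ z₂ ∈ T, QuadraticMap.polar (⇑Q) z₁ z₂ ≠ 0 := fun T hsep hc => by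
    by_contra hall
    push Not at hall
    have h : Fintype.card T ≤ 1 := Fintype.card_le_one_iff.2 fun a b =>
      Subtype.ext ((hsep _ a.2 (hall _ a.2)).trans (hsep _ b.2 (hall _ b.2)).symm)
    omega
  have hq2 : 2 ≤ Fintype.card F := Fintype.one_lt_card
  have hpairS : ∃ z₁ ∈ S.W1, ∃ z₂ ∈ S.W1, QuadraticMap.polar (⇑Q) z₁ z₂ ≠ 0 :=
    ⟨_, S.tail.e_mem 0, _, S.tail.f_mem 0, by rw [S.tail.toPr.ef_self]; exact one_ne_zero⟩
  have hpairS' : ∃ z₁ ∈ S'.W1, ∃ z₂ ∈ S'.W1, QuadraticMap.polar (⇑Q) z₁ z₂ ≠ 0 := by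
    refine hne _ (fun _ hx h => S'.sep_W1 hx h) ?_
    rw [show Fintype.card S'.W1 = Fintype.card S'.tail.top from rfl, card_top_eq S'.tail, hmS.tail.card_core,
      ← pow_add]
    exact hq2.trans (Nat.le_self_pow (by omega) _)
  have hr : ∀ (a : F) (w' : R.tail.W1), (a ≠ 0 ∨ w' ≠ 0) →
      rnk (wP ψ R σ (a • R.tail.e 0 + (w' : ι → F))) ≤ 1 := by
    intro a w' hne'
    refine h1 ⟨_, R.W1.add_mem (R.W1.smul_mem _ (R.tail.e_mem 0)) (tail_W1_le R w'.2)⟩ fun h => ?_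
    have h2 : a • R.tail.e 0 + (w' : ι → F) = 0 := congrArg Subtype.val h
    have ha := congrArg (QuadraticMap.polar (⇑Q) (R.tail.f 0)) h2
    rw [QuadraticMap.polar_add_right, QuadraticMap.polar_smul_right, R.tail.toPr.fe_self, w'.2.2.2,
      QuadraticMap.polar_zero_right] at ha
    have ha' : a = 0 := by simpa using ha
    rw [ha', zero_smul, zero_add] at h2
    exact hne'.elim (fun h => h ha') fun h => h (Subtype.ext h2)
  refine trivial_of_cases R σ ψ (fun a u ha => ?_) fun w' u hw' hu => ?_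
  · exact kills_pair R σ ψ 0 (hr a 0 (.inl ha)) (S.e_mem 0) (S.f_mem 0) (S.qe 0) (S.qf 0) (S.toPr.ef_self 0)
      (by simp) (by simp) S.W1 (fun z hz => ⟨hz.1, hz.2.1, hz.2.2, by simp⟩) hpairS u
      ⟨_, _, _, S.proj_mem u.2, S.decomp _⟩
  set c := Q (w' : ι → F)
  set w₀ : R.tail.W1 := ⟨nfv S c, nfv_mem S c⟩
  obtain ⟨g, -, hg⟩ := S.exists_move w₀.2 (nfv_ne S c) w'.2 (fun h => hw' (Subtype.ext h)) (quad_nfv S c)
  set h : ↥(gw Q R.top) := incl R (incl R.tail g)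
  have hfix : ∀ v : ι → F, (∀ z ∈ S.top, QuadraticMap.polar (⇑Q) v z = 0) → gmat h *ᵥ v = v :=
    fun v hv => (gw_spec g.2).2 v fun y hy => by rw [QuadraticMap.polar_comm]; exact hv y hy
  have k0 := hfix (R.e 0) fun z hz => (show z ∈ R.tail.W1 from hz).1.2.1
  have k1 := hfix (R.f 0) fun z hz => (show z ∈ R.tail.W1 from hz).1.2.2
  have k2 := hfix (R.tail.e 0) fun z hz => (show z ∈ R.tail.W1 from hz).2.1
  have hmem : gmat h⁻¹ *ᵥ (u : ι → F) ∈ R.tail.W1 := by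
    have := (gw_spec (g⁻¹).2).1 _ u.2
    rwa [show gmat h⁻¹ = gmat g⁻¹ from rfl]
  set u₀ : R.tail.W1 := ⟨_, hmem⟩
  refine kills_transport R σ ψ h k0 k1 k2 (hg : gmat h *ᵥ (w₀ : ι → F) = w') (u := u₀) ?_ ?_
  · show gmat h *ᵥ (gmat h⁻¹ *ᵥ (u : ι → F)) = u
    rw [Matrix.mulVec_mulVec, ← gmat_mul, mul_inv_cancel, gmat_one, Matrix.one_mulVec]
  have hu₀ : QuadraticMap.polar (⇑Q) (u₀ : ι → F) (w₀ : ι → F) = 0 := by
    show QuadraticMap.polar (⇑Q) (gmat h⁻¹ *ᵥ (u : ι → F)) (w₀ : ι → F) = 0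
    rw [← gmat_inv_mulVec (hg : gmat h *ᵥ (w₀ : ι → F) = w')]
    exact (polar_mulVec Q _ _ _).trans hu
  have hrw := hr 0 w₀ (.inr fun h => nfv_ne S c (congrArg Subtype.val h))
  set v : R.tail.W1 := ⟨c • S.e 0 - S.f 0,
    R.tail.W1.sub_mem (R.tail.W1.smul_mem _ (S.e_mem 0)) (S.f_mem 0)⟩
  have hperp : ∀ z ∈ S.W1, QuadraticMap.polar (⇑Q) z (w₀ : ι → F) = 0 := fun z hz => by
    show QuadraticMap.polar (⇑Q) z (c • S.e 0 + S.f 0) = 0
    rw [QuadraticMap.polar_add_right, QuadraticMap.polar_smul_right, QuadraticMap.polar_comm, hz.2.1,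
      QuadraticMap.polar_comm, hz.2.2]
    simp
  have hk : ∀ z : R.tail.W1, (z : ι → F) ∈ S.W1 → Kills R σ ψ 0 (w₀ : ι → F) z := fun z hz =>
    kills_pair R σ ψ w₀ hrw (S'.e_mem 0).1 (S'.f_mem 0).1 (S'.qe 0) (S'.qf 0) (S'.toPr.ef_self 0)
      (hperp _ (S'.e_mem 0)) (hperp _ (S'.f_mem 0)) S'.W1
      (fun z hz => ⟨hz.1.1, hz.2.1, hz.2.2, hperp z hz.1⟩) hpairS' z ⟨_, _, _, S'.proj_mem hz, S'.decomp _⟩
  have hv : ∀ t : F, Kills R σ ψ 0 (w₀ : ι → F) (t • v) := by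
    intro t
    have h2 := kills_eich R σ ψ w₀ hrw (S'.e_mem 0).1 (R.tail.W1.smul_mem t v.2) (S'.f_mem 0).1 (S'.qe 0)
      (v := t • v - Q (t • (v : ι → F)) • ⟨S'.e 0, (S'.e_mem 0).1⟩) ?_ (hperp _ (S'.e_mem 0)) ?_
      (hperp _ (S'.f_mem 0)) ?_
    · have h3 := h2.add (hk (Q (t • (v : ι → F)) • ⟨S'.e 0, (S'.e_mem 0).1⟩) (S.W1.smul_mem _ (show S'.e 0 ∈ S.W1 from S'.e_mem 0)))
      rwa [sub_add_cancel] at h3
    · show QuadraticMap.polar (⇑Q) (S'.e 0) (t • (c • S.e 0 - S.f 0)) = 0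
      rw [QuadraticMap.polar_smul_right, QuadraticMap.polar_sub_right, QuadraticMap.polar_smul_right,
        QuadraticMap.polar_comm (⇑Q) (S'.e 0) (S.e 0), (S'.e_mem 0).2.1,
        QuadraticMap.polar_comm (⇑Q) (S'.e 0) (S.f 0), (S'.e_mem 0).2.2]
      simp
    · show QuadraticMap.polar (⇑Q) (t • (c • S.e 0 - S.f 0)) (c • S.e 0 + S.f 0) = 0
      simp [QuadraticMap.polar_smul_left, QuadraticMap.polar_sub_left, QuadraticMap.polar_add_right,
        QuadraticMap.polar_smul_right, S.ee, S.ff, S.toPr.ef_self, S.toPr.fe_self]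
      ring
    · show eich Q (S'.e 0) (t • (c • S.e 0 - S.f 0)) *ᵥ S'.f 0 - S'.f 0 = _
      simp only [eich_mulVec, S'.toPr.ef_self, AddSubgroupClass.coe_sub, SetLike.val_smul,
        QuadraticMap.polar_smul_left, QuadraticMap.polar_sub_left,
        (S'.f_mem 0).2.1, (S'.f_mem 0).2.2, v, smul_eq_mul]
      module
  set B := QuadraticMap.polar (⇑Q) (S.e 0) (u₀ : ι → F) with hB
  have hA : QuadraticMap.polar (⇑Q) (S.f 0) (u₀ : ι → F) = -(c * B) := by
    have h2 : QuadraticMap.polar (⇑Q) (u₀ : ι → F) (c • S.e 0 + S.f 0) = 0 := hu₀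
    rw [QuadraticMap.polar_add_right, QuadraticMap.polar_smul_right, QuadraticMap.polar_comm,
      QuadraticMap.polar_comm (⇑Q) _ (S.f 0), smul_eq_mul, ← hB] at h2
    linear_combination h2
  have hsplit : u₀ = (-B) • v + ⟨S.proj (u₀ : ι → F), (S.proj_mem u₀.2).1⟩ := Subtype.ext (by
    conv_lhs => rw [S.decomp (u₀ : ι → F), hA, ← hB]
    simp only [Submodule.coe_add, SetLike.val_smul, v]
    module)
  rw [hsplit]
  exact (hv _).add (hk _ (S.proj_mem u₀.2))

end CfsgLib.OrthDeg
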