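import Cfsg.Agent.OrthDeg.Basic
import Cfsg.Agent.Spinor.StdForms

/-!
# Standard frames and the passage to `Omega`
-/

set_option autoImplicit false
set_option linter.unusedSectionVars false

namespace CfsgLib.OrthDeg

open Matrix Module CfsgLib.Forms CfsgLib.Spinor CfsgLib.Forms4

variable {F : Type*} [Field F] [Fintype F] {ι : Type} [Fintype ι] [DecidableEq ι]

noncomputable local instance subFintypeStd (S : Submodule F (ι → F)) : Fintype S := Fintype.ofFinite S

/-- The frame given by two families of unit vectors. -/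
noncomputable def stdFr {Q : QuadraticForm F (ι → F)} {n : ℕ} (hQ : (QuadraticMap.polarBilin Q).Nondegenerate)
    (a b : Fin n → ι) (ha : ∀ i, Q (Pi.single (a i) 1) = 0) (hb : ∀ i, Q (Pi.single (b i) 1) = 0)
    (haa : ∀ i j, QuadraticMap.polar (⇑Q) (Pi.single (a i) (1 : F)) (Pi.single (a j) 1) = 0)
    (hbb : ∀ i j, QuadraticMap.polar (⇑Q) (Pi.single (b i) (1 : F)) (Pi.single (b j) 1) = 0)
    (hab : ∀ i j, QuadraticMap.polar (⇑Q) (Pi.single (a i) (1 : F)) (Pi.single (b j) 1) = if i = j then 1 else 0) :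
    Fr Q n where
  e i := Pi.single (a i) 1
  f i := Pi.single (b i) 1
  qe := ha
  qf := hb
  ee := haa
  ff := hbb
  ef := hab
  top := ⊤
  e_mem _ := trivial
  f_mem _ := trivial
  sep x _ h := hQ.1 x fun y => h y trivial

theorem card_core {Q : QuadraticForm F (ι → F)} {n m : ℕ} (R : Fr Q n) (hR : R.top = ⊤)
    (hι : Fintype.card ι = 2 * n + m) : Fintype.card R.core = Fintype.card F ^ m := by
  classical
  have h := card_top_eq R
  have h1 : Fintype.card R.top = Fintype.card F ^ (2 * n + m) := by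
    rw [← hι, ← Fintype.card_fun]
    exact Fintype.card_congr ((Equiv.subtypeEquivRight fun x => by rw [hR]; simp).trans (Equiv.Set.univ (ι → F)))
  rw [h1, pow_add] at h
  exact (Nat.eq_of_mul_eq_mul_left (pow_pos Fintype.card_pos _) h).symm

/-- A bound for `gw R.top` is a bound for `Ω`. -/
theorem omega_bound {Q : QuadraticForm F (ι → F)} (hQ : (QuadraticMap.polarBilin Q).Nondegenerate)
    (hn : 5 ≤ Fintype.card ι) {f : (ι → F) → F} (hf : ⇑Q = f) {n : ℕ} (R : Fr Q (n + 2)) (hR : R.top = ⊤)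
    {B : ℕ} (h : ∀ (W : Type) [AddCommGroup W] [Module ℂ W] [FiniteDimensional ℂ W]
      (τ : Representation ℂ ↥(gw Q R.top) W), (∃ g, τ g ≠ 1) → B ≤ finrank ℂ W) :
    ∀ (k : ℕ) (ρ : Representation ℂ (Cfsg.Omega F f) (Fin k → ℂ)), ρ.IsIrreducible → 2 ≤ k → B ≤ k := by
  subst hf
  intro k ρ hirr hk
  let T : TwoPairs Q :=
    { e := R.e 0, f := R.f 0, a := R.e 1, b := R.f 1
      qe := R.qe _, qf := R.qf _, qa := R.qe _, qb := R.qf _
      ef := R.toPr.ef_self _, ab := R.toPr.ef_self _, ea := R.ee _ _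
      eb := R.toPr.ef_ne (by simp), fa := R.toPr.fe_ne (by simp), fb := R.ff _ _ }
  have heq : gw Q R.top = Cfsg.Omega F ⇑Q := by
    rw [TwoPairs.omega_eq_eichGroup hQ hn T, hR, gw_top]
  let e : ↥(gw Q R.top) ≃* ↥(Cfsg.Omega F ⇑Q) := MulEquiv.subgroupCongr heq
  have hne : ∃ g, ρ g ≠ 1 := by
    by_contra hall
    push Not at hall
    have hsimple : IsSimpleOrder (Subrepresentation ρ) := hirr
    let P : Submodule ℂ (Fin k → ℂ) := ℂ ∙ (Pi.single ⟨0, by omega⟩ 1)
    let S : Subrepresentation ρ := ⟨P, fun g v hv => by rw [hall g]; exact hv⟩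
    rcases hsimple.eq_bot_or_eq_top S with hS | hS
    · have h1 : P = ⊥ := congrArg Subrepresentation.toSubmodule hS
      exact one_ne_zero (Pi.single_eq_zero_iff.1 (Submodule.span_singleton_eq_bot.1 h1) : (1 : ℂ) = 0)
    · have h1 : P = ⊤ := congrArg Subrepresentation.toSubmodule hS
      have h2 := finrank_span_singleton (K := ℂ) (v := (Pi.single ⟨0, by omega⟩ 1 : Fin k → ℂ))
        (by simp)
      rw [show (ℂ ∙ (Pi.single ⟨0, by omega⟩ 1 : Fin k → ℂ)) = ⊤ from h1, finrank_top, Module.finrank_fintype_fun_eq_card,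
        Fintype.card_fin] at h2
      omega
  obtain ⟨g, hg⟩ := hne
  have := h (Fin k → ℂ) (ρ.comp e.toMonoidHom) ⟨e.symm g, by
    simpa using hg⟩
  rwa [Module.finrank_fintype_fun_eq_card, Fintype.card_fin] at this

end CfsgLib.OrthDeg
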