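import Cfsg.Agent.OrthDeg.OddGhost
import Cfsg.Agent.OrthDeg.Clique
import Cfsg.Agent.OrthDeg.Arith
import Cfsg.Agent.OrthDeg.Std

/-!
# Minimal degree for frames with a one-dimensional core
-/

set_option autoImplicit false
set_option linter.unusedSectionVars false

namespace CfsgLib.OrthDeg

open Matrix Module CfsgLib.Forms CfsgLib.Spinor CfsgLib.Forms4 CfsgLib.RepBounds

variable {F : Type*} [Field F] [Fintype F] [DecidableEq F] {ι : Type} [Fintype ι] [DecidableEq ι]
  {Q : QuadraticForm F (ι → F)}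

noncomputable local instance subFintypeOdd (S : Submodule F (ι → F)) : Fintype S := Fintype.ofFinite S

theorem oddBound_formula {q : ℕ} (hq : 1 ≤ q) (k : ℕ) : oddBound q k * (q ^ 2 - 1) = q ^ (2 * k) - 1 := by
  have hle : ∀ s, 1 ≤ q ^ s := fun s => Nat.one_le_pow _ _ hq
  induction k with
  | zero => simp [oddBound]
  | succ k ih =>
    simp only [oddBound]
    rw [add_mul, ih, Nat.mul_sub, mul_one, ← pow_add, show 2 * (k + 1) = 2 * k + 2 from rfl]
    have := hle (2 * k)
    have : q ^ (2 * k) ≤ q ^ (2 * k + 2) := Nat.pow_le_pow_right hq (by omega)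
    omega

theorem oddBound_le {q : ℕ} (hq : 5 ≤ q) : ∀ {k : ℕ}, 1 ≤ k → oddBound q k + 2 * q ^ k ≤ q ^ (2 * k)
  | 0, h => absurd h (by omega)
  | 1, _ => by simp [oddBound]; nlinarith
  | k + 2, _ => by
    have ih := oddBound_le hq (k := k + 1) (by omega)
    have h1 : q ^ (k + 2) ≤ q ^ (2 * (k + 1)) := Nat.pow_le_pow_right (by omega) (by omega)
    have h2 : q ^ (2 * (k + 2)) = q ^ 2 * q ^ (2 * (k + 1)) := by ring
    have h3 : 25 * q ^ (2 * (k + 1)) ≤ q ^ 2 * q ^ (2 * (k + 1)) := Nat.mul_le_mul_right _ (by nlinarith)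
    rw [show oddBound q (k + 2) = oddBound q (k + 1) + q ^ (2 * (k + 1)) from rfl]
    omega

theorem odd_cnt_ge {k : ℕ} (R : Fr Q k) (hR : IsOdd R) (c : F) :
    Fintype.card F ^ (2 * k) - Fintype.card F ^ k ≤ cnt Q R.top c := by
  have h := cnt_top_eq R c
  rw [hR.card_core] at h
  have h1 : Fintype.card F * Fintype.card F ^ (2 * k) ≤
      Fintype.card F * (cnt Q R.top c + Fintype.card F ^ k) := by
    rw [mul_add, mul_comm (Fintype.card F) (Fintype.card F ^ k), h, mul_comm (Fintype.card F) (Fintype.card F ^ (2 * k))]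
    exact Nat.le_add_right _ _
  have h2 := Nat.le_of_mul_le_mul_left h1 Fintype.card_pos
  omega

/-- Scaling the last pair in the whole group. -/
theorem spin_top {m : ℕ} (R : Fr Q (m + 2)) (hR : IsOdd R) (hRt : R.top = ⊤) (h2 : (2 : F) ≠ 0)
    (hQ : (QuadraticMap.polarBilin Q).Nondegenerate) (hn : 5 ≤ Fintype.card ι) : Spin R := by
  classical
  intro g ν ε hfix he hf hz
  set L := Fin.last (m + 1)
  let T : TwoPairs Q :=
    { e := R.e 0, f := R.f 0, a := R.e 1, b := R.f 1
      qe := R.qe _, qf := R.qf _, qa := R.qe _, qb := R.qf _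
      ef := R.toPr.ef_self _, ab := R.toPr.ef_self _, ea := R.ee _ _
      eb := R.toPr.ef_ne (by simp), fa := R.toPr.fe_ne (by simp), fb := R.ff _ _ }
  have homega : (g : ↥(Cfsg.isometryGroup F ⇑Q)) ∈ Cfsg.Omega F ⇑Q := by
    rw [TwoPairs.omega_eq_eichGroup hQ hn T, ← gw_top, ← hRt]
    exact g.2
  obtain ⟨z, hz'⟩ := Fintype.exists_ne_of_one_lt_card
    (show 1 < Fintype.card R.core by rw [hR.card_core]; exact Fintype.one_lt_card) 0
  have hz0 : (z : ι → F) ≠ 0 := fun h => hz' (Subtype.ext h)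
  have hqz : Q (z : ι → F) ≠ 0 := hR.core_ne _ z.2 hz0
  obtain ⟨-, hzp⟩ := core_spec R z.2
  have hline : ∀ v ∈ R.core, ∃ a : F, v = a • (z : ι → F) := fun v hv => by
    have hinj : Function.Injective fun a : F => (⟨a • (z : ι → F), R.core.smul_mem a z.2⟩ : R.core) := by
      intro a b hab
      have h1 : a • (z : ι → F) = b • (z : ι → F) := congrArg Subtype.val hab
      by_contra hne
      rw [← sub_eq_zero, ← sub_smul, smul_eq_zero] at h1
      exact hz0 (h1.resolve_left (sub_ne_zero.2 hne))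
    obtain ⟨a, ha⟩ := ((Fintype.bijective_iff_injective_and_card _).2 ⟨hinj, hR.card_core.symm⟩).2 ⟨v, hv⟩
    exact ⟨a, (congrArg Subtype.val ha).symm⟩
  have hq1 : ∀ s : F, Q (R.e L - s • R.f L) = -s := fun s => by
    rw [sub_eq_add_neg, ← neg_smul, QuadraticMap.map_add (⇑Q), QuadraticMap.map_smul, R.qe, R.qf,
      QuadraticMap.polar_smul_right, R.toPr.ef_self]
    simp
  set vs := [R.e L - (1 : F) • R.f L, R.e L - (ν : F) • R.f L] with hvs
  have hvs0 : ∀ v ∈ vs, Q v ≠ 0 := by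
    intro v hv
    simp only [hvs, List.mem_cons, List.not_mem_nil, or_false] at hv
    rcases hv with rfl | rfl <;> rw [hq1] <;> simp
  set M := (vs.map fun v => Cfsg.reflectionMatrix (⇑Q) v).prod with hM
  have hMx : ∀ x, M *ᵥ x = refl Q (R.e L - (1 : F) • R.f L) (refl Q (R.e L - (ν : F) • R.f L) x) := fun x => by
    simp [hM, hvs, reflectionMatrix_mulVec, ← Matrix.mulVec_mulVec]
  have hrefl : ∀ (s : F) (x : ι → F), refl Q (R.e L - s • R.f L) x =
      x - ((-s)⁻¹ * (QuadraticMap.polar (⇑Q) (R.e L) x - s * QuadraticMap.polar (⇑Q) (R.f L) x)) •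
        (R.e L - s • R.f L) := fun s x => by
    rw [refl_apply, hq1, QuadraticMap.polar_sub_left, QuadraticMap.polar_smul_left, smul_eq_mul]
  have hMe : M *ᵥ R.e L = (ν : F) • R.e L := by
    simp only [hMx, hrefl, QuadraticMap.polar_sub_right, QuadraticMap.polar_smul_right, R.ee, R.ff,
      R.toPr.ef_self, R.toPr.fe_self, smul_eq_mul]
    match_scalars <;> field_simp <;> ring
  have hMf : M *ᵥ R.f L = (ν : F)⁻¹ • R.f L := by
    simp only [hMx, hrefl, QuadraticMap.polar_sub_right, QuadraticMap.polar_smul_right, R.ee, R.ff,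
      R.toPr.ef_self, R.toPr.fe_self, smul_eq_mul]
    match_scalars <;> field_simp <;> ring
  have hMo : ∀ x, QuadraticMap.polar (⇑Q) (R.e L) x = 0 → QuadraticMap.polar (⇑Q) (R.f L) x = 0 → M *ᵥ x = x :=
    fun x h1 h2 => by
      simp only [hMx, hrefl, QuadraticMap.polar_sub_right, QuadraticMap.polar_smul_right, h1, h2, smul_eq_mul]
      simp
  have hext : ∀ N : Matrix ι ι F, (∀ j, N *ᵥ R.e j = gmat g *ᵥ R.e j ∧ N *ᵥ R.f j = gmat g *ᵥ R.f j) →
      (∀ v ∈ R.core, N *ᵥ v = gmat g *ᵥ v) → gmat g = N := fun N hj hc => by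
    refine Matrix.ext_iff_mulVec.2 fun x => ?_
    let K : Submodule F (ι → F) := LinearMap.eqLocus (Matrix.toLin' (gmat g)) (Matrix.toLin' N)
    have hK : ∀ y, N *ᵥ y = gmat g *ᵥ y → y ∈ K := fun y hy => by
      show Matrix.toLin' (gmat g) y = Matrix.toLin' N y
      rw [Matrix.toLin'_apply, Matrix.toLin'_apply, hy]
    have h : Matrix.toLin' (gmat g) x = Matrix.toLin' N x :=
      top_le_of_mem R K (fun j => ⟨hK _ (hj j).1, hK _ (hj j).2⟩) (fun v hv => hK v (hc v hv))
        (hRt ▸ Submodule.mem_top : x ∈ R.top)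
    rwa [Matrix.toLin'_apply, Matrix.toLin'_apply] at h
  have hjs : ∀ j, M *ᵥ R.e j = gmat g *ᵥ R.e j ∧ M *ᵥ R.f j = gmat g *ᵥ R.f j := fun j => by
    by_cases hj : j = L
    · subst hj; exact ⟨hMe.trans he.symm, hMf.trans hf.symm⟩
    · exact ⟨(hMo _ (R.ee _ _) (R.toPr.fe_ne (Ne.symm hj))).trans (hfix j hj).1.symm,
        (hMo _ (R.toPr.ef_ne (Ne.symm hj)) (R.ff _ _)).trans (hfix j hj).2.symm⟩
  have hε : ε * ε = 1 := by
    have h := (quad_mulVec Q (g : ↥(Cfsg.isometryGroup F ⇑Q)) (z : ι → F))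
    rw [show mat Q (g : ↥(Cfsg.isometryGroup F ⇑Q)) *ᵥ (z : ι → F) = ε • (z : ι → F) from hz _ z.2,
      QuadraticMap.map_smul, smul_eq_mul] at h
    exact mul_right_cancel₀ hqz (h.trans (one_mul _).symm)
  rcases mul_self_eq_one_iff.1 hε with h1 | h1
  · refine ⟨h1, ?_⟩
    have hprod : IsReflProd Q (g : ↥(Cfsg.isometryGroup F ⇑Q)) vs := ⟨hvs0, hext M hjs fun v hv => by
      obtain ⟨-, hvp⟩ := core_spec R hv
      rw [hMo v (hvp L).1 (hvp L).2, hz v hv, h1, one_smul]⟩
    have h := ((mem_omega_iff h2 hQ hprod).1 homega).2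
    have hprodQ : (vs.map fun v => Q v).prod = (ν : F) := by
      simp only [hvs, List.map_cons, List.map_nil, List.prod_cons, List.prod_nil, hq1]
      ring
    rwa [hprodQ] at h
  · exfalso
    have hrz : ∀ x, QuadraticMap.polar (⇑Q) (z : ι → F) x = 0 → refl Q (z : ι → F) x = x := fun x hx => by
      rw [refl_apply, hx, mul_zero, zero_smul, sub_zero]
    have hN : ∀ x, (M * Cfsg.reflectionMatrix (⇑Q) (z : ι → F)) *ᵥ x = M *ᵥ refl Q (z : ι → F) x := fun x => by
      rw [← Matrix.mulVec_mulVec, reflectionMatrix_mulVec]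
    have hprod : IsReflProd Q (g : ↥(Cfsg.isometryGroup F ⇑Q)) (vs ++ [(z : ι → F)]) := by
      refine ⟨fun v hv => (List.mem_append.1 hv).elim (hvs0 v) fun h => by rw [List.mem_singleton.1 h]; exact hqz, ?_⟩
      rw [List.map_append, List.prod_append, List.map_singleton, List.prod_singleton, ← hM]
      refine hext _ (fun j => ⟨?_, ?_⟩) fun v hv => ?_
      · rw [hN, hrz _ (by rw [QuadraticMap.polar_comm]; exact (hzp j).1)]; exact (hjs j).1
      · rw [hN, hrz _ (by rw [QuadraticMap.polar_comm]; exact (hzp j).2)]; exact (hjs j).2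
      · obtain ⟨a, rfl⟩ := hline v hv
        have e : refl Q (z : ι → F) (a • (z : ι → F)) = -(a • (z : ι → F)) := by
          rw [refl_apply, QuadraticMap.polar_smul_right, polar_self', smul_eq_mul]
          match_scalars
          field_simp
          ring
        obtain ⟨-, hvp⟩ := core_spec R hv
        rw [hN, e, Matrix.mulVec_neg, hMo _ (hvp L).1 (hvp L).2, hz _ hv, h1, neg_one_smul]
    have h := ((mem_omega_iff h2 hQ hprod).1 homega).1
    simp [hvs] at h
    exact absurd h (by decide)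

variable {V : Type} [AddCommGroup V] [Module ℂ V] [FiniteDimensional ℂ V] {ψ : AddChar F ℂ}

/-- Nothing fixed by all upper root elements is impossible. -/
theorem no_fixed (hψ : ψ.IsPrimitive) (hq : 4 ≤ Fintype.card F) : ∀ (n : ℕ) {W : Type} [AddCommGroup W] [Module ℂ W]
    [FiniteDimensional ℂ W] (R : Fr Q (n + 3)) (_ : IsOdd R) (σ : Representation ℂ ↥(gw Q R.top) W)
    (_ : SingOnce R σ ψ), finrank ℂ (fixT R σ) = 0 → False := by
  intro n
  have key : ∀ {m : ℕ} {W : Type} [AddCommGroup W] [Module ℂ W] [FiniteDimensional ℂ W] (R' : Fr Q (m + 1))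
      (τ : Representation ℂ ↥(gw Q R'.top) W),
      finrank ℂ (fixT R'.tail (fixedRep ψ R' τ)) = finrank ℂ (fixT R' τ) := fun R' τ => by
    rw [← map_fixT_tail (ψ := ψ) R' τ]
    exact (Submodule.equivMapOfInjective _ (Submodule.injective_subtype _) _).finrank_eq
  induction n with
  | zero =>
    intro W _ _ _ R hR σ hS h0
    obtain ⟨h1, -⟩ := chain hψ hq 2 R hR σ hS
    have h2 := finrank_step (m := 2) R hR σ hψ hS
    have h3 := finrank_step (m := 1) R.tail hR.tail (fixedRep ψ R σ) hψ (singOnce_tail R σ hψ hq hS)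
    rw [rnk_fixedRep_wP] at h3
    rw [show finrank ℂ (LinearMap.range (wP ψ R σ 0)) = rnk (wP ψ R σ 0) from rfl] at h3
    rw [h0] at h1
    simp only [oddBound, mul_zero, pow_zero, mul_one, zero_add] at h1
    rw [show 2 * 2 = 4 from rfl] at h2
    rw [show 2 * 1 = 2 from rfl] at h3
    rw [show 2 * 2 = 4 from rfl] at h1
    have h4 : rnk (wQ R σ ψ 0) = 0 := by omega
    have h5 := clique (n := 0) R σ h4
    have h6 : rnk (wP ψ R σ 0) + 1 = Fintype.card F ^ 2 := by omega
    generalize rnk (wP ψ R σ 0) = X at h2 h5 h6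
    generalize finrank ℂ W = D at h1 h2 h5
    generalize Fintype.card F = q at *
    have h7 : (q ^ 2 + q + 1) * (X + 1) = (q ^ 2 + q + 1) * q ^ 2 := by rw [h6]
    nlinarith
  | succ n ih =>
    intro W _ _ _ R hR σ hS h0
    exact ih R.tail hR.tail (fixedRep ψ R σ) (singOnce_tail R σ hψ hq hS) ((key R σ).trans h0)

/-- The minimal degree for an irreducible representation. -/
theorem odd_irreducible (hq : 5 ≤ Fintype.card F) {n : ℕ} (R : Fr Q (n + 3)) (hR : IsOdd R) (hsp : Spin R)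
    (σ : Representation ℂ ↥(gw Q R.top) V) [σ.IsIrreducible] (hψ : ψ.IsPrimitive) (hne : ∃ g, σ g ≠ 1) :
    oddBound (Fintype.card F) (n + 3) ≤ finrank ℂ V := by
  classical
  have hq4 : 4 ≤ Fintype.card F := by omega
  have hN1 : cntNZ Q R.W1 0 + 1 = Fintype.card F ^ (2 * (n + 2)) := by
    rw [cntNZ_zero_add]; exact odd_cnt_zero R.tail hR.tail
  have hb : oddBound (Fintype.card F) (n + 3) + 2 * Fintype.card F ^ (n + 2) ≤
      2 * Fintype.card F ^ (2 * (n + 2)) := by
    have := oddBound_le hq (k := n + 2) (by omega)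
    rw [show oddBound (Fintype.card F) (n + 3) =
      oddBound (Fintype.card F) (n + 2) + Fintype.card F ^ (2 * (n + 2)) from rfl]
    omega
  have hp : 1 ≤ Fintype.card F ^ (n + 2) := Nat.one_le_pow _ _ (by omega)
  by_cases hns : ∃ c : F, c ≠ 0 ∧ mOf ψ R σ c ≠ 0
  · obtain ⟨c, h0, hM⟩ := hns
    have h := class_le_finrank (n := n) R σ hψ h0 _ fun d _ => odd_cnt_ge R.tail hR.tail d
    have hs : 2 ≤ (sqClass c).card := by
      have := le_two_mul_card_sqClass h0
      omega
    have h1 : 2 * ((Fintype.card F ^ (2 * (n + 2)) - Fintype.card F ^ (n + 2)) * 1) ≤ (sqClass c).card *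
        ((Fintype.card F ^ (2 * (n + 2)) - Fintype.card F ^ (n + 2)) * mOf ψ R σ c) :=
      Nat.mul_le_mul hs (Nat.mul_le_mul_left _ (Nat.one_le_iff_ne_zero.2 hM))
    rw [mul_one, Nat.mul_sub] at h1
    omega
  push Not at hns
  obtain ⟨c, hM⟩ := exists_mOf_ne (n := n) R σ hψ hne
  have hc0 : c = 0 := by
    by_contra h0
    exact hM (hns c h0)
  subst hc0
  by_cases h2 : 2 ≤ mOf ψ R σ 0
  · have h := singular_le_finrank (n := n) R σ hψ
    have h1 : cntNZ Q R.W1 0 * 2 ≤ cntNZ Q R.W1 0 * mOf ψ R σ 0 := Nat.mul_le_mul_left _ h2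
    omega
  have hone : mOf ψ R σ 0 = 1 := by omega
  have hS : SingOnce R σ ψ := fun w hw => by
    rw [rnk_wP_eq R σ w hw]
    by_cases hz : Q (w : ι → F) = 0
    · rw [if_pos hz, hz, hone]
    · rw [if_neg hz, hns _ hz]
  obtain ⟨hdim, hshort⟩ := chain hψ hq4 (n + 2) R hR σ hS
  have hdim : finrank ℂ V + (n + 3) = oddBound (Fintype.card F) (n + 3) + finrank ℂ (fixT R σ) := hdim
  by_cases ht : n + 3 ≤ finrank ℂ (fixT R σ)
  · omega
  exfalso
  rcases torus_trivial_or_ghost (m := n + 1) (by omega) R hR σ hshort (by omega) with htor | ⟨hm, c, d, hcd, hsq, hocc⟩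
  swap
  · obtain rfl : n = 1 := by omega
    exact ghost_false R σ hR hψ hq hS (by omega) hcd hsq hocc
  by_cases h0 : finrank ℂ (fixT R σ) = 0
  · exact no_fixed hψ hq4 n R hR σ hS h0
  obtain ⟨v, hv, hv0⟩ : ∃ v ∈ fixT R σ, v ≠ 0 := by
    by_contra hall
    push Not at hall
    exact h0 (by rw [(Submodule.eq_bot_iff _).2 hall, finrank_bot])
  have hfix : ∀ g, σ g v = v := fun g => all_fixed (m := n + 1) R hR σ hv (hshort v hv)
    (fun i k => nodes_fix hψ hq4 R hR hsp σ hS htor i v hv k) g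
  let P : Submodule ℂ V :=
    { carrier := {u | ∀ g, σ g u = u}
      add_mem' := fun {a b} (ha : ∀ g, σ g a = a) (hb : ∀ g, σ g b = b) g => by rw [map_add, ha, hb]
      zero_mem' := fun g => map_zero _
      smul_mem' := fun c a (ha : ∀ g, σ g a = a) g => by rw [map_smul, ha] }
  let S : Subrepresentation σ := ⟨P, fun g u (hu : ∀ g, σ g u = u) g' => by rw [hu g, hu g']⟩
  have hsimple : IsSimpleOrder (Subrepresentation σ) := ‹σ.IsIrreducible›
  rcases hsimple.eq_bot_or_eq_top S with hS' | hS'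
  · have h1 : P = ⊥ := congrArg Subrepresentation.toSubmodule hS'
    exact hv0 ((Submodule.eq_bot_iff P).1 h1 v hfix)
  · have h1 : P = ⊤ := congrArg Subrepresentation.toSubmodule hS'
    obtain ⟨g, hg⟩ := hne
    exact hg (LinearMap.ext fun u => (h1 ▸ Submodule.mem_top : u ∈ P) g)

/-- The minimal degree for frames with a one-dimensional core. -/
theorem odd_bound (hq : 5 ≤ Fintype.card F) (n : ℕ) (R : Fr Q (n + 3)) (hR : IsOdd R) (hsp : Spin R)
    (W : Type) [AddCommGroup W] [Module ℂ W] [FiniteDimensional ℂ W]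
    (τ : Representation ℂ ↥(gw Q R.top) W) (hne : ∃ g, τ g ≠ 1) :
    oddBound (Fintype.card F) (n + 3) ≤ finrank ℂ W := by
  have : Fintype ↥(gw Q R.top) := Fintype.ofFinite _
  obtain ⟨U, σ, hirr, -, hne'⟩ := SLR.exists_irreducible_nontrivial τ hne
  obtain ⟨p, hp⟩ := CharP.exists F
  have : Fact p.Prime := ⟨(FiniteField.card F p).choose_spec.1⟩
  obtain ⟨ψ, hψ, -⟩ := exists_frobenius_char F p
  exact (odd_irreducible hq R hR hsp σ hψ hne').trans (Submodule.finrank_le U)

end CfsgLib.OrthDeg
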