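import Cfsg.Agent.OrthDeg.Stab

/-!
# Frames with a one-dimensional core: the chain down to the fixed space of all root subgroups
-/

set_option autoImplicit false
set_option linter.unusedSectionVars false

namespace CfsgLib.OrthDeg

open Matrix Module CfsgLib.Forms CfsgLib.Spinor CfsgLib.Forms4 CfsgLib.RepBounds

variable {F : Type*} [Field F] [Fintype F] [DecidableEq F] {ι : Type} [Fintype ι] [DecidableEq ι]
  {Q : QuadraticForm F (ι → F)}

noncomputable local instance subFintypeOddChain (S : Submodule F (ι → F)) : Fintype S := Fintype.ofFinite S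

/-- The core is a non-degenerate line. -/
structure IsOdd {k : ℕ} (R : Fr Q k) : Prop where
  card_core : Fintype.card R.core = Fintype.card F
  core_ne : ∀ z ∈ R.core, z ≠ 0 → Q z ≠ 0

theorem IsOdd.tail {k : ℕ} {R : Fr Q (k + 1)} (h : IsOdd R) : IsOdd R.tail := ⟨h.1, h.2⟩

theorem IsOdd.cnt_core {k : ℕ} {R : Fr Q k} (h : IsOdd R) : cnt Q R.core 0 = 1 := by
  refine le_antisymm (Finset.card_le_one.2 fun a ha b hb => ?_) (one_le_cnt _)
  have key : ∀ x : R.core, Q (x : ι → F) = 0 → x = 0 := fun x hx => by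
    by_contra hne
    exact h.core_ne _ x.2 (fun h0 => hne (Subtype.ext h0)) hx
  rw [key a (Finset.mem_filter.1 ha).2, key b (Finset.mem_filter.1 hb).2]

theorem odd_cnt_zero {k : ℕ} (R : Fr Q k) (h : IsOdd R) : cnt Q R.top 0 = Fintype.card F ^ (2 * k) := by
  have h' := cnt_top_eq R 0
  rw [h.card_core, h.cnt_core] at h'
  refine Nat.eq_of_mul_eq_mul_left (Fintype.card_pos (α := F)) ?_
  ring_nf at h' ⊢
  linarith

/-- The subspace perpendicular to the pairs up to `i`. -/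
def Fr.perp {k : ℕ} (R : Fr Q k) (i : Fin k) : Submodule F (ι → F) where
  carrier := {x | x ∈ R.top ∧ ∀ j, j ≤ i →
    QuadraticMap.polar (⇑Q) (R.e j) x = 0 ∧ QuadraticMap.polar (⇑Q) (R.f j) x = 0}
  add_mem' := fun ⟨h1, h2⟩ ⟨h1', h2'⟩ => ⟨R.top.add_mem h1 h1', fun j hj =>
    ⟨by rw [QuadraticMap.polar_add_right, (h2 j hj).1, (h2' j hj).1, add_zero],
      by rw [QuadraticMap.polar_add_right, (h2 j hj).2, (h2' j hj).2, add_zero]⟩⟩
  zero_mem' := ⟨R.top.zero_mem, fun j _ => ⟨QuadraticMap.polar_zero_right _ _, QuadraticMap.polar_zero_right _ _⟩⟩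
  smul_mem' := fun c _ ⟨h1, h2⟩ => ⟨R.top.smul_mem c h1, fun j hj =>
    ⟨by rw [QuadraticMap.polar_smul_right, (h2 j hj).1, smul_zero],
      by rw [QuadraticMap.polar_smul_right, (h2 j hj).2, smul_zero]⟩⟩

theorem mem_perp {k : ℕ} (R : Fr Q k) (i : Fin k) (x : ι → F) : x ∈ R.perp i ↔ x ∈ R.top ∧ ∀ j, j ≤ i →
    QuadraticMap.polar (⇑Q) (R.e j) x = 0 ∧ QuadraticMap.polar (⇑Q) (R.f j) x = 0 := Iff.rfl

theorem mem_W1 {k : ℕ} (R : Fr Q (k + 1)) (x : ι → F) : x ∈ R.W1 ↔ x ∈ R.top ∧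
    QuadraticMap.polar (⇑Q) (R.e 0) x = 0 ∧ QuadraticMap.polar (⇑Q) (R.f 0) x = 0 := Iff.rfl

theorem perp_zero_eq {k : ℕ} (R : Fr Q (k + 1)) : R.perp 0 = R.W1 := by
  refine SetLike.ext fun x => ?_
  rw [mem_perp, mem_W1]
  refine ⟨fun ⟨h1, h2⟩ => ⟨h1, h2 0 le_rfl⟩, fun ⟨h1, h2, h3⟩ => ⟨h1, fun j hj => ?_⟩⟩
  rw [Fin.le_zero_iff.1 hj]
  exact ⟨h2, h3⟩

theorem perp_succ_eq {k : ℕ} (R : Fr Q (k + 1)) (i : Fin k) : R.perp i.succ = R.tail.perp i := by
  refine SetLike.ext fun x => ?_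
  rw [mem_perp, mem_perp, Fr.tail_top, mem_W1]
  refine ⟨fun ⟨h1, h2⟩ => ⟨⟨h1, h2 0 (Fin.zero_le _)⟩, fun j hj => h2 _ (Fin.succ_le_succ_iff.2 hj)⟩,
    fun ⟨⟨h1, h2, h3⟩, h4⟩ => ⟨h1, fun j hj => ?_⟩⟩
  rcases Fin.eq_zero_or_eq_succ j with rfl | ⟨l, rfl⟩
  · exact ⟨h2, h3⟩
  · exact h4 l (Fin.succ_le_succ_iff.1 hj)

/-- The root elements of the upper unitriangular part. -/
noncomputable def Fr.eEl {k : ℕ} (R : Fr Q k) (i : Fin k) (y : R.perp i) : ↥(gw Q R.top) :=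
  ⟨eichIso Q (R.e i) y (R.qe i) (y.2.2 i le_rfl).1, eichIso_mem_gw (R.e_mem i) y.2.1 _ _⟩

/-- The root elements of the core at `f` of the last pair and others. -/
noncomputable def Fr.fEl {k : ℕ} (R : Fr Q k) (i : Fin k) (y : R.perp i) : ↥(gw Q R.top) :=
  ⟨eichIso Q (R.f i) y (R.qf i) (y.2.2 i le_rfl).2, eichIso_mem_gw (R.f_mem i) y.2.1 _ _⟩

variable {V : Type*} [AddCommGroup V] [Module ℂ V] [FiniteDimensional ℂ V] {ψ : AddChar F ℂ}

/-- The common fixed space of all upper root elements. -/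
def fixT {k : ℕ} (R : Fr Q k) (σ : Representation ℂ ↥(gw Q R.top) V) : Submodule ℂ V where
  carrier := {v | ∀ (i : Fin k) (y : R.perp i), σ (R.eEl i y) v = v}
  add_mem' := fun h h' i y => by rw [map_add, h i y, h' i y]
  zero_mem' := fun i y => map_zero _
  smul_mem' := fun c _ h i y => by rw [map_smul, h i y]

/-- Only singular weights, once each. -/
def SingOnce {m : ℕ} (R : Fr Q (m + 1)) (σ : Representation ℂ ↥(gw Q R.top) V) (ψ : AddChar F ℂ) : Prop :=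
  ∀ w : R.W1, w ≠ 0 → rnk (wP ψ R σ (w : ι → F)) = if Q (w : ι → F) = 0 then 1 else 0

theorem mem_range_wP_zero {m : ℕ} (R : Fr Q (m + 1)) (σ : Representation ℂ ↥(gw Q R.top) V)
    (v : V) : v ∈ LinearMap.range (wP ψ R σ 0) ↔ ∀ y : R.W1, σ (rootE R y) v = v := by
  constructor
  · rintro ⟨x, rfl⟩ y
    rw [← Module.End.mul_apply, rootE_mul_wP, QuadraticMap.polar_zero_right, AddChar.map_zero_eq_one, one_smul]
  · intro h
    refine ⟨v, ?_⟩
    have hk : ∀ a : R.W1, col ψ Q R.W1 0 (-a) • (resChar σ (rootE R) a) v = v := fun a => by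
      rw [col_apply, QuadraticMap.polar_zero_right, AddChar.map_zero_eq_one, resChar_apply, h, one_smul]
    rw [wP, proj, LinearMap.smul_apply, LinearMap.sum_apply]
    simp only [LinearMap.smul_apply, hk, Finset.sum_const, Finset.card_univ]
    rw [← Nat.cast_smul_eq_nsmul ℂ, smul_smul, inv_mul_cancel₀ (Nat.cast_ne_zero.2 Fintype.card_ne_zero), one_smul]

theorem incl_eEl {k : ℕ} (R : Fr Q (k + 1)) (i : Fin k) (y : R.tail.perp i) (y' : R.perp i.succ)
    (h : (y : ι → F) = y') : incl R (R.tail.eEl i y) = R.eEl i.succ y' := by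
  refine Subtype.ext (mat_ext Q ?_)
  show eich Q (R.e i.succ) (y : ι → F) = eich Q (R.e i.succ) (y' : ι → F)
  rw [h]

theorem mem_fixT_iff {m : ℕ} (R : Fr Q (m + 1)) (σ : Representation ℂ ↥(gw Q R.top) V) (v : V) :
    v ∈ fixT R σ ↔ v ∈ LinearMap.range (wP ψ R σ 0) ∧
      ∀ (i : Fin m) (y : R.tail.perp i), σ (incl R (R.tail.eEl i y)) v = v := by
  rw [mem_range_wP_zero]
  constructor
  · refine fun h => ⟨fun y => ?_, fun i y => ?_⟩
    · have := h 0 ⟨y, by rw [perp_zero_eq]; exact y.2⟩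
      exact this
    · rw [incl_eEl R i y ⟨y, by rw [perp_succ_eq]; exact y.2⟩ rfl]
      exact h i.succ _
  · rintro ⟨h0, h1⟩ i y
    rcases Fin.eq_zero_or_eq_succ i with rfl | ⟨j, rfl⟩
    · exact h0 ⟨y, by rw [← perp_zero_eq]; exact y.2⟩
    · rw [← incl_eEl R j ⟨y, by rw [← perp_succ_eq]; exact y.2⟩ y rfl]
      exact h1 _ _

theorem mem_fixT_tail {m : ℕ} (R : Fr Q (m + 1)) (σ : Representation ℂ ↥(gw Q R.top) V)
    (x : LinearMap.range (wP ψ R σ 0)) :
    x ∈ fixT R.tail (fixedRep ψ R σ) ↔ (x : V) ∈ fixT R σ := by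
  rw [mem_fixT_iff (ψ := ψ)]
  exact ⟨fun h => ⟨x.2, fun i y => congrArg Subtype.val (h i y)⟩, fun h i y => Subtype.ext (h.2 i y)⟩

theorem map_fixT_tail {m : ℕ} (R : Fr Q (m + 1)) (σ : Representation ℂ ↥(gw Q R.top) V) :
    (fixT R.tail (fixedRep ψ R σ)).map (LinearMap.range (wP ψ R σ 0)).subtype = fixT R σ := by
  refine SetLike.ext fun v => ⟨?_, fun h => ?_⟩
  · rintro ⟨x, hx, rfl⟩
    exact (mem_fixT_tail R σ x).1 hx
  · exact ⟨⟨v, ((mem_fixT_iff R σ v).1 h).1⟩, (mem_fixT_tail R σ _).2 h, rfl⟩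

/-- A representation without non-zero weights is trivial. -/
theorem all_fixed_of_rootE {m : ℕ} (R : Fr Q (m + 1)) (σ : Representation ℂ ↥(gw Q R.top) V)
    (g : ↥(gw Q R.top)) {c : F} (hc : c ≠ 0) (hg : gmat g *ᵥ R.f 0 = c • R.e 0)
    (h : ∀ (y : R.W1) (v : V), σ (rootE R y) v = v) : ∀ (y : R.W1) (v : V), σ (rootF R y) v = v := by
  intro y v
  set w := gmat g *ᵥ (y : ι → F)
  have hwt : w ∈ R.top := (gw_spec g.2).1 _ y.2.1
  have hew : QuadraticMap.polar (⇑Q) (R.e 0) w = 0 := by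
    have h1 := polar_mulVec Q (g : ↥(Cfsg.isometryGroup F ⇑Q)) (R.f 0) (y : ι → F)
    rw [show mat Q (g : ↥(Cfsg.isometryGroup F ⇑Q)) *ᵥ R.f 0 = c • R.e 0 from hg, y.2.2.2,
      QuadraticMap.polar_smul_left, smul_eq_mul, mul_eq_zero] at h1
    exact h1.resolve_left hc
  have hp : c • R.proj w ∈ R.W1 := R.W1.smul_mem _ (R.proj_mem hwt)
  have he : g * rootF R y = rootE R ⟨_, hp⟩ * g := by
    refine Subtype.ext (mat_ext Q ?_)
    show gmat g * eich Q (R.f 0) (y : ι → F) = eich Q (R.e 0) (c • R.proj w) * gmat g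
    have hd : c • w = c • R.proj w + (c * QuadraticMap.polar (⇑Q) (R.f 0) w) • R.e 0 := by
      conv_lhs => rw [R.decomp w, hew]
      module
    have e0 := conj_eich (g : ↥(Cfsg.isometryGroup F ⇑Q)) (R.f 0) (y : ι → F)
    rw [show mat Q (g : ↥(Cfsg.isometryGroup F ⇑Q)) *ᵥ R.f 0 = c • R.e 0 from hg, eich_smul_left,
      show c • (mat Q (g : ↥(Cfsg.isometryGroup F ⇑Q)) *ᵥ (y : ι → F)) = _ from hd,
      eich_add_smul_self (R.qe 0) hp.2.1] at e0
    exact e0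
  calc σ (rootF R y) v = σ g⁻¹ (σ (g * rootF R y) v) := by
        rw [← Module.End.mul_apply, ← map_mul, inv_mul_cancel_left]
    _ = σ g⁻¹ (σ g v) := by rw [he, map_mul, Module.End.mul_apply, h]
    _ = v := by rw [← Module.End.mul_apply, ← map_mul, inv_mul_cancel, map_one]; rfl

/-- An element exchanging the two lines of a pair next to an anisotropic vector. -/
theorem exists_swap_last (R : Fr Q 1) (hR : IsOdd R) :
    ∃ (g : ↥(gw Q R.top)) (c : F), c ≠ 0 ∧ gmat g *ᵥ R.f 0 = c • R.e 0 := by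
  have h : 1 < Fintype.card R.core := by rw [hR.card_core]; exact Fintype.one_lt_card
  obtain ⟨z, hz⟩ := Fintype.exists_ne_of_one_lt_card h 0
  have hz0 : Q (z : ι → F) ≠ 0 := hR.core_ne _ z.2 fun h => hz (Subtype.ext h)
  exact ⟨flipEl R ⟨z, z.2⟩, -Q (z : ι → F), neg_ne_zero.2 hz0, (flipEl_spec R ⟨z, z.2⟩ hz0).2.1⟩

/-- The last level: everything is fixed. -/
theorem base_fixed (R : Fr Q 1) (hR : IsOdd R) (σ : Representation ℂ ↥(gw Q R.top) V) (hψ : ψ.IsPrimitive)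
    (hS : SingOnce R σ ψ) : fixT R σ = ⊤ ∧ ∀ (y : R.W1) (v : V), σ (rootF R y) v = v := by
  classical
  have h0 : wP ψ R σ 0 = 1 := by
    rw [← sum_wP R σ hψ, Finset.sum_eq_single (0 : R.W1) (fun w _ hw => eq_zero_of_rnk (by
      rw [hS w hw, if_neg (hR.core_ne _ w.2 fun h => hw (Subtype.ext h))])) (by simp), ZeroMemClass.coe_zero]
  have hE : ∀ (y : R.W1) (v : V), σ (rootE R y) v = v := fun y v =>
    (mem_range_wP_zero (ψ := ψ) R σ v).1 ⟨v, by rw [h0]; rfl⟩ y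
  refine ⟨eq_top_iff.2 fun v _ => (mem_fixT_iff (ψ := ψ) R σ v).2 ⟨⟨v, by rw [h0]; rfl⟩, fun i => i.elim0⟩, ?_⟩
  obtain ⟨g, c, hc, hg⟩ := exists_swap_last R hR
  exact all_fixed_of_rootE R σ g hc hg hE

/-- The multiplicities at the next level. -/
theorem rnk_fixedRep_wP {m : ℕ} (R : Fr Q (m + 2)) (σ : Representation ℂ ↥(gw Q R.top) V) (w : ι → F) :
    rnk (wP ψ R.tail (fixedRep ψ R σ) w) = rnk (wQ R σ ψ w) := by
  set W := LinearMap.range (wP ψ R σ 0)
  have key : ∀ x : W, (wP ψ R.tail (fixedRep ψ R σ) w x : V) = proj (resChar σ (rootTwo R)) (col ψ Q R.tail.W1 w) x :=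
    fun x => proj_restrict (resChar σ (rootTwo R)) _ W _ (fun a v => fixedRep_apply R σ (rootE R.tail a) v) x
  have hmap : (LinearMap.range (wP ψ R.tail (fixedRep ψ R σ) w)).map W.subtype = LinearMap.range (wQ R σ ψ w) := by
    refine SetLike.ext fun v => ⟨?_, ?_⟩
    · rintro ⟨_, ⟨x, rfl⟩, rfl⟩
      obtain ⟨x0, hx0⟩ := x.2
      refine ⟨x0, ?_⟩
      show wQ R σ ψ w x0 = (wP ψ R.tail (fixedRep ψ R σ) w x : V)
      rw [key, ← hx0, wQ, wP_zero_comm_proj, Module.End.mul_apply]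
    · rintro ⟨x0, rfl⟩
      exact ⟨_, ⟨⟨wP ψ R σ 0 x0, x0, rfl⟩, rfl⟩, by
        rw [Submodule.coe_subtype, key, wQ, wP_zero_comm_proj, Module.End.mul_apply]⟩
  rw [rnk, rnk, ← hmap]
  exact (Submodule.equivMapOfInjective _ W.injective_subtype _).finrank_eq

theorem singOnce_tail {m : ℕ} (R : Fr Q (m + 2)) (σ : Representation ℂ ↥(gw Q R.top) V) (hψ : ψ.IsPrimitive)
    (hq : 4 ≤ Fintype.card F) (hS : SingOnce R σ ψ) : SingOnce R.tail (fixedRep ψ R σ) ψ := by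
  intro w hw
  rw [rnk_fixedRep_wP]
  have hT : Trivial R σ ψ := trivial_of_four_le R σ hq fun v hv => by
    rw [hS v hv]; split_ifs <;> simp
  exact rnk_wQ_of_ne R (fun c => if c = 0 then 1 else 0) hψ (fun t c ht => by simp [ht]) hS hT hw

/-- The bound for `k` pairs. -/
def oddBound (q : ℕ) : ℕ → ℕ
  | 0 => 0
  | k + 1 => oddBound q k + q ^ (2 * k)

theorem finrank_step {m : ℕ} (R : Fr Q (m + 1)) (hR : IsOdd R) (σ : Representation ℂ ↥(gw Q R.top) V)
    (hψ : ψ.IsPrimitive) (hS : SingOnce R σ ψ) :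
    finrank ℂ V + 1 = Fintype.card F ^ (2 * m) + rnk (wP ψ R σ 0) := by
  classical
  rw [finrank_eq_sum R σ hψ, ← Finset.add_sum_erase _ _ (Finset.mem_univ (0 : R.W1)), ZeroMemClass.coe_zero,
    Finset.sum_congr rfl fun w hw => hS w (Finset.ne_of_mem_erase hw), Finset.sum_boole, card_erase_filter]
  have h := cntNZ_zero_add (Q := Q) R.W1
  have h2 : cnt Q R.W1 0 = Fintype.card F ^ (2 * m) := odd_cnt_zero R.tail hR.tail
  simp only [Nat.cast_id]
  omega

/-- The degree and the short root elements on the common fixed space. -/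
theorem chain (hψ : ψ.IsPrimitive) (hq : 4 ≤ Fintype.card F) : ∀ (m : ℕ) {W : Type} [AddCommGroup W] [Module ℂ W]
    [FiniteDimensional ℂ W] (R : Fr Q (m + 1)) (_ : IsOdd R) (σ : Representation ℂ ↥(gw Q R.top) W)
    (_ : SingOnce R σ ψ), finrank ℂ W + (m + 1) = oddBound (Fintype.card F) (m + 1) + finrank ℂ (fixT R σ) ∧
      ∀ v ∈ fixT R σ, ∀ y : R.perp (Fin.last m), σ (R.fEl (Fin.last m) y) v = v := by
  intro m
  induction m with
  | zero =>
    intro W _ _ _ R hR σ hS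
    obtain ⟨h1, h2⟩ := base_fixed R hR σ hψ hS
    refine ⟨?_, fun v _ y => ?_⟩
    · rw [h1, finrank_top]
      simp [oddBound, add_comm]
    · have hy : (y : ι → F) ∈ R.W1 := by rw [← perp_zero_eq]; exact y.2
      exact h2 ⟨y, hy⟩ v
  | succ m ih =>
    intro W _ _ _ R hR σ hS
    obtain ⟨h1, h2⟩ := ih R.tail hR.tail (fixedRep ψ R σ) (singOnce_tail R σ hψ hq hS)
    have h3 := finrank_step R hR σ hψ hS
    have h4 : finrank ℂ (fixT R.tail (fixedRep ψ R σ)) = finrank ℂ (fixT R σ) := by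
      rw [← map_fixT_tail (ψ := ψ) R σ]
      exact (Submodule.equivMapOfInjective _ (Submodule.injective_subtype _) _).finrank_eq
    refine ⟨?_, fun v hv y => ?_⟩
    · rw [show rnk (wP ψ R σ 0) = finrank ℂ (LinearMap.range (wP ψ R σ 0)) from rfl] at h3
      rw [show oddBound (Fintype.card F) (m + 1 + 1) =
        oddBound (Fintype.card F) (m + 1) + Fintype.card F ^ (2 * (m + 1)) from rfl]
      omega
    · have hx := ((mem_fixT_iff (ψ := ψ) R σ v).1 hv).1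
      have hy : (y : ι → F) ∈ R.tail.perp (Fin.last m) := by
        rw [← perp_succ_eq, Fin.succ_last]; exact y.2
      have h5 := h2 ⟨v, hx⟩ ((mem_fixT_tail R σ _).2 hv) ⟨y, hy⟩
      have h6 := congrArg Subtype.val h5
      rw [fixedRep_apply] at h6
      convert h6 using 2
      exact congrArg σ (Subtype.ext (mat_ext Q rfl))

end CfsgLib.OrthDeg
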