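import Cfsg.Agent.OrthDeg.OddPlane

/-!
# Four pairs: two conjugate torus elements with different traces

The exceptional configuration of characters would give the two conjugates different traces.
-/

set_option autoImplicit false
set_option linter.unusedSectionVars false

namespace CfsgLib.OrthDeg

open Matrix Module CfsgLib.Forms CfsgLib.Spinor CfsgLib.Forms4 CfsgLib.RepBounds

variable {F : Type*} [Field F] [Fintype F] [DecidableEq F] {ι : Type} [Fintype ι] [DecidableEq ι]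
  {Q : QuadraticForm F (ι → F)}

noncomputable local instance subFintypeOddGhost (S : Submodule F (ι → F)) : Fintype S := Fintype.ofFinite S

variable {V : Type} [AddCommGroup V] [Module ℂ V] [FiniteDimensional ℂ V] {ψ : AddChar F ℂ}

/-- `X` intertwines a representation with its conjugate by `g`. -/
def Intw {k : ℕ} (R : Fr Q k) (τ : Representation ℂ ↥(gw Q R.top) V) (g : ↥(Cfsg.isometryGroup F ⇑Q))
    (X : End ℂ V) : Prop :=
  ∀ h h' : ↥(gw Q R.top), mat Q g * gmat h = gmat h' * mat Q g → X * τ h = τ h' * X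

section level

variable {k : ℕ} (R : Fr Q (k + 1)) (τ : Representation ℂ ↥(gw Q R.top) V) {g : ↥(Cfsg.isometryGroup F ⇑Q)}
  {X : End ℂ V} {t : F}

theorem conj_wP_op (hX : Intw R τ g X) (ht : t ≠ 0) (he : mat Q g *ᵥ R.e 0 = t • R.e 0)
    (hW : ∀ x ∈ R.W1, mat Q g *ᵥ x ∈ R.W1) (w : ι → F) :
    X * wP ψ R τ w = wP ψ R τ (t⁻¹ • (mat Q g *ᵥ w)) * X := by
  let f : R.W1 →+ R.W1 := AddMonoidHom.mk' (fun u => ⟨t • (mat Q g *ᵥ (u : ι → F)), R.W1.smul_mem _ (hW _ u.2)⟩)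
    fun a b => Subtype.ext (by simp [Matrix.mulVec_add, smul_add])
  have hinj : Function.Injective f := fun a b h => by
    have h1 : mat Q g *ᵥ (a : ι → F) = mat Q g *ᵥ (b : ι → F) :=
      smul_right_injective _ ht (congrArg Subtype.val h)
    refine sub_eq_zero.1 (Subtype.ext (R.sep_W1 (a - b).2 fun y _ => ?_))
    have h2 := polar_mulVec Q g ((a - b : R.W1) : ι → F) y
    rw [show mat Q g *ᵥ ((a - b : R.W1) : ι → F) = 0 by
      rw [Submodule.coe_sub, Matrix.mulVec_sub, h1, sub_self], QuadraticMap.polar_zero_left] at h2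
    exact h2.symm
  let s : R.W1 ≃+ R.W1 := AddEquiv.ofBijective f (Finite.injective_iff_bijective.mp hinj)
  have hconj : ∀ u : R.W1, X * τ (rootE R u) = τ (rootE R (s u)) * X := fun u => hX _ _ (by
    show mat Q g * eich Q (R.e 0) (u : ι → F) = eich Q (R.e 0) (t • (mat Q g *ᵥ (u : ι → F))) * mat Q g
    rw [← eich_smul_left, ← he]
    exact conj_eich _ _ _)
  rw [wP, conj_proj (resChar τ (rootE R)) _ X s (fun u => by rw [resChar_apply, resChar_apply, hconj]), wP]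
  congr 2
  refine DFunLike.ext _ _ fun u => ?_
  obtain ⟨v, rfl⟩ := s.surjective u
  simp only [AddChar.compAddMonoidHom_apply, AddEquiv.coe_toAddMonoidHom, AddEquiv.symm_apply_apply, col_apply]
  congr 1
  show _ = QuadraticMap.polar (⇑Q) (t • (mat Q g *ᵥ (v : ι → F))) (t⁻¹ • (mat Q g *ᵥ w))
  rw [QuadraticMap.polar_smul_left, QuadraticMap.polar_smul_right, polar_mulVec, smul_smul,
    mul_inv_cancel₀ ht, one_smul]

variable (ψ) in
/-- `X` preserves the range of the projector of weight zero. -/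
theorem range_stable (hX : Intw R τ g X) (ht : t ≠ 0) (he : mat Q g *ᵥ R.e 0 = t • R.e 0)
    (hW : ∀ x ∈ R.W1, mat Q g *ᵥ x ∈ R.W1) :
    ∀ v ∈ LinearMap.range (wP ψ R τ 0), X v ∈ LinearMap.range (wP ψ R τ 0) := by
  rintro _ ⟨u, rfl⟩
  refine ⟨X u, ?_⟩
  have h := conj_wP_op (ψ := ψ) R τ hX ht he hW 0
  rw [Matrix.mulVec_zero, smul_zero] at h
  rw [← Module.End.mul_apply, ← h, Module.End.mul_apply]

/-- The trace splits over the fixed weights. -/
theorem trace_level (hψ : ψ.IsPrimitive) (hX : Intw R τ g X) (ht : t ≠ 0) (he : mat Q g *ᵥ R.e 0 = t • R.e 0)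
    (hW : ∀ x ∈ R.W1, mat Q g *ᵥ x ∈ R.W1) (hS : SingOnce R τ ψ) :
    LinearMap.trace ℂ V X = LinearMap.trace ℂ _ (X.restrict (range_stable ψ R τ hX ht he hW)) +
      ∑ w ∈ Finset.univ.filter (fun w : R.W1 => w ≠ 0 ∧ Q (w : ι → F) = 0 ∧
        mat Q g *ᵥ (w : ι → F) = t • (w : ι → F)), LinearMap.trace ℂ V (X * wP ψ R τ (w : ι → F)) := by
  classical
  have h0 : LinearMap.trace ℂ _ (X.restrict (range_stable ψ R τ hX ht he hW)) =
      LinearMap.trace ℂ V (X * wP ψ R τ 0) := by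
    have hmem : ∀ v, (X * wP ψ R τ 0) v ∈ LinearMap.range (wP ψ R τ 0) := fun v =>
      range_stable ψ R τ hX ht he hW _ ⟨v, rfl⟩
    rw [← LinearMap.trace_restrict_eq_of_forall_mem _ _ hmem]
    congr 1
    refine LinearMap.ext fun v => Subtype.ext ?_
    obtain ⟨u, hu⟩ := v.2
    show X (v : V) = X (wP ψ R τ 0 (v : V))
    rw [← hu, ← Module.End.mul_apply (wP ψ R τ 0), wP_idem]
  rw [h0]
  conv_lhs => rw [← mul_one X, ← sum_wP R τ hψ, Finset.mul_sum, map_sum,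
    ← Finset.add_sum_erase _ _ (Finset.mem_univ (0 : R.W1)), ZeroMemClass.coe_zero]
  congr 1
  refine (Finset.sum_subset (fun w hw => Finset.mem_erase.2 ⟨(Finset.mem_filter.1 hw).2.1, Finset.mem_univ _⟩)
    fun w hw hnot => ?_).symm
  have hne := Finset.ne_of_mem_erase hw
  by_cases hq : Q (w : ι → F) = 0
  · have hmv : mat Q g *ᵥ (w : ι → F) ≠ t • (w : ι → F) := fun h =>
      hnot (Finset.mem_filter.2 ⟨Finset.mem_univ _, hne, hq, h⟩)
    set w' : R.W1 := ⟨t⁻¹ • (mat Q g *ᵥ (w : ι → F)), R.W1.smul_mem _ (hW _ w.2)⟩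
    have hne' : w ≠ w' := fun h => hmv (by
      have h' : (w : ι → F) = t⁻¹ • (mat Q g *ᵥ (w : ι → F)) := congrArg Subtype.val h
      conv_rhs => rw [h', smul_smul, mul_inv_cancel₀ ht, one_smul])
    conv_lhs => rw [← wP_idem R τ (w : ι → F), ← mul_assoc, LinearMap.trace_mul_comm,
      conj_wP_op (ψ := ψ) R τ hX ht he hW (w : ι → F), ← mul_assoc]
    have h0 := wP_orth (ψ := ψ) R τ hψ hne'
    simp only [w'] at h0
    rw [h0, zero_mul, map_zero]
  · rw [eq_zero_of_rnk (show rnk (wP ψ R τ (w : ι → F)) = 0 by rw [hS w hne, if_neg hq]), mul_zero, map_zero]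

/-- On a fixed weight `X` is a scalar. -/
theorem op_scalar (hX : Intw R τ g X) (ht : t ≠ 0) (he : mat Q g *ᵥ R.e 0 = t • R.e 0)
    (hW : ∀ x ∈ R.W1, mat Q g *ᵥ x ∈ R.W1) (hS : SingOnce R τ ψ) {w : R.W1} (hw : w ≠ 0)
    (hfix : mat Q g *ᵥ (w : ι → F) = t • (w : ι → F)) :
    X * wP ψ R τ (w : ι → F) =
      LinearMap.trace ℂ V (X * wP ψ R τ (w : ι → F)) • wP ψ R τ (w : ι → F) := by
  refine smul_of_rnk_one (wP_idem R τ _) (by rw [hS w hw]; split_ifs <;> simp) ?_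
  rw [conj_wP_op (ψ := ψ) R τ hX ht he hW, hfix, smul_smul, inv_mul_cancel₀ ht, one_smul]

/-- Such a scalar has absolute value at most one. -/
theorem norm_op_le (hX : Intw R τ g X) (ht : t ≠ 0) (he : mat Q g *ᵥ R.e 0 = t • R.e 0)
    (hW : ∀ x ∈ R.W1, mat Q g *ᵥ x ∈ R.W1) (hS : SingOnce R τ ψ) {N : ℕ} (hN : N ≠ 0)
    (hpow : ∀ v, (X ^ N) v = v) {w : R.W1} (hw : w ≠ 0) (hfix : mat Q g *ᵥ (w : ι → F) = t • (w : ι → F)) :
    ‖LinearMap.trace ℂ V (X * wP ψ R τ (w : ι → F))‖ ≤ 1 := by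
  set P := wP ψ R τ (w : ι → F)
  set c := LinearMap.trace ℂ V (X * P)
  by_cases hP : P = 0
  · simp [c, hP]
  have hc : X * P = c • P := op_scalar R τ hX ht he hW hS hw hfix
  have hpc : ∀ n, X ^ n * P = c ^ n • P := by
    intro n
    induction n with
    | zero => simp
    | succ n ih => rw [pow_succ', mul_assoc, ih, mul_smul_comm, hc, smul_smul, pow_succ]
  have h1 : c ^ N • P = (1 : ℂ) • P := by
    rw [← hpc, one_smul, show X ^ N = 1 from LinearMap.ext hpow, one_mul]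
  exact (Complex.norm_eq_one_of_pow_eq_one (smul_left_injective ℂ hP h1) hN).le

theorem intw_restrict (hX : Intw R τ g X) (ht : t ≠ 0) (he : mat Q g *ᵥ R.e 0 = t • R.e 0)
    (hW : ∀ x ∈ R.W1, mat Q g *ᵥ x ∈ R.W1) :
    Intw R.tail (fixedRep ψ R τ) g (X.restrict (range_stable ψ R τ hX ht he hW)) := fun h h' hh =>
  LinearMap.ext fun x => Subtype.ext (LinearMap.congr_fun (hX (incl R h) (incl R h') hh) (x : V))

theorem pow_restrict (hX : Intw R τ g X) (ht : t ≠ 0) (he : mat Q g *ᵥ R.e 0 = t • R.e 0)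
    (hW : ∀ x ∈ R.W1, mat Q g *ᵥ x ∈ R.W1) {N : ℕ} (hpow : ∀ v, (X ^ N) v = v)
    (x : LinearMap.range (wP ψ R τ 0)) : ((X.restrict (range_stable ψ R τ hX ht he hW)) ^ N) x = x := by
  have key : ∀ (n : ℕ) (x : LinearMap.range (wP ψ R τ 0)),
      (((X.restrict (range_stable ψ R τ hX ht he hW)) ^ n) x : V) = (X ^ n) (x : V) := by
    intro n
    induction n with
    | zero => intro x; rfl
    | succ n ih => intro x; rw [pow_succ, pow_succ, Module.End.mul_apply, Module.End.mul_apply, ih]; rfl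
  exact Subtype.ext ((key N x).trans (hpow _))

theorem lift_fixT {v : V} (hv : v ∈ fixT R τ) :
    ∃ u : LinearMap.range (wP ψ R τ 0), (u : V) = v ∧ u ∈ fixT R.tail (fixedRep ψ R τ) :=
  ⟨⟨v, ((mem_fixT_iff (ψ := ψ) R τ v).1 hv).1⟩, rfl, (mem_fixT_tail R τ _).2 hv⟩

end level

/-- Where an eigenvector of a diagonal element may live. -/
theorem IsDiag.eigen {k : ℕ} {R : Fr Q k} {g : ↥(gw Q R.top)} {x : Fin k → Fˣ} (hg : IsDiag R g x) {t : F}
    {w : ι → F} (hw : gmat g *ᵥ w = t • w) :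
    (∀ j, (x j : F) * t ≠ 1 → QuadraticMap.polar (⇑Q) (R.e j) w = 0) ∧
      (∀ j, (x j : F)⁻¹ * t ≠ 1 → QuadraticMap.polar (⇑Q) (R.f j) w = 0) ∧
      (t ≠ 1 → ∀ z ∈ R.core, QuadraticMap.polar (⇑Q) z w = 0) := by
  have key : ∀ (v : ι → F) (s : F), gmat g *ᵥ v = s • v → s * t ≠ 1 → QuadraticMap.polar (⇑Q) v w = 0 := by
    intro v s hv hs
    have h := polar_mulVec Q (g : ↥(Cfsg.isometryGroup F ⇑Q)) v w
    rw [show mat Q (g : ↥(Cfsg.isometryGroup F ⇑Q)) *ᵥ v = s • v from hv,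
      show mat Q (g : ↥(Cfsg.isometryGroup F ⇑Q)) *ᵥ w = t • w from hw, QuadraticMap.polar_smul_left,
      QuadraticMap.polar_smul_right, smul_eq_mul, smul_eq_mul, ← mul_assoc] at h
    by_contra hne
    exact hs (mul_right_cancel₀ hne (h.trans (one_mul _).symm))
  exact ⟨fun j => key _ _ (hg.he j), fun j => key _ _ (hg.hf j),
    fun ht z hz => key z 1 (by rw [one_smul]; exact hg.hz z hz) (by rwa [one_mul])⟩

/-- A vector of the top perpendicular to all pairs and the core vanishes. -/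
theorem eq_zero_of_perp {k : ℕ} (R : Fr Q k) {w : ι → F} (hw : w ∈ R.top)
    (he : ∀ j, QuadraticMap.polar (⇑Q) (R.e j) w = 0) (hf : ∀ j, QuadraticMap.polar (⇑Q) (R.f j) w = 0)
    (hc : ∀ z ∈ R.core, QuadraticMap.polar (⇑Q) z w = 0) : w = 0 := by
  let L : Submodule F (ι → F) := LinearMap.ker ((QuadraticMap.polarBilin Q).flip w)
  have hL : ∀ v, QuadraticMap.polar (⇑Q) v w = 0 → v ∈ L := fun v hv => hv
  refine R.sep w hw fun y hy => ?_
  have h : QuadraticMap.polar (⇑Q) y w = 0 :=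
    top_le_of_mem R L (fun j => ⟨hL _ (he j), hL _ (hf j)⟩) (fun z hz => hL z (hc z hz)) hy
  rw [QuadraticMap.polar_comm]; exact h

/-- Scaling the first pair keeps the next level. -/
theorem stable_next {k : ℕ} (R : Fr Q (k + 1)) {g : ↥(Cfsg.isometryGroup F ⇑Q)} {s : F} (hs : s ≠ 0)
    (htop : ∀ x ∈ R.top, mat Q g *ᵥ x ∈ R.top) (he : mat Q g *ᵥ R.e 0 = s • R.e 0)
    (hf : mat Q g *ᵥ R.f 0 = s⁻¹ • R.f 0) : ∀ x ∈ R.W1, mat Q g *ᵥ x ∈ R.W1 := by
  intro x hx
  refine ⟨htop x hx.1, ?_, ?_⟩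
  · have h := polar_mulVec Q g (R.e 0) x
    rw [he, hx.2.1, QuadraticMap.polar_smul_left, smul_eq_mul, mul_eq_zero] at h
    exact h.resolve_left hs
  · have h := polar_mulVec Q g (R.f 0) x
    rw [hf, hx.2.2, QuadraticMap.polar_smul_left, smul_eq_mul, mul_eq_zero] at h
    exact h.resolve_left (inv_ne_zero hs)

theorem line_le {κ : Type*} [Fintype κ] (s : Finset κ) (φ : κ → F) (hφ : ∀ a ∈ s, φ a ≠ 0)
    (hinj : ∀ a ∈ s, ∀ b ∈ s, φ a = φ b → a = b) : s.card ≤ Fintype.card F - 1 := by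
  classical
  rw [← Finset.card_univ (α := F), ← Finset.card_erase_of_mem (Finset.mem_univ (0 : F))]
  exact Finset.card_le_card_of_injOn φ (fun a ha => Finset.mem_erase.2 ⟨hφ a ha, Finset.mem_univ _⟩)
    fun a ha b hb h => hinj a ha b hb h

/-- Characters of `SL₂` are trivial on diagonal matrices. -/
theorem diag_trivial (hq : 4 ≤ Fintype.card F) (φ : Matrix.SpecialLinearGroup (Fin 2) F →* ℂˣ) (t : Fˣ) :
    φ (diagTwo t) = 1 := by
  obtain ⟨a, ha⟩ := exists_sq_ne_one (F := F) hq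
  have hu : ∀ c : F, φ (upSL c) = 1 := fun c => by
    set c' := c / ((a : F) * a - 1)
    have e : diagTwo a * upSL c' = upSL ((a : F) * a * c') * diagTwo a := by
      refine Subtype.ext ?_
      simp only [Matrix.SpecialLinearGroup.coe_mul, coe_diagTwo, coe_upSL, Matrix.mul_fin_two]
      ext i j
      fin_cases i <;> fin_cases j <;> simp
      field_simp
    have h := congrArg φ e
    rw [map_mul, map_mul, mul_comm, mul_left_inj] at h
    have h2 : (a : F) * a * c' = c + c' := by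
      have h3 : c' * ((a : F) * a - 1) = c := div_mul_cancel₀ _ (sub_ne_zero.2 ha)
      linear_combination h3
    rw [h2, ← upSL_mul, map_mul] at h
    exact mul_eq_right.1 h.symm
  have hw : ∀ t : Fˣ, φ (diagTwo (-t)) = φ wSL := fun t => by
    have e : wSL * upSL (t : F) * wSL = upSL (-(t : F)⁻¹) * wSL * diagTwo (-t) * upSL (-(t : F)⁻¹) := by
      refine Subtype.ext ?_
      simp only [Matrix.SpecialLinearGroup.coe_mul, coe_diagTwo, coe_upSL,
        show (wSL (F := F)).1 = !![0, 1; -1, 0] from rfl, Matrix.mul_fin_two, Units.val_neg]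
      ext a b
      fin_cases a <;> fin_cases b <;> simp <;> field_simp <;> ring
    have h := congrArg φ e
    simp only [map_mul, hu, mul_one, one_mul, mul_right_inj] at h
    exact h.symm
  have h1 := hw (-1)
  rw [neg_neg] at h1
  have e1 : (diagTwo (1 : Fˣ) : Matrix.SpecialLinearGroup (Fin 2) F) = 1 :=
    Subtype.ext (by rw [coe_diagTwo, Matrix.SpecialLinearGroup.coe_one, Matrix.one_fin_two]; simp)
  rw [e1, map_one] at h1
  have h2 := hw (-t)
  rw [neg_neg, ← h1] at h2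
  exact h2

/-- An eigenspace of a diagonal element meeting the singular vectors in one line. -/
theorem line_count {k : ℕ} {R : Fr Q k} {g : ↥(gw Q R.top)} {x : Fin k → Fˣ} (hg : IsDiag R g x) (t : F)
    (ht : t ≠ 1) (W : Submodule F (ι → F)) (hW : W ≤ R.top) (i : Fin k)
    (he : ∀ j, j ≠ i → (x j : F) * t ≠ 1 ∨ ∀ w ∈ W, QuadraticMap.polar (⇑Q) (R.e j) w = 0)
    (hf : ∀ j, (x j : F)⁻¹ * t ≠ 1 ∨ ∀ w ∈ W, QuadraticMap.polar (⇑Q) (R.f j) w = 0) :
    (Finset.univ.filter fun w : W => w ≠ 0 ∧ Q (w : ι → F) = 0 ∧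
      gmat g *ᵥ (w : ι → F) = t • (w : ι → F)).card ≤ Fintype.card F - 1 := by
  classical
  have hline : ∀ w : W, gmat g *ᵥ (w : ι → F) = t • (w : ι → F) →
      (w : ι → F) = QuadraticMap.polar (⇑Q) (R.e i) (w : ι → F) • R.f i := fun w hw => by
    obtain ⟨he', hf', hc⟩ := hg.eigen hw
    refine sub_eq_zero.1 (eq_zero_of_perp R (R.top.sub_mem (hW w.2) (R.top.smul_mem _ (R.f_mem i)))
      (fun j => ?_) (fun j => ?_) fun z hz => ?_)
    · rw [QuadraticMap.polar_sub_right, QuadraticMap.polar_smul_right]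
      by_cases hj : j = i
      · subst hj; rw [R.toPr.ef_self, smul_eq_mul, mul_one, sub_self]
      · rw [R.toPr.ef_ne hj, smul_zero, sub_zero]
        exact (he j hj).elim (he' j) fun h => h _ w.2
    · rw [QuadraticMap.polar_sub_right, QuadraticMap.polar_smul_right, R.ff, smul_zero, sub_zero]
      exact (hf j).elim (hf' j) fun h => h _ w.2
    · rw [QuadraticMap.polar_sub_right, QuadraticMap.polar_smul_right, hc ht z hz]
      obtain ⟨-, hp⟩ := core_spec R hz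
      rw [QuadraticMap.polar_comm (⇑Q) z, (hp i).2, smul_zero, sub_zero]
  refine line_le _ (fun w : W => QuadraticMap.polar (⇑Q) (R.e i) (w : ι → F)) (fun w hw h0 => ?_)
    fun a ha b hb hab => ?_
  · exact (Finset.mem_filter.1 hw).2.1 (Subtype.ext (by
      rw [hline w (Finset.mem_filter.1 hw).2.2.2, h0, zero_smul]; rfl))
  · refine Subtype.ext ?_
    rw [hline a (Finset.mem_filter.1 ha).2.2.2, hline b (Finset.mem_filter.1 hb).2.2.2]
    exact congrArg (· • R.f i) hab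

/-- An operator commuting with two pairs is `-1` on all weights as soon as it negates a moved vector. -/
theorem neg_weights (R : Fr Q 2) (hR : IsOdd R) (τ : Representation ℂ ↥(gw Q R.top) V) (hψ : ψ.IsPrimitive)
    (hS : SingOnce R τ ψ) (Y : End ℂ V) (hY : ∀ h, Y * τ h = τ h * Y) {u : V} (hu : Y u = -u)
    (h₀ : ↥(gw Q R.top)) (hmove : τ h₀ u ≠ u) (Z Z' : End ℂ V) (hZZ : Z' * Z = 1) (hZZ' : Z * Z' = 1)
    (hYZ : Y * Z = Z * Y) (a : Fˣ) (ha : ∀ c : Fˣ, c ∈ Subgroup.zpowers a)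
    (hZP : ∀ c : F, Z * wP ψ R τ (c • R.e 1) = wP ψ R τ (((a : F) * c) • R.e 1) * Z)
    {w : R.W1} (hw : w ≠ 0) (hqw : Q (w : ι → F) = 0) :
    LinearMap.trace ℂ V (Y * wP ψ R τ (w : ι → F)) = -1 := by
  classical
  have hcomm : ∀ v : ι → F, Y * wP ψ R τ v = wP ψ R τ v * Y := fun v =>
    proj_comm (resChar τ (rootE R)) _ Y fun a => by rw [resChar_apply, hY]
  set ν := LinearMap.trace ℂ V (Y * wP ψ R τ (w : ι → F)) with hν
  by_contra hne
  have hbase : ∀ w' : R.W1, w' ≠ 0 → Q (w' : ι → F) = 0 →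
      LinearMap.trace ℂ V (Y * wP ψ R τ (w' : ι → F)) = LinearMap.trace ℂ V (Y * wP ψ R τ (R.e 1)) := by
    intro w' hw' hqw'
    obtain ⟨k, μ, hμ, hk, hk0, hk1, -⟩ :=
      exists_inner' (τ := τ) hR w'.2 (fun h => hw' (Subtype.ext h)) hqw'
    have h := conj_wP (ψ := ψ) R τ k one_ne_zero (by rw [hk0, one_smul]) (stable_W1 R _ hk0 hk1) (w' : ι → F)
    rw [inv_one, one_smul, hk] at h
    have h' : wP ψ R τ (μ • R.e 1) = τ k * wP ψ R τ (w' : ι → F) * τ k⁻¹ := by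
      rw [h, mul_assoc, ← map_mul, mul_inv_cancel, map_one, mul_one]
    have e1 : LinearMap.trace ℂ V (Y * wP ψ R τ (w' : ι → F)) = LinearMap.trace ℂ V (Y * wP ψ R τ (μ • R.e 1)) := by
      rw [h', ← mul_assoc, ← mul_assoc, hY, LinearMap.trace_mul_comm _ (τ k * Y * wP ψ R τ (w' : ι → F)),
        ← mul_assoc, ← mul_assoc, ← map_mul, inv_mul_cancel, map_one, one_mul]
    rw [e1]
    obtain ⟨n, hn⟩ := (Submonoid.mem_powers_iff _ _).1 (mem_powers_iff_mem_zpowers.2 (ha (Units.mk0 μ hμ)))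
    rw [show μ = ((a ^ n : Fˣ) : F) by rw [show a ^ n = Units.mk0 μ hμ from hn]; rfl]
    clear hn
    induction n with
    | zero => rw [pow_zero, Units.val_one, one_smul]
    | succ n ih =>
      rw [← ih, pow_succ', Units.val_mul,
        show wP ψ R τ (((a : F) * ((a ^ n : Fˣ) : F)) • R.e 1) =
          Z * wP ψ R τ (((a ^ n : Fˣ) : F) • R.e 1) * Z' by rw [hZP, mul_assoc, hZZ', mul_one],
        ← mul_assoc, ← mul_assoc, hYZ, LinearMap.trace_mul_comm, ← mul_assoc, ← mul_assoc, hZZ, one_mul]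
  have hsame : ∀ w' : R.W1, w' ≠ 0 → Q (w' : ι → F) = 0 →
      LinearMap.trace ℂ V (Y * wP ψ R τ (w' : ι → F)) = ν := fun w' hw' hqw' =>
    (hbase w' hw' hqw').trans (hbase w hw hqw).symm
  have hneg : ∀ u, Y u = -u → ∀ y, τ (rootE R y) u = u := by
    intro u hu
    refine (mem_range_wP_zero (ψ := ψ) R τ u).1 ⟨u, ?_⟩
    have h1 := LinearMap.congr_fun (sum_wP (ψ := ψ) R τ hψ) u
    rw [LinearMap.sum_apply, Finset.sum_eq_single (0 : R.W1) (fun w' _ hw' => ?_) (by simp)] at h1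
    · exact h1
    have hr : rnk (wP ψ R τ (w' : ι → F)) ≤ 1 := by rw [hS w' hw']; split_ifs <;> simp
    by_cases hqw' : Q (w' : ι → F) = 0
    · have e1 := LinearMap.congr_fun (smul_of_rnk_one (wP_idem R τ _) hr (hcomm (w' : ι → F))) u
      rw [hsame w' hw' hqw', Module.End.mul_apply, LinearMap.smul_apply] at e1
      have e2 := LinearMap.congr_fun (hcomm (w' : ι → F)) u
      rw [Module.End.mul_apply, Module.End.mul_apply, e1, hu, map_neg, ← sub_eq_zero, sub_neg_eq_add] at e2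
      have e3 : (ν + 1) • wP ψ R τ (w' : ι → F) u = 0 := by rw [add_smul, one_smul]; exact e2
      exact (smul_eq_zero.1 e3).resolve_left fun h => hne (eq_neg_of_add_eq_zero_left h)
    · rw [eq_zero_of_rnk (show rnk (wP ψ R τ (w' : ι → F)) = 0 by rw [hS w' hw', if_neg hqw'])]
      rfl
  obtain ⟨-, b, c', hc', -, hb⟩ := flip_at R hR 0
  let K : Subgroup ↥(gw Q R.top) :=
    { carrier := {h | τ h u = u}
      mul_mem' := fun {a b} (ha : τ a u = u) (hb : τ b u = u) => by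
        show τ (a * b) u = u
        rw [map_mul, Module.End.mul_apply, hb, ha]
      one_mem' := by show τ 1 u = u; rw [map_one]; rfl
      inv_mem' := fun {a} (ha : τ a u = u) => by
        show τ a⁻¹ u = u
        conv_lhs => rw [← ha, ← Module.End.mul_apply, ← map_mul, inv_mul_cancel, map_one]
        rfl }
  have hF : ∀ y : R.W1, rootF R y ∈ K := fun y => by
    set w' := gmat b *ᵥ (y : ι → F)
    have hwt : w' ∈ R.top := (gw_spec b.2).1 _ y.2.1
    have hew : QuadraticMap.polar (⇑Q) (R.e 0) w' = 0 := by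
      have h1 := polar_mulVec Q (b : ↥(Cfsg.isometryGroup F ⇑Q)) (R.f 0) (y : ι → F)
      rw [show mat Q (b : ↥(Cfsg.isometryGroup F ⇑Q)) *ᵥ R.f 0 = c' • R.e 0 from hb, y.2.2.2,
        QuadraticMap.polar_smul_left, smul_eq_mul, mul_eq_zero] at h1
      exact h1.resolve_left hc'
    have hp : c' • R.proj w' ∈ R.W1 := R.W1.smul_mem _ (R.proj_mem hwt)
    have he : b * rootF R y = rootE R ⟨_, hp⟩ * b := by
      refine Subtype.ext (mat_ext Q ?_)
      show gmat b * eich Q (R.f 0) (y : ι → F) = eich Q (R.e 0) (c' • R.proj w') * gmat b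
      have hd : c' • w' = c' • R.proj w' + (c' * QuadraticMap.polar (⇑Q) (R.f 0) w') • R.e 0 := by
        conv_lhs => rw [R.decomp w', hew]
        module
      have e0 := conj_eich (b : ↥(Cfsg.isometryGroup F ⇑Q)) (R.f 0) (y : ι → F)
      rw [show mat Q (b : ↥(Cfsg.isometryGroup F ⇑Q)) *ᵥ R.f 0 = c' • R.e 0 from hb, eich_smul_left,
        show c' • (mat Q (b : ↥(Cfsg.isometryGroup F ⇑Q)) *ᵥ (y : ι → F)) = _ from hd,
        eich_add_smul_self (R.qe 0) hp.2.1] at e0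
      exact e0
    have hbu : Y (τ b u) = -(τ b u) := by
      rw [← Module.End.mul_apply, hY, Module.End.mul_apply, hu, map_neg]
    show τ (rootF R y) u = u
    rw [show rootF R y = b⁻¹ * (rootE R ⟨_, hp⟩ * b) by rw [← he, inv_mul_cancel_left], map_mul, map_mul,
      Module.End.mul_apply, Module.End.mul_apply, hneg _ hbu, ← Module.End.mul_apply, ← map_mul, inv_mul_cancel,
      map_one]
    rfl
  have hle : rootGroup R ≤ K := (Subgroup.closure_le K).2 <| by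
    rintro _ (⟨y, rfl⟩ | ⟨y, rfl⟩)
    · exact hneg u hu y
    · exact hF y
  exact hmove (hle ((Fr.rootGroup_eq_top R).symm ▸ Subgroup.mem_top h₀))

/-- The trace from an eigenbasis of three vectors. -/
theorem trace_three {W : Submodule ℂ V} (hd : finrank ℂ W = 3) {a b c : W}
    (hli : LinearIndependent ℂ ![a, b, c]) (Y : End ℂ W)
    (e₁ : Y a = a) (e₂ : Y b = -b) (e₃ : Y c = -c) : LinearMap.trace ℂ W Y = -1 := by
  classical
  let bas := basisOfLinearIndependentOfCardEqFinrank hli (by rw [hd]; simp)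
  have hb : ∀ i (c : ℂ), Y (bas i) = c • bas i → (LinearMap.toMatrix bas bas Y).diag i = c := fun i c h => by
    rw [Matrix.diag_apply, LinearMap.toMatrix_apply, h, map_smul, Basis.repr_self]
    simp
  have hbas : ∀ i, bas i = ![a, b, c] i := fun i => by
    rw [coe_basisOfLinearIndependentOfCardEqFinrank]
  rw [LinearMap.trace_eq_matrix_trace ℂ bas, Matrix.trace, Fin.sum_univ_three,
    hb 0 1 (by rw [hbas, one_smul]; exact e₁), hb 1 (-1) (by rw [hbas, neg_one_smul]; exact e₂),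
    hb 2 (-1) (by rw [hbas, neg_one_smul]; exact e₃)]
  ring

theorem restrict_fix {W : Submodule ℂ V} (X : End ℂ V) (h : ∀ v ∈ W, X v ∈ W) (u : W) (he : X u = u) :
    X.restrict h u = u := Subtype.ext he

theorem restrict_neg {W : Submodule ℂ V} (X : End ℂ V) (h : ∀ v ∈ W, X v ∈ W) (u : W) (he : X u = -(u : V)) :
    X.restrict h u = -u := Subtype.ext he

section four

variable (R : Fr Q 4)

/-- The element carrying the first two pairs to the last two. -/
theorem ghost_swap (x : Fˣ) : ∃ s : ↥(gw Q R.top),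
    dEl R (pairTuple 0 1 x) * s = s * dEl R (pairTuple 2 3 x) ∧
      gmat s *ᵥ R.e 0 = R.e 2 ∧ gmat s *ᵥ R.f 0 = R.f 2 := by
  have hd : ∀ (y y' : torusGrp F 4) (i : Fin 3), swapAt i y.1 = y'.1 →
      dEl R y * node R i wSL = node R i wSL * dEl R y' := fun y y' i h =>
    diag_w R i (isDiag_dEl R y) (h ▸ isDiag_dEl R y')
  have e1 := hd (pairTuple 0 1 x) (pairTuple 0 2 x) 1 (funext fun j => by
    fin_cases j <;> simp [swapAt, pairTuple, Equiv.swap_apply_def, Fin.ext_iff, Pi.mulSingle_apply])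
  have e2 := hd (pairTuple 0 2 x) (pairTuple 1 2 x) 0 (funext fun j => by
    fin_cases j <;> simp [swapAt, pairTuple, Equiv.swap_apply_def, Fin.ext_iff, Pi.mulSingle_apply])
  have e3 := hd (pairTuple 1 2 x) (pairTuple 1 3 x) 2 (funext fun j => by
    fin_cases j <;> simp [swapAt, pairTuple, Equiv.swap_apply_def, Fin.ext_iff, Pi.mulSingle_apply])
  have e4 := hd (pairTuple 1 3 x) (pairTuple 2 3 x) 1 (funext fun j => by
    fin_cases j <;> simp [swapAt, pairTuple, Equiv.swap_apply_def, Fin.ext_iff, Pi.mulSingle_apply])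
  refine ⟨node R (1 : Fin 3) wSL * node R (0 : Fin 3) wSL * node R (2 : Fin 3) wSL * node R (1 : Fin 3) wSL,
    ?_, ?_, ?_⟩
  · rw [← mul_assoc, ← mul_assoc, ← mul_assoc, e1, mul_assoc _ (dEl R (pairTuple 0 2 x)), e2, ← mul_assoc,
      mul_assoc _ (dEl R (pairTuple 1 2 x)), e3, ← mul_assoc, mul_assoc _ (dEl R (pairTuple 1 3 x)), e4, ← mul_assoc]
  · have w0 := node_w_spec R (0 : Fin 3)
    have w1 := node_w_spec R (1 : Fin 3)
    have h1 : gmat (node R (1 : Fin 3) wSL) *ᵥ R.e 0 = R.e 0 := node_fix_e R _ _ (by simp [Fin.ext_iff]) (by simp [Fin.ext_iff])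
    have h2 : gmat (node R (2 : Fin 3) wSL) *ᵥ R.e 0 = R.e 0 := node_fix_e R _ _ (by simp [Fin.ext_iff]) (by simp [Fin.ext_iff])
    rw [gmat_mul, gmat_mul, gmat_mul, ← Matrix.mulVec_mulVec, ← Matrix.mulVec_mulVec, ← Matrix.mulVec_mulVec,
      h1, h2, show gmat (node R (0 : Fin 3) wSL) *ᵥ R.e 0 = -R.e 1 from w0.1, Matrix.mulVec_neg,
      show gmat (node R (1 : Fin 3) wSL) *ᵥ R.e 1 = -R.e 2 from w1.1, neg_neg]
  · have w0 := node_w_spec R (0 : Fin 3)
    have w1 := node_w_spec R (1 : Fin 3)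
    have h1 : gmat (node R (1 : Fin 3) wSL) *ᵥ R.f 0 = R.f 0 := node_fix_f R _ _ (by simp [Fin.ext_iff]) (by simp [Fin.ext_iff])
    have h2 : gmat (node R (2 : Fin 3) wSL) *ᵥ R.f 0 = R.f 0 := node_fix_f R _ _ (by simp [Fin.ext_iff]) (by simp [Fin.ext_iff])
    rw [gmat_mul, gmat_mul, gmat_mul, ← Matrix.mulVec_mulVec, ← Matrix.mulVec_mulVec, ← Matrix.mulVec_mulVec,
      h1, h2, show gmat (node R (0 : Fin 3) wSL) *ᵥ R.f 0 = -R.f 1 from w0.2.2.1, Matrix.mulVec_neg,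
      show gmat (node R (1 : Fin 3) wSL) *ᵥ R.f 1 = -R.f 2 from w1.2.2.1, neg_neg]

theorem hfix_inner (x : Fˣ) : ∀ y ∈ R.tail.tail.top, gmat (dEl R (pairTuple 0 1 x)) *ᵥ y = y := by
  set g := dEl R (pairTuple 0 1 x)
  have hD : IsDiag R g (pairTuple 0 1 x).1 := isDiag_dEl R _
  have p2 : (pairTuple (0 : Fin 4) 1 x).1 2 = 1 := by simp [pairTuple]
  have p3 : (pairTuple (0 : Fin 4) 1 x).1 3 = 1 := by simp [pairTuple]
  let L : Submodule F (ι → F) := LinearMap.eqLocus (Matrix.toLin' (gmat g)) LinearMap.id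
  have hL : ∀ y, gmat g *ᵥ y = y → y ∈ L := fun y hy => by
    show Matrix.toLin' (gmat g) y = y
    rw [Matrix.toLin'_apply, hy]
  have e2 := hD.he 2; have f2 := hD.hf 2; have e3 := hD.he 3; have f3 := hD.hf 3
  rw [p2, Units.val_one, one_smul] at e2
  rw [p2, Units.val_one, inv_one, one_smul] at f2
  rw [p3, Units.val_one, one_smul] at e3
  rw [p3, Units.val_one, inv_one, one_smul] at f3
  intro y hy
  have h : Matrix.toLin' (gmat g) y = y := top_le_of_mem R.tail.tail L (fun j => by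
    fin_cases j
    · exact ⟨hL _ e2, hL _ f2⟩
    · exact ⟨hL _ e3, hL _ f3⟩)
    (fun z hz => hL z (hD.hz z hz)) hy
  rwa [Matrix.toLin'_apply] at h

theorem inner_commute (x : Fˣ) (h : ↥(gw Q R.tail.tail.top)) :
    gmat (dEl R (pairTuple 0 1 x)) * gmat h = gmat h * gmat (dEl R (pairTuple 0 1 x)) := by
  set g := dEl R (pairTuple 0 1 x)
  have hD : IsDiag R g (pairTuple 0 1 x).1 := isDiag_dEl R _
  set H := incl R (incl R.tail h)
  suffices hh : g * H = H * g from congrArg gmat hh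
  have hH : ∀ v, gmat H *ᵥ v = gmat h *ᵥ v := fun v => rfl
  have fixo : ∀ v : ι → F, (∀ y ∈ R.tail.tail.top, QuadraticMap.polar (⇑Q) y v = 0) → gmat H *ᵥ v = v :=
    fun v hv => (gw_spec h.2).2 v hv
  have o0e : gmat H *ᵥ R.e 0 = R.e 0 := fixo _ fun y hy => by rw [QuadraticMap.polar_comm]; exact hy.1.2.1
  have o0f : gmat H *ᵥ R.f 0 = R.f 0 := fixo _ fun y hy => by rw [QuadraticMap.polar_comm]; exact hy.1.2.2
  have o1e : gmat H *ᵥ R.e 1 = R.e 1 := fixo _ fun y hy => by rw [QuadraticMap.polar_comm]; exact hy.2.1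
  have o1f : gmat H *ᵥ R.f 1 = R.f 1 := fixo _ fun y hy => by rw [QuadraticMap.polar_comm]; exact hy.2.2
  have inner : ∀ y ∈ R.tail.tail.top, gmat g *ᵥ (gmat H *ᵥ y) = gmat H *ᵥ (gmat g *ᵥ y) := fun y hy => by
    rw [hfix_inner R x y hy, hH, hfix_inner R x _ ((gw_spec h.2).1 y hy)]
  refine gw_ext R (fun j => ?_) (fun j => ?_) fun z hz => ?_
  · rw [gmat_mul, gmat_mul, ← Matrix.mulVec_mulVec, ← Matrix.mulVec_mulVec]
    fin_cases j
    · show gmat g *ᵥ (gmat H *ᵥ R.e 0) = gmat H *ᵥ (gmat g *ᵥ R.e 0)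
      rw [o0e, hD.he, Matrix.mulVec_smul, o0e]
    · show gmat g *ᵥ (gmat H *ᵥ R.e 1) = gmat H *ᵥ (gmat g *ᵥ R.e 1)
      rw [o1e, hD.he, Matrix.mulVec_smul, o1e]
    · exact inner _ (R.tail.tail.e_mem 0)
    · exact inner _ (R.tail.tail.e_mem 1)
  · rw [gmat_mul, gmat_mul, ← Matrix.mulVec_mulVec, ← Matrix.mulVec_mulVec]
    fin_cases j
    · show gmat g *ᵥ (gmat H *ᵥ R.f 0) = gmat H *ᵥ (gmat g *ᵥ R.f 0)
      rw [o0f, hD.hf, Matrix.mulVec_smul, o0f]
    · show gmat g *ᵥ (gmat H *ᵥ R.f 1) = gmat H *ᵥ (gmat g *ᵥ R.f 1)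
      rw [o1f, hD.hf, Matrix.mulVec_smul, o1f]
    · exact inner _ (R.tail.tail.f_mem 0)
    · exact inner _ (R.tail.tail.f_mem 1)
  · rw [gmat_mul, gmat_mul, ← Matrix.mulVec_mulVec, ← Matrix.mulVec_mulVec]
    exact inner z (core_spec R.tail.tail hz).1

variable (σ : Representation ℂ ↥(gw Q R.top) V)

/-- The weights fixed by the last torus element and their eigenvalue. -/
theorem node_weight_one (hS : SingOnce R σ ψ) (hq : 4 ≤ Fintype.card F) (x : Fˣ) (hx1 : (x : F) ≠ 1) {w : R.W1}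
    (hw0 : w ≠ 0) (hqw : Q (w : ι → F) = 0)
    (hwfix : gmat (dEl R (pairTuple 2 3 x)) *ᵥ (w : ι → F) = (w : ι → F)) :
    LinearMap.trace ℂ V (σ (dEl R (pairTuple 2 3 x)) * wP ψ R σ (w : ι → F)) = 1 := by
  classical
  have hxi : (x : F)⁻¹ ≠ 1 := fun h => hx1 (inv_eq_one.1 h)
  obtain ⟨he, hf, -⟩ := (isDiag_dEl R (pairTuple 2 3 x)).eigen (t := 1) (by rw [one_smul]; exact hwfix)
  set P := wP ψ R σ (w : ι → F)
  have hrk : rnk P = 1 := by rw [hS w hw0, if_pos hqw]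
  have ew : ∀ a, gmat (node R (2 : Fin 3) a) *ᵥ (w : ι → F) = w := fun a =>
    node_perp R _ _ (he 2 (by simpa [pairTuple] using hx1)) (hf 2 (by simpa [pairTuple] using hxi))
      (he 3 (by simpa [pairTuple] using hxi)) (hf 3 (by simpa [pairTuple] using hx1))
  have hne : ∀ (a : Matrix.SpecialLinearGroup (Fin 2) F), σ (node R (2 : Fin 3) a) * P =
      LinearMap.trace ℂ V (σ (node R (2 : Fin 3) a) * P) • P := fun a => by
    refine smul_of_rnk_one (wP_idem R σ _) hrk.le ?_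
    have e0 : gmat (node R (2 : Fin 3) a) *ᵥ R.e 0 = R.e 0 := node_fix_e R _ _ (by simp [Fin.ext_iff]) (by simp [Fin.ext_iff])
    have f0 : gmat (node R (2 : Fin 3) a) *ᵥ R.f 0 = R.f 0 := node_fix_f R _ _ (by simp [Fin.ext_iff]) (by simp [Fin.ext_iff])
    rw [conj_wP R σ _ one_ne_zero (by rw [e0, one_smul]) (stable_W1 R _ e0 f0), inv_one, one_smul, ew]
  have hP0 : P ≠ 0 := fun h => by
    rw [h, rnk, LinearMap.range_zero, finrank_bot] at hrk
    omega
  let φ : Matrix.SpecialLinearGroup (Fin 2) F →* ℂ :=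
    { toFun := fun a => LinearMap.trace ℂ V (σ (node R (2 : Fin 3) a) * P)
      map_one' := by rw [map_one, map_one, one_mul, rnk_trace (wP_idem R σ _), hrk, Nat.cast_one]
      map_mul' := fun a b => by
        refine smul_left_injective ℂ hP0 ?_
        show LinearMap.trace ℂ V (σ (node R (2 : Fin 3) (a * b)) * P) • P = _ • P
        have ea := hne a
        have eb := hne b
        refine (hne (a * b)).symm.trans ?_
        generalize LinearMap.trace ℂ V (σ (node R (2 : Fin 3) a) * P) = s₁ at ea ⊢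
        generalize LinearMap.trace ℂ V (σ (node R (2 : Fin 3) b) * P) = s₂ at eb ⊢
        rw [map_mul, map_mul, mul_assoc, eb, mul_smul_comm, ea, smul_smul, mul_comm] }
  have h1 := congrArg Units.val (diag_trivial hq φ.toHomUnits x)
  rw [MonoidHom.coe_toHomUnits] at h1
  rw [show pairTuple (2 : Fin 4) 3 x = pairTuple (2 : Fin 3).castSucc (2 : Fin 3).succ x from rfl, ← node_diag_eq]
  exact h1

/-- There are as many such weights as singular vectors at the innermost level. -/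
theorem moved_count (x : Fˣ) (hx1 : (x : F) ≠ 1) :
    (Finset.univ.filter fun w : R.W1 => w ≠ 0 ∧ Q (w : ι → F) = 0 ∧
      gmat (dEl R (pairTuple 2 3 x)) *ᵥ (w : ι → F) = (w : ι → F)).card =
    ((Finset.univ : Finset R.tail.tail.W1).filter fun w : R.tail.tail.W1 => w ≠ 0 ∧ Q (w : ι → F) = 0).card := by
  classical
  have hxi : (x : F)⁻¹ ≠ 1 := fun h => hx1 (inv_eq_one.1 h)
  obtain ⟨s, hconj, hse, hsf⟩ := ghost_swap R x
  set g := dEl R (pairTuple 0 1 x)
  set g' := dEl R (pairTuple 2 3 x)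
  have hinv : ∀ v : ι → F, gmat s⁻¹ *ᵥ (gmat s *ᵥ v) = v := fun v => gmat_inv_mulVec rfl
  have hss : ∀ v : ι → F, gmat s *ᵥ (gmat s⁻¹ *ᵥ v) = v := fun v => by
    rw [Matrix.mulVec_mulVec, ← gmat_mul, mul_inv_cancel, gmat_one, Matrix.one_mulVec]
  have hto : ∀ w : R.W1, gmat g' *ᵥ (w : ι → F) = (w : ι → F) → gmat s *ᵥ (w : ι → F) ∈ R.tail.tail.W1 := by
    intro w hw
    have hfix : gmat g *ᵥ (gmat s *ᵥ (w : ι → F)) = (1 : F) • (gmat s *ᵥ (w : ι → F)) := by
      rw [one_smul, Matrix.mulVec_mulVec, ← gmat_mul, hconj, gmat_mul, ← Matrix.mulVec_mulVec, hw]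
    obtain ⟨he, hf, -⟩ := (isDiag_dEl R (pairTuple 0 1 x)).eigen hfix
    refine ⟨⟨⟨(gw_spec s.2).1 _ w.2.1, he 0 (by simpa [pairTuple] using hx1), hf 0 (by simpa [pairTuple] using hxi)⟩,
      he 1 (by simpa [pairTuple] using hxi), hf 1 (by simpa [pairTuple] using hx1)⟩, ?_, ?_⟩
    · show QuadraticMap.polar (⇑Q) (R.e 2) _ = 0
      rw [← hse]; exact (polar_mulVec Q _ _ _).trans w.2.2.1
    · show QuadraticMap.polar (⇑Q) (R.f 2) _ = 0
      rw [← hsf]; exact (polar_mulVec Q _ _ _).trans w.2.2.2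
  have hfrom : ∀ v : R.tail.tail.W1, gmat s⁻¹ *ᵥ (v : ι → F) ∈ R.W1 := fun v => by
    refine ⟨(gw_spec (s⁻¹).2).1 _ v.2.1.1.1, ?_, ?_⟩
    · rw [← polar_mulVec Q (s : ↥(Cfsg.isometryGroup F ⇑Q)),
        show mat Q (s : ↥(Cfsg.isometryGroup F ⇑Q)) *ᵥ R.e 0 = R.e 2 from hse,
        show mat Q (s : ↥(Cfsg.isometryGroup F ⇑Q)) *ᵥ (gmat s⁻¹ *ᵥ (v : ι → F)) = v from hss _]
      exact v.2.2.1
    · rw [← polar_mulVec Q (s : ↥(Cfsg.isometryGroup F ⇑Q)),
        show mat Q (s : ↥(Cfsg.isometryGroup F ⇑Q)) *ᵥ R.f 0 = R.f 2 from hsf,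
        show mat Q (s : ↥(Cfsg.isometryGroup F ⇑Q)) *ᵥ (gmat s⁻¹ *ᵥ (v : ι → F)) = v from hss _]
      exact v.2.2.2
  refine Finset.card_bij' (fun w hw => ⟨gmat s *ᵥ (w : ι → F), hto w (Finset.mem_filter.1 hw).2.2.2⟩)
    (fun v _ => ⟨gmat s⁻¹ *ᵥ (v : ι → F), hfrom v⟩) (fun w hw => ?_) (fun v hv => ?_)
    (fun w _ => Subtype.ext (hinv _)) (fun v _ => Subtype.ext (hss _))
  · obtain ⟨-, hw0, hqw, -⟩ := Finset.mem_filter.1 hw
    refine Finset.mem_filter.2 ⟨Finset.mem_univ _, fun h => hw0 (Subtype.ext ?_), (quad_mulVec Q _ _).trans hqw⟩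
    have h' : gmat s *ᵥ (w : ι → F) = 0 := congrArg Subtype.val h
    rw [← hinv (w : ι → F), h', Matrix.mulVec_zero]; rfl
  · obtain ⟨-, hv0, hqv⟩ := Finset.mem_filter.1 hv
    refine Finset.mem_filter.2 ⟨Finset.mem_univ _, fun h => hv0 (Subtype.ext ?_),
      (quad_mulVec Q _ _).trans hqv, ?_⟩
    · have h' : gmat s⁻¹ *ᵥ (v : ι → F) = 0 := congrArg Subtype.val h
      rw [← hss (v : ι → F), h', Matrix.mulVec_zero]; rfl
    · show gmat g' *ᵥ (gmat s⁻¹ *ᵥ (v : ι → F)) = gmat s⁻¹ *ᵥ (v : ι → F)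
      conv_rhs => rw [← hfix_inner R x (v : ι → F) v.2.1]
      rw [Matrix.mulVec_mulVec, Matrix.mulVec_mulVec, ← gmat_mul, ← gmat_mul,
        show g' * s⁻¹ = s⁻¹ * g by rw [eq_inv_mul_iff_mul_eq, ← mul_assoc, ← hconj, mul_inv_cancel_right]]

theorem dim_three (hR : IsOdd R) (hψ : ψ.IsPrimitive) (hq : 4 ≤ Fintype.card F) (hS : SingOnce R σ ψ) :
    finrank ℂ (LinearMap.range (wP ψ R.tail.tail (fixedRep ψ R.tail (fixedRep ψ R σ)) 0)) =
      finrank ℂ (fixT R σ) := by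
  have hS₂ : SingOnce R.tail.tail (fixedRep ψ R.tail (fixedRep ψ R σ)) ψ :=
    singOnce_tail _ _ hψ hq (singOnce_tail R σ hψ hq hS)
  have hb := base_fixed R.tail.tail.tail hR.tail.tail.tail _ hψ (singOnce_tail _ _ hψ hq hS₂)
  have key : ∀ {m : ℕ} {W : Type} [AddCommGroup W] [Module ℂ W] [FiniteDimensional ℂ W] (R' : Fr Q (m + 1))
      (τ : Representation ℂ ↥(gw Q R'.top) W),
      finrank ℂ (fixT R'.tail (fixedRep ψ R' τ)) = finrank ℂ (fixT R' τ) := fun R' τ => by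
    rw [← map_fixT_tail (ψ := ψ) R' τ]
    exact (Submodule.equivMapOfInjective _ (Submodule.injective_subtype _) _).finrank_eq
  rw [← key R σ, ← key R.tail, ← key R.tail.tail, hb.1, finrank_top]

set_option maxHeartbeats 4000000 in
/-- The exceptional configuration is impossible. -/
theorem ghost_false (hR : IsOdd R) (hψ : ψ.IsPrimitive) (hq : 5 ≤ Fintype.card F) (hS : SingOnce R σ ψ)
    (ht : finrank ℂ (fixT R σ) ≤ 3) {c d : Fˣ →* ℂˣ} (hcd : c ≠ d) (hsq : ∀ t, c (t * t) = d (t * t))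
    (hocc : ∀ S : Finset (Fin 4), S.card = 2 → Occurs R σ fun j => if j ∈ S then c else d) : False := by
  classical
  have hq4 : 4 ≤ Fintype.card F := by omega
  obtain ⟨x, hx⟩ := IsCyclic.exists_generator (α := Fˣ)
  have hord : orderOf x = Fintype.card F - 1 := by
    rw [orderOf_eq_card_of_forall_mem_zpowers hx, Nat.card_eq_fintype_card, Fintype.card_units]
  have hx1 : (x : F) ≠ 1 := fun h => by
    rw [show x = 1 from Units.ext h, orderOf_one] at hord; omega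
  have hxx : (x : F) * x ≠ 1 := fun h => by
    have h2 : x ^ 2 = 1 := Units.ext (by rw [sq]; simpa using h)
    have := Nat.le_of_dvd (by norm_num) (orderOf_dvd_of_pow_eq_one h2)
    omega
  have hxi : (x : F)⁻¹ ≠ 1 := fun h => hx1 (inv_eq_one.1 h)
  have hcx : ((c x : ℂˣ) : ℂ) * ((d x)⁻¹ : ℂˣ) = -1 := by
    set r : ℂ := ((c x : ℂˣ) : ℂ) * ((d x)⁻¹ : ℂˣ)
    have h1 : r * r = 1 := by
      have e : (c x * (d x)⁻¹) * (c x * (d x)⁻¹) = (1 : ℂˣ) := by
        rw [mul_mul_mul_comm, ← map_mul, ← mul_inv, ← map_mul, hsq, mul_inv_cancel]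
      have e' := congrArg Units.val e
      simpa [r] using e'
    refine (mul_self_eq_one_iff.1 h1).resolve_left fun h => hcd (MonoidHom.ext fun t => ?_)
    have hr : c x = d x := mul_inv_eq_one.1 (Units.ext h)
    obtain ⟨k, rfl⟩ := Subgroup.mem_zpowers_iff.1 (hx t)
    rw [map_zpow, map_zpow, hr]
  have hdx : ((d x : ℂˣ) : ℂ) * ((c x)⁻¹ : ℂˣ) = -1 := by
    have h2 : ((((c x * (d x)⁻¹)⁻¹ : ℂˣ)) : ℂ) = (-1 : ℂ)⁻¹ := by
      rw [Units.val_inv_eq_inv_val, Units.val_mul, hcx]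
    rw [_root_.mul_inv_rev, inv_inv] at h2
    simpa using h2
  obtain ⟨v₁, hv₁, hv₁0, hd₁⟩ := hocc {0, 1} rfl
  obtain ⟨v₂, hv₂, hv₂0, hd₂⟩ := hocc {0, 2} rfl
  obtain ⟨v₃, hv₃, hv₃0, hd₃⟩ := hocc {0, 3} rfl
  obtain ⟨s, hconj, -, -⟩ := ghost_swap R x
  set g := dEl R (pairTuple (0 : Fin 4) 1 x) with hg
  set g' := dEl R (pairTuple (2 : Fin 4) 3 x) with hg'
  have a₁ : σ g v₁ = v₁ := by rw [hg, hd₁, theta_pairTuple]; simp
  have a₂ : σ g v₂ = -v₂ := by rw [hg, hd₂, theta_pairTuple]; simpa using congrArg (· • v₂) hcx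
  have a₃ : σ g v₃ = -v₃ := by rw [hg, hd₃, theta_pairTuple]; simpa using congrArg (· • v₃) hcx
  have b₁ : σ g' v₁ = v₁ := by rw [hg', hd₁, theta_pairTuple]; simp
  have b₂ : σ g' v₂ = -v₂ := by rw [hg', hd₂, theta_pairTuple]; simpa using congrArg (· • v₂) hcx
  have b₃ : σ g' v₃ = -v₃ := by rw [hg', hd₃, theta_pairTuple]; simpa using congrArg (· • v₃) hdx
  set k := dEl R (pairTuple (0 : Fin 4) 2 x) with hk
  have k₁ : σ k v₁ = -v₁ := by rw [hk, hd₁, theta_pairTuple]; simpa using congrArg (· • v₁) hcx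
  have k₂ : σ k v₂ = v₂ := by rw [hk, hd₂, theta_pairTuple]; simp
  have k₃ : σ k v₃ = -v₃ := by rw [hk, hd₃, theta_pairTuple]; simpa using congrArg (· • v₃) hcx
  have hli : LinearIndependent ℂ ![v₁, v₂, v₃] := by
    refine Fintype.linearIndependent_iff.2 fun a ha => ?_
    have h0 : a 0 • v₁ + a 1 • v₂ + a 2 • v₃ = 0 := by simpa [Fin.sum_univ_three] using ha
    have h1 := congrArg (σ g) h0
    rw [map_add, map_add, map_smul, map_smul, map_smul, a₁, a₂, a₃, map_zero] at h1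
    have e0 : a 0 = 0 := by
      refine (smul_eq_zero.1 ?_).resolve_right hv₁0
      have : (2 : ℂ) • (a 0 • v₁) = 0 := by linear_combination (norm := module) h0 + h1
      exact (smul_eq_zero.1 this).resolve_left two_ne_zero
    have h2 := congrArg (σ k) h0
    rw [map_add, map_add, map_smul, map_smul, map_smul, k₁, k₂, k₃, map_zero] at h2
    have e1 : a 1 = 0 := by
      refine (smul_eq_zero.1 ?_).resolve_right hv₂0
      have : (2 : ℂ) • (a 1 • v₂) = 0 := by linear_combination (norm := module) h0 + h2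
      exact (smul_eq_zero.1 this).resolve_left two_ne_zero
    rw [e0, e1, zero_smul, zero_smul, zero_add, zero_add] at h0
    intro i
    fin_cases i
    · exact e0
    · exact e1
    · exact (smul_eq_zero.1 h0).resolve_right hv₃0
  have htr : LinearMap.trace ℂ V (σ g) = LinearMap.trace ℂ V (σ g') := by
    rw [show g = s * g' * s⁻¹ by rw [← hconj, mul_inv_cancel_right], map_mul, LinearMap.trace_mul_comm, ← map_mul,
      inv_mul_cancel_left]
  have hD : IsDiag R g (pairTuple (0 : Fin 4) 1 x).1 := isDiag_dEl R _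
  have hD' : IsDiag R g' (pairTuple (2 : Fin 4) 3 x).1 := isDiag_dEl R _
  have N0 : Fintype ↥(gw Q R.top) := Fintype.ofFinite _
  have hN : Fintype.card ↥(gw Q R.top) ≠ 0 := Fintype.card_ne_zero
  have hpow : ∀ (h : ↥(gw Q R.top)) (v : V), (σ h ^ Fintype.card ↥(gw Q R.top)) v = v := fun h v => by
    rw [← map_pow, pow_card_eq_one, map_one]; rfl
  have hint : ∀ h : ↥(gw Q R.top), Intw R σ (h : ↥(Cfsg.isometryGroup F ⇑Q)) (σ h) := fun h a b hab => by
    rw [← map_mul, ← map_mul, show h * a = b * h from Subtype.ext (mat_ext Q hab)]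
  have p0 : ((pairTuple (0 : Fin 4) 1 x).1 0 : F) = x := by simp [pairTuple]
  have p1 : ((pairTuple (0 : Fin 4) 1 x).1 1 : F) = (x : F)⁻¹ := by simp [pairTuple]
  have p2 : ((pairTuple (0 : Fin 4) 1 x).1 2 : F) = 1 := by simp [pairTuple]
  have q0 : ((pairTuple (2 : Fin 4) 3 x).1 0 : F) = 1 := by simp [pairTuple]
  have q1 : ((pairTuple (2 : Fin 4) 3 x).1 1 : F) = 1 := by simp [pairTuple]
  have q2 : ((pairTuple (2 : Fin 4) 3 x).1 2 : F) = x := by simp [pairTuple]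
  have e0 : gmat g *ᵥ R.e 0 = (x : F) • R.e 0 := p0 ▸ hD.he 0
  have e1 : gmat g *ᵥ R.tail.e 0 = (x : F)⁻¹ • R.tail.e 0 := p1 ▸ hD.he 1
  have e2 : gmat g *ᵥ R.tail.tail.e 0 = (1 : F) • R.tail.tail.e 0 := p2 ▸ hD.he 2
  have e0' : gmat g' *ᵥ R.e 0 = (1 : F) • R.e 0 := q0 ▸ hD'.he 0
  have e1' : gmat g' *ᵥ R.tail.e 0 = (1 : F) • R.tail.e 0 := q1 ▸ hD'.he 1
  have e2' : gmat g' *ᵥ R.tail.tail.e 0 = (x : F) • R.tail.tail.e 0 := q2 ▸ hD'.he 2
  have ne0 : (x : F) ≠ 0 := Units.ne_zero x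
  have ne1 : (x : F)⁻¹ ≠ 0 := inv_ne_zero ne0
  have W0 := stable_next R (Units.ne_zero _) (gw_spec g.2).1 (hD.he 0) (hD.hf 0)
  have W1 := stable_next R.tail (Units.ne_zero _) W0 (hD.he 1) (hD.hf 1)
  have W2 := stable_next R.tail.tail (Units.ne_zero _) W1 (hD.he 2) (hD.hf 2)
  have W0' := stable_next R (Units.ne_zero _) (gw_spec g'.2).1 (hD'.he 0) (hD'.hf 0)
  have W1' := stable_next R.tail (Units.ne_zero _) W0' (hD'.he 1) (hD'.hf 1)
  have W2' := stable_next R.tail.tail (Units.ne_zero _) W1' (hD'.he 2) (hD'.hf 2)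
  set τ₁ := fixedRep ψ R σ with hτ₁
  set τ₂ := fixedRep ψ R.tail τ₁ with hτ₂
  have hS₁ : SingOnce R.tail τ₁ ψ := singOnce_tail R σ hψ hq4 hS
  have hS₂ : SingOnce R.tail.tail τ₂ ψ := singOnce_tail R.tail τ₁ hψ hq4 hS₁
  have I1 := intw_restrict (ψ := ψ) R σ (hint g) ne0 e0 W0
  have I2 := intw_restrict (ψ := ψ) R.tail τ₁ I1 ne1 e1 W1
  have I1' := intw_restrict (ψ := ψ) R σ (hint g') one_ne_zero e0' W0'
  have I2' := intw_restrict (ψ := ψ) R.tail τ₁ I1' one_ne_zero e1' W1'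
  have P1' := pow_restrict (ψ := ψ) R σ (hint g') one_ne_zero e0' W0' (hpow g')
  have P2' := pow_restrict (ψ := ψ) R.tail τ₁ I1' one_ne_zero e1' W1' P1'
  have T0 := trace_level R σ hψ (hint g) ne0 e0 W0 hS
  have T1 := trace_level R.tail τ₁ hψ I1 ne1 e1 W1 hS₁
  have T2 := trace_level R.tail.tail τ₂ hψ I2 one_ne_zero e2 W2 hS₂
  have T0' := trace_level R σ hψ (hint g') one_ne_zero e0' W0' hS
  have T1' := trace_level R.tail τ₁ hψ I1' one_ne_zero e1' W1' hS₁
  have T2' := trace_level R.tail.tail τ₂ hψ I2' ne0 e2' W2' hS₂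
  -- the lifts
  obtain ⟨u₁, hu₁, hu₁'⟩ := lift_fixT (ψ := ψ) R σ hv₁
  obtain ⟨u₂, hu₂, hu₂'⟩ := lift_fixT (ψ := ψ) R σ hv₂
  obtain ⟨u₃, hu₃, hu₃'⟩ := lift_fixT (ψ := ψ) R σ hv₃
  obtain ⟨w₁, hw₁, hw₁'⟩ := lift_fixT (ψ := ψ) R.tail τ₁ hu₁'
  obtain ⟨w₂, hw₂, hw₂'⟩ := lift_fixT (ψ := ψ) R.tail τ₁ hu₂'
  obtain ⟨w₃, hw₃, hw₃'⟩ := lift_fixT (ψ := ψ) R.tail τ₁ hu₃'
  obtain ⟨z₁, hz₁, -⟩ := lift_fixT (ψ := ψ) R.tail.tail τ₂ hw₁'
  obtain ⟨z₂, hz₂, -⟩ := lift_fixT (ψ := ψ) R.tail.tail τ₂ hw₂'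
  obtain ⟨z₃, hz₃, -⟩ := lift_fixT (ψ := ψ) R.tail.tail τ₂ hw₃'
  subst hu₁ hu₂ hu₃
  subst hw₁ hw₂ hw₃
  subst hz₁ hz₂ hz₃
  have hli3 : LinearIndependent ℂ ![z₁, z₂, z₃] := by
    refine LinearIndependent.of_comp (((LinearMap.range (wP ψ R σ 0)).subtype.comp
      (LinearMap.range (wP ψ R.tail τ₁ 0)).subtype).comp (LinearMap.range (wP ψ R.tail.tail τ₂ 0)).subtype) ?_
    convert hli using 1
    funext i
    fin_cases i <;> rfl
  have hdim : finrank ℂ (LinearMap.range (wP ψ R.tail.tail τ₂ 0)) = 3 := by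
    refine le_antisymm ?_ (by simpa using hli3.fintype_card_le_finrank)
    rw [dim_three R σ hR hψ hq4 hS]
    exact ht
  set Y := ((σ g).restrict (range_stable ψ R σ (hint g) ne0 e0 W0)).restrict
    (range_stable ψ R.tail τ₁ I1 ne1 e1 W1) with hY
  set Y' := ((σ g').restrict (range_stable ψ R σ (hint g') one_ne_zero e0' W0')).restrict
    (range_stable ψ R.tail τ₁ I1' one_ne_zero e1' W1') with hY'
  have X3 := trace_three (W := LinearMap.range (wP ψ R.tail.tail τ₂ 0)) hdim hli3 (Y.restrict (range_stable ψ R.tail.tail τ₂ I2 one_ne_zero e2 W2))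
    (restrict_fix _ _ _ (restrict_fix _ _ _ (restrict_fix _ _ _ a₁))) (restrict_neg _ _ _ (restrict_neg _ _ _ (restrict_neg _ _ _ a₂)))
    (restrict_neg _ _ _ (restrict_neg _ _ _ (restrict_neg _ _ _ a₃)))
  have X3' := trace_three (W := LinearMap.range (wP ψ R.tail.tail τ₂ 0)) hdim hli3 (Y'.restrict (range_stable ψ R.tail.tail τ₂ I2' ne0 e2' W2'))
    (restrict_fix _ _ _ (restrict_fix _ _ _ (restrict_fix _ _ _ b₁))) (restrict_neg _ _ _ (restrict_neg _ _ _ (restrict_neg _ _ _ b₂)))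
    (restrict_neg _ _ _ (restrict_neg _ _ _ (restrict_neg _ _ _ b₃)))
  have A0 : ‖∑ w ∈ Finset.univ.filter (fun w : R.W1 => w ≠ 0 ∧ Q (w : ι → F) = 0 ∧
      gmat g *ᵥ (w : ι → F) = (x : F) • (w : ι → F)), LinearMap.trace ℂ V (σ g * wP ψ R σ (w : ι → F))‖ ≤
        ((Fintype.card F - 1 : ℕ) : ℝ) := by
    refine (norm_sum_le _ _).trans (le_trans (Finset.sum_le_sum fun w hw => norm_op_le R σ (hint g) ne0
      e0 W0 hS hN (hpow g) (Finset.mem_filter.1 hw).2.1 (Finset.mem_filter.1 hw).2.2.2) ?_)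
    rw [Finset.sum_const, nsmul_eq_mul, mul_one, Nat.cast_le]
    refine line_count hD _ hx1 R.W1 R.W1_le 1 (fun j hj => ?_) fun j => ?_
    · fin_cases j
      · exact .inl (by simpa [pairTuple] using hxx)
      · exact absurd rfl hj
      · exact .inl (by simpa [pairTuple] using hx1)
      · exact .inl (by simpa [pairTuple] using hx1)
    · fin_cases j
      · exact .inr fun w hw => hw.2.2
      · exact .inl (by simpa [pairTuple] using hxx)
      · exact .inl (by simpa [pairTuple] using hx1)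
      · exact .inl (by simpa [pairTuple] using hx1)
  have B2 : ‖∑ w ∈ Finset.univ.filter (fun w : R.tail.tail.W1 => w ≠ 0 ∧ Q (w : ι → F) = 0 ∧
      gmat g' *ᵥ (w : ι → F) = (x : F) • (w : ι → F)),
        LinearMap.trace ℂ _ (Y' * wP ψ R.tail.tail τ₂ (w : ι → F))‖ ≤ ((Fintype.card F - 1 : ℕ) : ℝ) := by
    refine (norm_sum_le _ _).trans (le_trans (Finset.sum_le_sum fun w hw => norm_op_le R.tail.tail τ₂ I2' ne0
      e2' W2' hS₂ hN P2' (Finset.mem_filter.1 hw).2.1 (Finset.mem_filter.1 hw).2.2.2) ?_)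
    rw [Finset.sum_const, nsmul_eq_mul, mul_one, Nat.cast_le]
    refine line_count hD' _ hx1 R.tail.tail.W1 (fun w hw => hw.1.1.1) 3 (fun j hj => .inr fun w hw => ?_) fun j => ?_
    · fin_cases j
      · exact hw.1.1.2.1
      · exact hw.1.2.1
      · exact hw.2.1
      · exact absurd rfl hj
    · fin_cases j
      · exact .inr fun w hw => hw.1.1.2.2
      · exact .inr fun w hw => hw.1.2.2
      · exact .inr fun w hw => hw.2.2
      · exact .inl (by simpa [pairTuple] using hxx)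
  have A1 : (Finset.univ.filter fun w : R.tail.W1 => w ≠ 0 ∧ Q (w : ι → F) = 0 ∧
      gmat g *ᵥ (w : ι → F) = (x : F)⁻¹ • (w : ι → F)) = ∅ := by
    refine Finset.filter_eq_empty_iff.2 fun w _ hw => hw.1 (Subtype.ext ?_)
    obtain ⟨he, hf, hc⟩ := hD.eigen hw.2.2
    refine eq_zero_of_perp R w.2.1.1 (fun j => ?_) (fun j => ?_) (hc hxi)
    · fin_cases j
      · exact w.2.1.2.1
      · exact w.2.2.1
      · exact he 2 (by simpa [pairTuple] using hx1)
      · exact he 3 (by simpa [pairTuple] using hx1)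
    · fin_cases j
      · exact w.2.1.2.2
      · exact w.2.2.2
      · exact hf 2 (by simpa [pairTuple] using hx1)
      · exact hf 3 (by simpa [pairTuple] using hx1)
  have B1 : (Finset.univ.filter fun w : R.tail.W1 => w ≠ 0 ∧ Q (w : ι → F) = 0 ∧
      gmat g' *ᵥ (w : ι → F) = (1 : F) • (w : ι → F)) = ∅ := by
    refine Finset.filter_eq_empty_iff.2 fun w _ hw => ?_
    obtain ⟨he, hf, -⟩ := hD'.eigen hw.2.2
    refine hR.core_ne _ ((mem_core R _).2 ⟨w.2.1.1, fun j => ?_⟩) (fun h => hw.1 (Subtype.ext h)) hw.2.1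
    fin_cases j
    · exact ⟨w.2.1.2.1, w.2.1.2.2⟩
    · exact ⟨w.2.2.1, w.2.2.2⟩
    · exact ⟨he 2 (by simpa [pairTuple] using hx1), hf 2 (by simpa [pairTuple] using hx1)⟩
    · exact ⟨he 3 (by simpa [pairTuple] using hx1), hf 3 (by simpa [pairTuple] using hx1)⟩
  have hcnt : ((Finset.univ : Finset R.tail.tail.W1).filter fun w : R.tail.tail.W1 => w ≠ 0 ∧ Q (w : ι → F) = 0).card + 1 =
      Fintype.card F ^ 2 := by
    have h : ((Finset.univ : Finset R.tail.tail.W1).filter fun w : R.tail.tail.W1 => w ≠ 0 ∧ Q (w : ι → F) = 0) =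
        ((Finset.univ : Finset R.tail.tail.W1).filter fun w : R.tail.tail.W1 => Q (w : ι → F) = 0).erase 0 := by
      ext w; simp
    rw [h, Finset.card_erase_add_one (by simp)]
    exact odd_cnt_zero R.tail.tail.tail hR.tail.tail.tail
  have B0 : ∑ w ∈ Finset.univ.filter (fun w : R.W1 => w ≠ 0 ∧ Q (w : ι → F) = 0 ∧
      gmat g' *ᵥ (w : ι → F) = (1 : F) • (w : ι → F)), LinearMap.trace ℂ V (σ g' * wP ψ R σ (w : ι → F)) =
        (Fintype.card F : ℂ) ^ 2 - 1 := by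
    simp only [one_smul]
    rw [Finset.sum_congr rfl fun w hw => node_weight_one R σ hS hq4 x hx1 (Finset.mem_filter.1 hw).2.1
      (Finset.mem_filter.1 hw).2.2.1 (Finset.mem_filter.1 hw).2.2.2, Finset.sum_const, nsmul_eq_mul, mul_one,
      eq_sub_iff_add_eq, moved_count R x hx1]
    exact_mod_cast hcnt
  have hYc : ∀ h : ↥(gw Q R.tail.tail.top), Y * τ₂ h = τ₂ h * Y := fun h => I2 h h (inner_commute R x h)
  have hmove : τ₂ (dEl R.tail.tail (pairTuple 0 1 x)) (z₂ : _) ≠ (z₂ : _) := by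
    intro h2
    have hin : incl R (incl R.tail (dEl R.tail.tail (pairTuple 0 1 x))) = g' := by
      refine (isDiag_incl R (isDiag_incl R.tail (isDiag_dEl R.tail.tail (pairTuple 0 1 x)))).eq ?_
      have e : (Fin.cons 1 (Fin.cons 1 (pairTuple (0 : Fin 2) 1 x).1) : Fin 4 → Fˣ) =
          (pairTuple (2 : Fin 4) 3 x).1 := by
        funext j
        refine Fin.cases ?_ (fun l => ?_) j
        · simp [pairTuple, Pi.mulSingle_apply, Fin.ext_iff]
        rw [Fin.cons_succ]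
        refine Fin.cases ?_ (fun n => ?_) l
        · simp [pairTuple, Pi.mulSingle_apply, Fin.ext_iff]
        rw [Fin.cons_succ]
        fin_cases n <;> simp [pairTuple, Pi.mulSingle_apply, Fin.ext_iff]
      rw [e]
      exact hD'
    have h3 := congrArg (fun v : LinearMap.range (wP ψ R.tail τ₁ 0) => ((v : _) : V)) h2
    simp only [hτ₂, hτ₁, fixedRep_apply, hin] at h3
    refine hv₂0 ((smul_eq_zero.1 ?_).resolve_left (two_ne_zero (α := ℂ)))
    rw [two_smul]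
    exact eq_neg_iff_add_eq_zero.1 (h3.symm.trans b₂)
  have hm : IsDiag R (dEl R (pairTuple (0 : Fin 4) 3 x)) (pairTuple (0 : Fin 4) 3 x).1 := isDiag_dEl R _
  set m := dEl R (pairTuple (0 : Fin 4) 3 x) with hmdef
  have m2 : ((pairTuple (0 : Fin 4) 3 x).1 2 : F) = 1 := by simp [pairTuple]
  have m3 : ((pairTuple (0 : Fin 4) 3 x).1 3 : F) = (x : F)⁻¹ := by simp [pairTuple]
  have Wm0 := stable_next R (Units.ne_zero _) (gw_spec m.2).1 (hm.he 0) (hm.hf 0)
  have Wm1 := stable_next R.tail (Units.ne_zero _) Wm0 (hm.he 1) (hm.hf 1)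
  have Wm2 := stable_next R.tail.tail (Units.ne_zero _) Wm1 (hm.he 2) (hm.hf 2)
  have Im1 := intw_restrict (ψ := ψ) R σ (hint m) (Units.ne_zero _) (hm.he 0) Wm0
  have Im2 := intw_restrict (ψ := ψ) R.tail τ₁ Im1 (Units.ne_zero _) (hm.he 1) Wm1
  have Pm1 := pow_restrict (ψ := ψ) R σ (hint m) (Units.ne_zero _) (hm.he 0) Wm0 (hpow m)
  have Pm2 := pow_restrict (ψ := ψ) R.tail τ₁ Im1 (Units.ne_zero _) (hm.he 1) Wm1 Pm1
  set Z := ((σ m).restrict (range_stable ψ R σ (hint m) (Units.ne_zero _) (hm.he 0) Wm0)).restrict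
    (range_stable ψ R.tail τ₁ Im1 (Units.ne_zero _) (hm.he 1) Wm1) with hZ
  obtain ⟨N', hN'⟩ : ∃ N', Fintype.card ↥(gw Q R.top) = N' + 1 := ⟨_, (Nat.sub_add_cancel Fintype.card_pos).symm⟩
  have hZ1 : Z ^ N' * Z = 1 := by rw [← pow_succ, ← hN']; exact LinearMap.ext Pm2
  have hZ2 : Z * Z ^ N' = 1 := by rw [← pow_succ', ← hN']; exact LinearMap.ext Pm2
  have hgm : σ g * σ m = σ m * σ g := by
    rw [← map_mul, ← map_mul, hg, hmdef, ← map_mul, ← map_mul, mul_comm]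
  have hYZ : Y * Z = Z * Y := LinearMap.ext fun v => Subtype.ext (Subtype.ext (LinearMap.congr_fun hgm _))
  have hgen : ∀ c : Fˣ, c ∈ Subgroup.zpowers x⁻¹ := fun c => by rw [Subgroup.zpowers_inv]; exact hx c
  have hZP : ∀ c : F, Z * wP ψ R.tail.tail τ₂ (c • R.tail.tail.e 1) =
      wP ψ R.tail.tail τ₂ ((((x⁻¹ : Fˣ) : F) * c) • R.tail.tail.e 1) * Z := fun c => by
    have h := conj_wP_op (ψ := ψ) R.tail.tail τ₂ Im2 (Units.ne_zero _) (hm.he 2) Wm2 (c • R.tail.tail.e 1)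
    rw [m2, inv_one, one_smul, Matrix.mulVec_smul,
      show mat Q (m : ↥(Cfsg.isometryGroup F ⇑Q)) *ᵥ R.tail.tail.e 1 = (x : F)⁻¹ • R.tail.tail.e 1 from
        m3 ▸ hm.he 3, smul_smul, mul_comm c] at h
    rw [Units.val_inv_eq_inv_val]
    exact h
  have A2 : ∑ w ∈ Finset.univ.filter (fun w : R.tail.tail.W1 => w ≠ 0 ∧ Q (w : ι → F) = 0 ∧
      gmat g *ᵥ (w : ι → F) = (1 : F) • (w : ι → F)),
        LinearMap.trace ℂ _ (Y * wP ψ R.tail.tail τ₂ (w : ι → F)) = -((Fintype.card F : ℂ) ^ 2 - 1) := by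
    rw [Finset.sum_congr rfl fun w hw => neg_weights R.tail.tail hR.tail.tail τ₂ hψ hS₂ Y hYc
      (u := (z₂ : _)) (Subtype.ext (Subtype.ext a₂)) _ hmove Z (Z ^ N') hZ1 hZ2 hYZ x⁻¹ hgen hZP (Finset.mem_filter.1 hw).2.1
      (Finset.mem_filter.1 hw).2.2.1, Finset.sum_const,
      Finset.filter_congr (q := fun w : R.tail.tail.W1 => w ≠ 0 ∧ Q (w : ι → F) = 0) fun w _ => by
        rw [one_smul, eq_true (hfix_inner R x (w : ι → F) w.2.1), and_true], nsmul_eq_mul,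
      show ((Finset.univ : Finset R.tail.tail.W1).filter fun w : R.tail.tail.W1 => w ≠ 0 ∧ Q (w : ι → F) = 0).card =
        Fintype.card F ^ 2 - 1 by omega, Nat.cast_sub (Nat.one_le_pow _ _ (by omega))]
    push_cast
    ring
  rw [T0, T1, T2, X3, A1, A2, T0', T1', T2', X3', B1, B0, Finset.sum_empty, Finset.sum_empty] at htr
  set α := ∑ w ∈ Finset.univ.filter (fun w : R.W1 => w ≠ 0 ∧ Q (w : ι → F) = 0 ∧
      gmat g *ᵥ (w : ι → F) = (x : F) • (w : ι → F)), LinearMap.trace ℂ V (σ g * wP ψ R σ (w : ι → F))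
  set β := ∑ w ∈ Finset.univ.filter (fun w : R.tail.tail.W1 => w ≠ 0 ∧ Q (w : ι → F) = 0 ∧
      gmat g' *ᵥ (w : ι → F) = (x : F) • (w : ι → F)), LinearMap.trace ℂ _ (Y' * wP ψ R.tail.tail τ₂ (w : ι → F))
  have h2 : α - β = ((2 * (Fintype.card F ^ 2 - 1) : ℕ) : ℂ) := by
    rw [Nat.cast_mul, Nat.cast_sub (Nat.one_le_pow _ _ (by omega))]
    push_cast
    linear_combination htr
  have h3 := norm_sub_le α β
  rw [h2, Complex.norm_natCast] at h3
  have h4 : ((2 * (Fintype.card F ^ 2 - 1) : ℕ) : ℝ) ≤ ((2 * (Fintype.card F - 1) : ℕ) : ℝ) := by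
    push_cast at A0 B2 h3 ⊢
    linarith
  rw [Nat.cast_le] at h4
  have : 2 * Fintype.card F ≤ Fintype.card F ^ 2 := by rw [sq]; exact Nat.mul_le_mul_right _ (by omega)
  omega

end four

end CfsgLib.OrthDeg
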