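import Cfsg.Agent.OrthDeg.OddChain

/-!
# Elements of a node and the common fixed space
-/

set_option autoImplicit false
set_option linter.unusedSectionVars false

namespace CfsgLib.OrthDeg

open Matrix Module CfsgLib.Forms CfsgLib.Spinor CfsgLib.Forms4 CfsgLib.RepBounds

variable {F : Type*} [Field F] [Fintype F] [DecidableEq F] {ι : Type} [Fintype ι] [DecidableEq ι]
  {Q : QuadraticForm F (ι → F)}

noncomputable local instance subFintypeOddNode (S : Submodule F (ι → F)) : Fintype S := Fintype.ofFinite S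

theorem eich_swap {u w : ι → F} (hu : Q u = 0) (hw : Q w = 0) : eich Q u w = eich Q w (-u) := by
  refine Matrix.ext_iff_mulVec.2 fun x => ?_
  rw [eich_mulVec, eich_mulVec, hw, QuadraticMap.map_neg, hu, QuadraticMap.polar_neg_left]
  module

theorem eich_plane {u w : ι → F} (hu : Q u = 0) (hw : Q w = 0) (huw : QuadraticMap.polar (⇑Q) u w = 0)
    (A B C D : F) : eich Q (A • u + B • w) (C • u + D • w) = eich Q u ((A * D - B * C) • w) := by
  have hq : Q (C • u + D • w) = 0 := by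
    rw [QuadraticMap.map_add (⇑Q), QuadraticMap.map_smul, QuadraticMap.map_smul, hu, hw,
      QuadraticMap.polar_smul_left, QuadraticMap.polar_smul_right, huw]
    simp
  refine Matrix.ext_iff_mulVec.2 fun x => ?_
  rw [eich_mulVec, eich_mulVec, hq, QuadraticMap.map_smul, hw]
  simp only [QuadraticMap.polar_add_left, QuadraticMap.polar_smul_left, smul_eq_mul]
  match_scalars <;> ring

section node

variable {m : ℕ} (R : Fr Q (m + 2)) (i : Fin (m + 1))

/-- The two pairs of a node. -/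
def nodePr : Pr Q 2 :=
  R.toPr.comp ⟨![i.castSucc, i.succ], fun a b h => by
    fin_cases a <;> fin_cases b <;> simp [Fin.ext_iff] at h ⊢⟩

theorem nodePr_e_mem (j : Fin 2) : (nodePr R i).e j ∈ R.top := R.e_mem _

theorem nodePr_f_mem (j : Fin 2) : (nodePr R i).f j ∈ R.top := R.f_mem _

theorem nodePr_e_zero : (nodePr R i).e 0 = R.e i.castSucc := rfl

theorem nodePr_f_one : (nodePr R i).f 1 = R.f i.succ := rfl

/-- The elements of a node. -/
noncomputable def node : Matrix.SpecialLinearGroup (Fin 2) F →* ↥(gw Q R.top) :=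
  levG (nodePr R i) (nodePr_e_mem R i) (nodePr_f_mem R i)

theorem node_e_fst (k : Matrix.SpecialLinearGroup (Fin 2) F) :
    gmat (node R i k) *ᵥ R.e i.castSucc = k.1 0 0 • R.e i.castSucc + k.1 1 0 • R.e i.succ := by
  have h := lev_mulVec_e (nodePr R i) k 0
  rw [Fin.sum_univ_two] at h
  exact h

theorem node_e_snd (k : Matrix.SpecialLinearGroup (Fin 2) F) :
    gmat (node R i k) *ᵥ R.e i.succ = k.1 0 1 • R.e i.castSucc + k.1 1 1 • R.e i.succ := by
  have h := lev_mulVec_e (nodePr R i) k 1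
  rw [Fin.sum_univ_two] at h
  exact h

theorem node_perp (k : Matrix.SpecialLinearGroup (Fin 2) F) {x : ι → F}
    (h0 : QuadraticMap.polar (⇑Q) (R.e i.castSucc) x = 0) (h1 : QuadraticMap.polar (⇑Q) (R.f i.castSucc) x = 0)
    (h2 : QuadraticMap.polar (⇑Q) (R.e i.succ) x = 0) (h3 : QuadraticMap.polar (⇑Q) (R.f i.succ) x = 0) :
    gmat (node R i k) *ᵥ x = x := by
  refine lev_mulVec_perp _ _ (fun j => ?_) (fun j => ?_) <;> fin_cases j <;> assumption

theorem node_fix_e (k : Matrix.SpecialLinearGroup (Fin 2) F) {j : Fin (m + 2)} (h0 : i.castSucc ≠ j)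
    (h1 : i.succ ≠ j) : gmat (node R i k) *ᵥ R.e j = R.e j :=
  node_perp R i k (R.ee _ _) (R.toPr.fe_ne h0) (R.ee _ _) (R.toPr.fe_ne h1)

theorem node_fix_f (k : Matrix.SpecialLinearGroup (Fin 2) F) {j : Fin (m + 2)} (h0 : i.castSucc ≠ j)
    (h1 : i.succ ≠ j) : gmat (node R i k) *ᵥ R.f j = R.f j :=
  node_perp R i k (R.toPr.ef_ne h0) (R.ff _ _) (R.toPr.ef_ne h1) (R.ff _ _)

variable {V : Type*} [AddCommGroup V] [Module ℂ V] [FiniteDimensional ℂ V]
  (σ : Representation ℂ ↥(gw Q R.top) V)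

/-- Every element with this matrix fixes `v`. -/
def Fixes (v : V) (M : Matrix ι ι F) : Prop := ∀ g : ↥(gw Q R.top), gmat g = M → σ g v = v

variable {R σ}

theorem fixes_of_el {v : V} {M : Matrix ι ι F} (g : ↥(gw Q R.top)) (hg : gmat g = M) (h : σ g v = v) :
    Fixes R σ v M := fun g' hg' => by rw [show g' = g from Subtype.ext (mat_ext Q (hg'.trans hg.symm)), h]

theorem fixes_eEl {v : V} (hv : v ∈ fixT R σ) {j : Fin (m + 2)} {y : ι → F} (hy : y ∈ R.perp j) :
    Fixes R σ v (eich Q (R.e j) y) := fixes_of_el (R.eEl j ⟨y, hy⟩) rfl (hv j ⟨y, hy⟩)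

theorem fixes_mul {v : V} {g₁ g₂ : ↥(gw Q R.top)} {M₁ M₂ : Matrix ι ι F} (e1 : gmat g₁ = M₁) (e2 : gmat g₂ = M₂)
    (h1 : Fixes R σ v M₁) (h2 : Fixes R σ v M₂) : Fixes R σ v (M₁ * M₂) :=
  fixes_of_el (g₁ * g₂) (by rw [gmat_mul, e1, e2]) (by
    rw [map_mul, Module.End.mul_apply, h2 g₂ e2, h1 g₁ e1])

variable (R σ)

/-- The conjugate of a root element by a node element. -/
theorem node_conj_fixes {v : V} (hv : v ∈ fixT R σ) (k : Matrix.SpecialLinearGroup (Fin 2) F) (j : Fin (m + 2))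
    (y : R.perp j) (hy : j = i.castSucc → QuadraticMap.polar (⇑Q) (R.e i.succ) (y : ι → F) = 0) :
    Fixes R σ v (eich Q (gmat (node R i k) *ᵥ R.e j) (gmat (node R i k) *ᵥ (y : ι → F))) := by
  set a := i.castSucc with ha
  set b := i.succ with hb
  have hab : a < b := Fin.castSucc_lt_succ
  have hmemb : ∀ z ∈ R.perp a, QuadraticMap.polar (⇑Q) (R.e b) z = 0 → QuadraticMap.polar (⇑Q) (R.f b) z = 0 →
      z ∈ R.perp b := fun z hz h1 h2 => (mem_perp R b z).2 ⟨hz.1, fun l hl => by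
    rcases eq_or_lt_of_le hl with rfl | hl
    · exact ⟨h1, h2⟩
    · exact hz.2 l (Fin.le_castSucc_iff.2 hl)⟩
  have hea : QuadraticMap.polar (⇑Q) (R.e a) (R.e b) = 0 := R.ee _ _
  have hebmem : R.e b ∈ R.perp a := (mem_perp R a _).2 ⟨R.e_mem _, fun l hl =>
    ⟨R.ee _ _, R.toPr.fe_ne (ne_of_lt (lt_of_le_of_lt hl hab))⟩⟩
  have line : ∀ (A B : F) (z : ι → F), z ∈ R.perp b → Fixes R σ v (eich Q (A • R.e a + B • R.e b) z) := by
    intro A B z hz
    have hza : z ∈ R.perp a := (mem_perp R a z).2 ⟨hz.1, fun l hl => hz.2 l (hl.trans hab.le)⟩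
    have p1 := (hza.2 a le_rfl).1
    have p2 := (hz.2 b le_rfl).1
    rw [eich_add_left (by rw [QuadraticMap.map_smul, R.qe, smul_zero]) (R.qe b)
      (by rw [QuadraticMap.polar_smul_left, hea, smul_zero]) (by rw [QuadraticMap.polar_smul_left, p1, smul_zero])
      p2 B]
    have h1 : Fixes R σ v (eich Q (A • R.e a) z) := by
      rw [eich_smul_left]; exact fixes_eEl hv ((R.perp a).smul_mem A hza)
    have hs : QuadraticMap.polar (⇑Q) (R.e b) ((B * Q z) • A • R.e a) = 0 := by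
      rw [QuadraticMap.polar_smul_right, QuadraticMap.polar_smul_right, R.ee]; simp
    have h2a : Fixes R σ v (eich Q (R.e b) (B • z)) := fixes_eEl hv ((R.perp b).smul_mem B hz)
    have h2b : Fixes R σ v (eich Q (R.e b) ((B * Q z) • A • R.e a)) := by
      rw [eich_swap (R.qe b) (by simp [QuadraticMap.map_smul, R.qe]), eich_smul_left, eich_smul_left,
        smul_smul]
      exact fixes_eEl hv ((R.perp a).smul_mem _ ((R.perp a).neg_mem hebmem))
    have hBz : QuadraticMap.polar (⇑Q) (R.e b) (B • z) = 0 := by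
      rw [QuadraticMap.polar_smul_right, p2, smul_zero]
    have e2a : gmat (⟨eichIso Q (R.e b) (B • z) (R.qe b) hBz, eichIso_mem_gw (R.e_mem b) (R.top.smul_mem _ hz.1) _ _⟩ :
      ↥(gw Q R.top)) = eich Q (R.e b) (B • z) := rfl
    have e2b : gmat (⟨eichIso Q (R.e b) ((B * Q z) • A • R.e a) (R.qe b) hs,
      eichIso_mem_gw (R.e_mem b) (R.top.smul_mem _ (R.top.smul_mem _ (R.e_mem a))) _ _⟩ : ↥(gw Q R.top)) =
        eich Q (R.e b) ((B * Q z) • A • R.e a) := rfl
    have hAa : Q (A • R.e a) = 0 := by rw [QuadraticMap.map_smul, R.qe, smul_zero]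
    have hAz : QuadraticMap.polar (⇑Q) (A • R.e a) z = 0 := by rw [QuadraticMap.polar_smul_left, p1, smul_zero]
    have hsum : QuadraticMap.polar (⇑Q) (R.e b) (B • z + (B * Q z) • A • R.e a) = 0 := by
      rw [QuadraticMap.polar_add_right, hBz, hs, add_zero]
    refine fixes_mul
      (g₁ := ⟨eichIso Q (A • R.e a) z hAa hAz, eichIso_mem_gw (R.top.smul_mem _ (R.e_mem a)) hz.1 _ _⟩)
      (g₂ := ⟨eichIso Q (R.e b) (B • z + (B * Q z) • A • R.e a) (R.qe b) hsum, eichIso_mem_gw (R.e_mem b)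
        (R.top.add_mem (R.top.smul_mem _ hz.1) (R.top.smul_mem _ (R.top.smul_mem _ (R.e_mem a)))) _ _⟩)
      rfl rfl h1 ?_
    rw [← eich_mul (R.qe b) hBz hs]
    exact fixes_mul e2a e2b h2a h2b
  rcases lt_trichotomy j a with hj | hj | hj
  · rw [node_fix_e R i k (ne_of_gt hj) (ne_of_gt (hj.trans hab))]
    refine fixes_eEl hv ((mem_perp R j _).2 ⟨(gw_spec (node R i k).2).1 _ y.2.1, fun l hl => ?_⟩)
    have hla : l < a := lt_of_le_of_lt hl hj
    constructor
    · rw [← node_fix_e R i k (ne_of_gt hla) (ne_of_gt (hla.trans hab))]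
      exact (polar_mulVec Q _ _ _).trans (y.2.2 l hl).1
    · rw [← node_fix_f R i k (ne_of_gt hla) (ne_of_gt (hla.trans hab))]
      exact (polar_mulVec Q _ _ _).trans (y.2.2 l hl).2
  · subst hj
    set p := QuadraticMap.polar (⇑Q) (R.f b) (y : ι → F)
    set y' : ι → F := (y : ι → F) - p • R.e b
    have hy' : y' ∈ R.perp b := by
      refine hmemb _ ((R.perp a).sub_mem y.2 ((R.perp a).smul_mem _ hebmem)) ?_ ?_
      · simp [y', QuadraticMap.polar_sub_right, QuadraticMap.polar_smul_right, hy rfl, R.ee]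
      · simp [y', p, QuadraticMap.polar_sub_right, QuadraticMap.polar_smul_right, R.toPr.fe_self]
    have hfixy : gmat (node R i k) *ᵥ y' = y' :=
      node_perp R i k (hy'.2 a hab.le).1 (hy'.2 a hab.le).2 (hy'.2 b le_rfl).1 (hy'.2 b le_rfl).2
    set u := k.1 0 0 • R.e a + k.1 1 0 • R.e b
    set w := p • (k.1 0 1 • R.e a + k.1 1 1 • R.e b)
    have hk : gmat (node R i k) *ᵥ (y : ι → F) = w + y' := by
      rw [show (y : ι → F) = p • R.e b + y' by simp [y'], Matrix.mulVec_add, Matrix.mulVec_smul, node_e_snd, hfixy]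
    have hu : gmat (node R i k) *ᵥ R.e a = u := node_e_fst R i k
    rw [hk, hu]
    have hqu : Q u = 0 := by rw [← hu]; exact (quad_mulVec Q _ _).trans (R.qe a)
    have hub : QuadraticMap.polar (⇑Q) u w = 0 := by
      simp [u, w, QuadraticMap.polar_add_left, QuadraticMap.polar_add_right, QuadraticMap.polar_smul_left,
        QuadraticMap.polar_smul_right, R.ee]
    have huy : QuadraticMap.polar (⇑Q) u y' = 0 := by
      simp [u, QuadraticMap.polar_add_left, QuadraticMap.polar_smul_left, (hy'.2 a hab.le).1, (hy'.2 b le_rfl).1]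
    have hut : u ∈ R.top := R.top.add_mem (R.top.smul_mem _ (R.e_mem _)) (R.top.smul_mem _ (R.e_mem _))
    have hwt : w ∈ R.top :=
      R.top.smul_mem _ (R.top.add_mem (R.top.smul_mem _ (R.e_mem _)) (R.top.smul_mem _ (R.e_mem _)))
    rw [← eich_mul hqu hub huy]
    refine fixes_mul (g₁ := ⟨eichIso Q u w hqu hub, eichIso_mem_gw hut hwt _ _⟩)
      (g₂ := ⟨eichIso Q u y' hqu huy, eichIso_mem_gw hut hy'.1 _ _⟩) rfl rfl ?_ (line _ _ _ hy')
    rw [show w = (p * k.1 0 1) • R.e a + (p * k.1 1 1) • R.e b by simp only [w]; module,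
      eich_plane (R.qe a) (R.qe b) hea]
    exact fixes_eEl hv ((R.perp a).smul_mem _ hebmem)
  · rcases eq_or_lt_of_le (Fin.castSucc_lt_iff_succ_le.1 hj : b ≤ j) with hbj | hbj
    · subst hbj
      rw [node_e_snd, node_perp R i k (y.2.2 a hab.le).1 (y.2.2 a hab.le).2 (y.2.2 b le_rfl).1 (y.2.2 b le_rfl).2]
      exact line _ _ _ y.2
    · rw [node_fix_e R i k (ne_of_lt hj) (ne_of_lt hbj),
        node_perp R i k (y.2.2 a hj.le).1 (y.2.2 a hj.le).2 (y.2.2 b hbj.le).1 (y.2.2 b hbj.le).2]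
      exact fixes_eEl hv y.2

/-- The upper transvection of a node. -/
noncomputable def upEl (c : F) : ↥(gw Q R.top) :=
  node R i ⟨Matrix.transvection 0 1 c, Matrix.det_transvection_of_ne 0 1 (by decide) c⟩

theorem gmat_upEl (c : F) : gmat (upEl R i c) = eich Q (R.e i.castSucc) (-c • R.f i.succ) := by
  have h := lev_transvection (nodePr R i) (i := 0) (j := 1) (show (0 : Fin 2) ≠ 1 by decide) c
    ⟨Matrix.transvection 0 1 c, Matrix.det_transvection_of_ne 0 1 (by decide) c⟩ rfl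
  rw [nodePr_e_zero, nodePr_f_one] at h
  exact h

/-- Combinations of node translates of fixed vectors fixed by the transvections are fixed. -/
theorem mem_fixT_of_node {κ : Type*} (s : Finset κ) (c : κ → ℂ) (k : κ → Matrix.SpecialLinearGroup (Fin 2) F)
    (v : κ → V) (hv : ∀ l ∈ s, v l ∈ fixT R σ)
    (hup : ∀ t : F, σ (upEl R i t) (∑ l ∈ s, c l • σ (node R i (k l)) (v l)) =
      ∑ l ∈ s, c l • σ (node R i (k l)) (v l)) :
    ∑ l ∈ s, c l • σ (node R i (k l)) (v l) ∈ fixT R σ := by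
  set z := ∑ l ∈ s, c l • σ (node R i (k l)) (v l) with hz
  have key : ∀ (j : Fin (m + 2)) (y : R.perp j),
      (j = i.castSucc → QuadraticMap.polar (⇑Q) (R.e i.succ) (y : ι → F) = 0) → σ (R.eEl j y) z = z := by
    intro j y hy
    rw [hz, map_sum]
    refine Finset.sum_congr rfl fun l hl => ?_
    rw [map_smul]
    congr 1
    have hf := node_conj_fixes R i σ (hv l hl) (k l)⁻¹ j y hy ((node R i (k l))⁻¹ * R.eEl j y * node R i (k l)) (by
      have e0 := conj_eich (node R i (k l)⁻¹ : ↥(Cfsg.isometryGroup F ⇑Q)) (R.e j) (y : ι → F)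
      rw [gmat_mul, gmat_mul, ← map_inv]
      show gmat (node R i (k l)⁻¹) * eich Q (R.e j) (y : ι → F) * gmat (node R i (k l)) = _
      rw [show gmat (node R i (k l)⁻¹) * eich Q (R.e j) (y : ι → F) = _ from e0, mul_assoc, ← gmat_mul, ← map_mul,
        inv_mul_cancel, map_one, gmat_one, mul_one])
    have h2 := congrArg (σ (node R i (k l))) hf
    simp only [← Module.End.mul_apply, ← map_mul, ← mul_assoc, mul_inv_cancel, one_mul] at h2
    rw [← Module.End.mul_apply, ← map_mul, h2]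
  intro j y
  by_cases hj : j = i.castSucc
  swap
  · exact key j y fun h => absurd h hj
  subst hj
  set r := QuadraticMap.polar (⇑Q) (R.e i.succ) (y : ι → F)
  have hfb : R.f i.succ ∈ R.perp i.castSucc := (mem_perp R _ _).2 ⟨R.f_mem _, fun l hl =>
    ⟨R.toPr.ef_ne (ne_of_lt (lt_of_le_of_lt hl Fin.castSucc_lt_succ)), R.ff _ _⟩⟩
  set y' : R.perp i.castSucc := y - r • ⟨_, hfb⟩ with hy'
  have h1 : σ (R.eEl i.castSucc y') z = z := key _ _ fun _ => by
    simp [hy', r, QuadraticMap.polar_sub_right, QuadraticMap.polar_smul_right, R.toPr.ef_self]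
  have h2 : R.eEl i.castSucc y = upEl R i (-r) * R.eEl i.castSucc y' := by
    refine Subtype.ext (mat_ext Q ?_)
    show eich Q (R.e i.castSucc) (y : ι → F) = gmat (upEl R i (-r)) * eich Q (R.e i.castSucc) (y' : ι → F)
    rw [gmat_upEl, neg_neg, eich_mul (R.qe _) (by rw [QuadraticMap.polar_smul_right, (hfb.2 _ le_rfl).1, smul_zero])
      (y'.2.2 _ le_rfl).1]
    simp [hy']
  rw [h2, map_mul, Module.End.mul_apply, h1, hup]

/-- The average over a node. -/
noncomputable def nodeAvg : End ℂ V :=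
  (Fintype.card (Matrix.SpecialLinearGroup (Fin 2) F) : ℂ)⁻¹ • ∑ k, σ (node R i k)

theorem node_mul_avg (k : Matrix.SpecialLinearGroup (Fin 2) F) (v : V) :
    σ (node R i k) (nodeAvg R i σ v) = nodeAvg R i σ v := by
  rw [nodeAvg, LinearMap.smul_apply, map_smul, LinearMap.sum_apply, map_sum]
  congr 1
  refine Fintype.sum_equiv (Equiv.mulLeft k) _ _ fun l => ?_
  rw [Equiv.coe_mulLeft, map_mul, map_mul, Module.End.mul_apply]

theorem nodeAvg_apply_avg (v : V) : nodeAvg R i σ (nodeAvg R i σ v) = nodeAvg R i σ v := by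
  show ((Fintype.card (Matrix.SpecialLinearGroup (Fin 2) F) : ℂ)⁻¹ • ∑ k, σ (node R i k)) (nodeAvg R i σ v) = _
  rw [LinearMap.smul_apply, LinearMap.sum_apply, Finset.sum_congr rfl fun k _ => node_mul_avg R i σ k v, Finset.sum_const, Finset.card_univ,
    ← Nat.cast_smul_eq_nsmul ℂ, smul_smul, inv_mul_cancel₀ (Nat.cast_ne_zero.2 Fintype.card_ne_zero), one_smul]

theorem nodeAvg_mem {v : V} (hv : v ∈ fixT R σ) : nodeAvg R i σ v ∈ fixT R σ := by
  have e : nodeAvg R i σ v = ∑ k, (Fintype.card (Matrix.SpecialLinearGroup (Fin 2) F) : ℂ)⁻¹ • σ (node R i k) v := by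
    rw [nodeAvg, LinearMap.smul_apply, LinearMap.sum_apply, Finset.smul_sum]
  rw [e]
  refine mem_fixT_of_node R i σ Finset.univ _ id (fun _ => v) (fun _ _ => hv) fun t => ?_
  show σ (upEl R i t) (∑ k, _ • σ (node R i k) v) = _
  rw [← e]
  exact (node_mul_avg R i σ _ v).trans e

end node

end CfsgLib.OrthDeg
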