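import Cfsg.Agent.OrthDeg.OddTorus

/-!
# The characters of the torus on the common fixed space
-/

set_option autoImplicit false
set_option linter.unusedSectionVars false

namespace CfsgLib.OrthDeg

open Matrix Module CfsgLib.Forms CfsgLib.Spinor CfsgLib.Forms4 CfsgLib.RepBounds

variable {F : Type*} [Field F] [Fintype F] [DecidableEq F] {ι : Type} [Fintype ι] [DecidableEq ι]
  {Q : QuadraticForm F (ι → F)}

noncomputable local instance subFintypeOddOrbit (S : Submodule F (ι → F)) : Fintype S := Fintype.ofFinite S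

theorem choose_ge : ∀ {n k : ℕ}, 1 ≤ k → k + 1 ≤ n → n ≤ n.choose k
  | 0, k, _, h => by omega
  | n + 1, 0, h, _ => by omega
  | n + 1, k + 1, _, h => by
    rw [Nat.choose_succ_succ']
    rcases Nat.eq_zero_or_pos k with rfl | hk
    · simp [Nat.choose_one_right, add_comm]
    · have h1 := choose_ge (n := n) hk (by omega)
      have h2 : 0 < n.choose (k + 1) := Nat.choose_pos (by omega)
      omega

theorem choose_gt {n k : ℕ} (hk : 2 ≤ k) (h : k + 2 ≤ n) : n + 1 ≤ n.choose k := by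
  obtain ⟨m, rfl⟩ : ∃ m, n = m + 1 := ⟨n - 1, by omega⟩
  obtain ⟨j, rfl⟩ : ∃ j, k = j + 1 := ⟨k - 1, by omega⟩
  rw [Nat.choose_succ_succ']
  have h1 := choose_ge (n := m) (k := j) (by omega) (by omega)
  have h2 := choose_ge (n := m) (k := j + 1) (by omega) (by omega)
  omega

/-- A character with trivial square is determined by being non-trivial. -/
theorem sq_char_unique {s s' : Fˣ →* ℂˣ} (h : ∀ t, s (t * t) = 1) (h' : ∀ t, s' (t * t) = 1) (hs : s ≠ 1)
    (hs' : s' ≠ 1) : s = s' := by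
  obtain ⟨g, hg⟩ := IsCyclic.exists_generator (α := Fˣ)
  have key : ∀ φ : Fˣ →* ℂˣ, (∀ t, φ (t * t) = 1) → φ ≠ 1 → φ g = -1 := by
    intro φ hφ hne
    have h1 : ((φ g : ℂˣ) : ℂ) * (φ g : ℂˣ) = 1 := by rw [← Units.val_mul, ← map_mul, hφ, Units.val_one]
    rcases mul_self_eq_one_iff.1 h1 with h2 | h2
    · refine absurd (MonoidHom.ext fun t => ?_) hne
      obtain ⟨k, rfl⟩ := Subgroup.mem_zpowers_iff.1 (hg t)
      rw [map_zpow, show φ g = 1 from Units.ext h2, _root_.one_zpow, MonoidHom.one_apply]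
    · exact Units.ext (by simpa using h2)
  refine MonoidHom.ext fun t => ?_
  obtain ⟨k, rfl⟩ := Subgroup.mem_zpowers_iff.1 (hg t)
  rw [map_zpow, map_zpow, key s h hs, key s' h' hs']

variable {k : ℕ}

/-- The character attached to a tuple. -/
def theta (η : Fin k → Fˣ →* ℂˣ) : torusGrp F k →* ℂˣ where
  toFun x := ∏ j, η j (x.1 j)
  map_one' := by simp
  map_mul' x y := by simp [Finset.prod_mul_distrib]

theorem prod_mulSingle (j : Fin k) (a : Fˣ) : ∏ l, (Pi.mulSingle j a : Fin k → Fˣ) l = a := by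
  rw [Finset.prod_eq_single j (fun l _ hl => by rw [Pi.mulSingle_eq_of_ne hl]) (by simp), Pi.mulSingle_eq_same]

/-- `t` at `a` and `t⁻¹` at `b`. -/
def pairTuple (a b : Fin k) (t : Fˣ) : torusGrp F k :=
  ⟨Pi.mulSingle a t * Pi.mulSingle b t⁻¹, by
    show ∏ j, (Pi.mulSingle a t * Pi.mulSingle b t⁻¹ : Fin k → Fˣ) j = 1
    simp only [Pi.mul_apply, Finset.prod_mul_distrib, prod_mulSingle, mul_inv_cancel]⟩

theorem theta_pairTuple (η : Fin k → Fˣ →* ℂˣ) (a b : Fin k) (t : Fˣ) :
    theta η (pairTuple a b t) = η a t * (η b t)⁻¹ := by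
  show ∏ j, η j ((Pi.mulSingle a t * Pi.mulSingle b t⁻¹ : Fin k → Fˣ) j) = _
  simp only [Pi.mul_apply, map_mul, Finset.prod_mul_distrib]
  rw [Finset.prod_eq_single a (fun l _ hl => by rw [Pi.mulSingle_eq_of_ne hl, map_one]) (by simp),
    Finset.prod_eq_single b (fun l _ hl => by rw [Pi.mulSingle_eq_of_ne hl, map_one]) (by simp)]
  simp

variable {V : Type} [AddCommGroup V] [Module ℂ V] [FiniteDimensional ℂ V]

/-- An eigenvector in the common fixed space. -/
def Occurs {k : ℕ} (R : Fr Q k) (σ : Representation ℂ ↥(gw Q R.top) V) (η : Fin k → Fˣ →* ℂˣ) : Prop :=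
  ∃ v ∈ fixT R σ, v ≠ 0 ∧ ∀ x, σ (dEl R x) v = ((theta η x : ℂˣ) : ℂ) • v

variable {m : ℕ} (R : Fr Q (m + 2)) (σ : Representation ℂ ↥(gw Q R.top) V)

theorem isDiag_node (i : Fin (m + 1)) (t : Fˣ) :
    IsDiag R (node R i (diagTwo t)) (pairTuple i.castSucc i.succ t).1 := by
  have hne : i.castSucc ≠ i.succ := ne_of_lt Fin.castSucc_lt_succ
  refine ⟨fun j => ?_, fun j => ?_, fun z hz => ?_⟩
  · by_cases h0 : i.castSucc = j
    · subst h0
      rw [node_e_fst]; simp [coe_diagTwo, pairTuple, hne]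
    by_cases h1 : i.succ = j
    · subst h1
      rw [node_e_snd]; simp [coe_diagTwo, pairTuple, hne.symm]
    · rw [node_fix_e R i _ h0 h1]; simp [pairTuple, Ne.symm h0, Ne.symm h1]
  · by_cases h0 : i.castSucc = j
    · subst h0
      refine ((hEl_f (nodePr R i) (nodePr_e_mem R i) (nodePr_f_mem R i) t).1).trans ?_
      show (t : F)⁻¹ • R.f i.castSucc = _
      simp [pairTuple, hne]
    by_cases h1 : i.succ = j
    · subst h1
      refine ((hEl_f (nodePr R i) (nodePr_e_mem R i) (nodePr_f_mem R i) t).2).trans ?_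
      show (t : F) • R.f i.succ = _
      simp [pairTuple, hne.symm]
    · rw [node_fix_f R i _ h0 h1]; simp [pairTuple, Ne.symm h0, Ne.symm h1]
  · obtain ⟨-, hp⟩ := core_spec R hz
    exact node_perp R i _ (hp _).1 (hp _).2 (hp _).1 (hp _).2

theorem node_diag_eq (i : Fin (m + 1)) (t : Fˣ) :
    node R i (diagTwo t) = dEl R (pairTuple i.castSucc i.succ t) :=
  (isDiag_node R i t).eq (isDiag_dEl R _)

variable {R σ}

theorem twine_ne_zero {η : Fin (m + 2) → Fˣ →* ℂˣ} {i : Fin (m + 1)} (hne : η i.castSucc ≠ η i.succ) {v : V}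
    (hv : v ∈ fixT R σ) (hv0 : v ≠ 0) (hvd : ∀ x, σ (dEl R x) v = ((theta η x : ℂˣ) : ℂ) • v) :
    twine R i σ v ≠ 0 := by
  intro h0
  set φ : Fˣ →* ℂ := (Units.coeHom ℂ).comp (η i.castSucc * (η i.succ)⁻¹)
  have hφ : ∀ t : Fˣ, σ (node R i (diagTwo t)) v = φ t • v := fun t => by
    rw [node_diag_eq, hvd, theta_pairTuple]; rfl
  have h1 : φ ≠ 1 := fun h => hne (MonoidHom.ext fun t => by
    have h2 : (((η i.castSucc * (η i.succ)⁻¹) t : ℂˣ) : ℂ) = 1 := DFunLike.congr_fun h t
    exact mul_inv_eq_one.1 (Units.ext h2))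
  have h2 := twine_twine R i σ hv hφ h1
  rw [h0] at h2
  simp only [twine, map_zero, Finset.sum_const_zero] at h2
  rcases smul_eq_zero.1 h2.symm with h3 | h3
  · exact mul_ne_zero (Nat.cast_ne_zero.2 Fintype.card_ne_zero) (by
      simp only [φ, MonoidHom.comp_apply, Units.coeHom_apply]
      exact Units.ne_zero _) h3
  · exact hv0 h3

theorem Occurs.swap {η : Fin (m + 2) → Fˣ →* ℂˣ} (h : Occurs R σ η) (i : Fin (m + 1)) :
    Occurs R σ (η ∘ Equiv.swap i.castSucc i.succ) := by
  by_cases hne : η i.castSucc = η i.succ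
  · rwa [show η ∘ Equiv.swap i.castSucc i.succ = η from funext fun j => by
      rw [Function.comp_apply, Equiv.swap_apply_def]
      split_ifs with h0 h1 <;> simp_all]
  obtain ⟨v, hv, hv0, hvd⟩ := h
  refine ⟨twine R i σ v, twine_mem R i σ hv, twine_ne_zero hne hv hv0 hvd, fun x => ?_⟩
  set x' : torusGrp F (m + 2) := ⟨swapAt i x.1, by
    show ∏ j, swapAt i x.1 j = 1
    exact (Equiv.prod_comp (Equiv.swap i.castSucc i.succ) x.1).trans x.2⟩
  rw [twine_eigen R i σ (isDiag_dEl R x) (isDiag_dEl R x') (hvd x')]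
  congr 2
  show ∏ j, η j (x.1 (Equiv.swap i.castSucc i.succ j)) = ∏ j, η (Equiv.swap i.castSucc i.succ j) (x.1 j)
  exact Fintype.prod_equiv (Equiv.swap i.castSucc i.succ) _ _ fun j => by simp

theorem Occurs.perm {η : Fin (m + 2) → Fˣ →* ℂˣ} (h : Occurs R σ η) (π : Equiv.Perm (Fin (m + 2))) :
    Occurs R σ (η ∘ π) := by
  have hπ : π ∈ Submonoid.closure (Set.range fun i : Fin (m + 1) => Equiv.swap i.castSucc i.succ) := by
    rw [Equiv.Perm.mclosure_swap_castSucc_succ]; trivial
  induction hπ using Submonoid.closure_induction generalizing η with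
  | mem x hx => obtain ⟨i, rfl⟩ := hx; exact h.swap i
  | one => exact h
  | mul x y _ _ hx hy => exact hy (hx h)

/-- Every ratio of entries has trivial square. -/
theorem Occurs.ratio_sq (hR : IsOdd R)
    (hshort : ∀ v ∈ fixT R σ, ∀ y : R.perp (Fin.last (m + 1)), σ (R.fEl (Fin.last (m + 1)) y) v = v)
    {η : Fin (m + 2) → Fˣ →* ℂˣ} (h : Occurs R σ η) (j : Fin (m + 2)) (t : Fˣ) :
    η j (t * t) = η (Fin.last (m + 1)) (t * t) := by
  suffices H : ∀ η : Fin (m + 2) → Fˣ →* ℂˣ, Occurs R σ η →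
      η (Fin.last m).castSucc (t * t) = η (Fin.last (m + 1)) (t * t) by
    rcases Fin.eq_castSucc_or_eq_last j with ⟨l, rfl⟩ | rfl
    swap
    · rfl
    have h1 := H _ (h.perm (Equiv.swap l.castSucc (Fin.last m).castSucc))
    rwa [Function.comp_apply, Function.comp_apply, Equiv.swap_apply_right,
      Equiv.swap_apply_of_ne_of_ne (Fin.castSucc_lt_last _).ne' (Fin.castSucc_lt_last _).ne'] at h1
  intro η h
  set i : Fin (m + 1) := Fin.last m
  have hsucc : i.succ = Fin.last (m + 1) := Fin.succ_last m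
  by_cases hne : η i.castSucc = η i.succ
  · rw [hne, hsucc]
  obtain ⟨v, hv, hv0, hvd⟩ := h
  obtain ⟨g, hg, hgfix⟩ := exists_lastSq (m + 1) R hR t
  have hfix : ∀ w ∈ fixT R σ, σ g w = w := fun w hw => hgfix V σ w hw (hshort w hw)
  have hx : Pi.mulSingle (Fin.last (m + 1)) (t * t) ∘ Equiv.swap i.castSucc i.succ =
      (pairTuple i.castSucc i.succ (t * t)).1 * Pi.mulSingle (Fin.last (m + 1)) (t * t) := by
    funext l
    rw [hsucc]
    have hne' : i.castSucc ≠ Fin.last (m + 1) := (Fin.castSucc_lt_last i).ne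
    by_cases h0 : l = i.castSucc
    · subst h0; simp [pairTuple, hne']
    by_cases h1 : l = Fin.last (m + 1)
    · subst h1; simp [pairTuple, hne', Ne.symm hne']
    · simp [pairTuple, Pi.mulSingle_eq_of_ne h0, Pi.mulSingle_eq_of_ne h1, Equiv.swap_apply_of_ne_of_ne h0 h1]
  have hg' : IsDiag R (dEl R (pairTuple i.castSucc i.succ (t * t)) * g)
      (swapAt i (Pi.mulSingle (Fin.last (m + 1)) (t * t))) := by
    show IsDiag R _ (Pi.mulSingle (Fin.last (m + 1)) (t * t) ∘ Equiv.swap i.castSucc i.succ)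
    rw [hx]
    exact (isDiag_dEl R _).mul hg
  have he := twine_eigen R i σ hg hg' (v := v) (c := ((theta η (pairTuple i.castSucc i.succ (t * t)) : ℂˣ) : ℂ)) (by
    rw [map_mul, Module.End.mul_apply, hfix v hv, hvd])
  rw [hfix _ (twine_mem R i σ hv)] at he
  have hz : (1 - ((theta η (pairTuple i.castSucc i.succ (t * t)) : ℂˣ) : ℂ)) • twine R i σ v = 0 := by
    rw [sub_smul, one_smul, ← he, sub_self]
  have h1 := (smul_eq_zero.1 hz).resolve_right (twine_ne_zero hne hv hv0 hvd)
  rw [theta_pairTuple, sub_eq_zero] at h1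
  rw [← hsucc]
  exact mul_inv_eq_one.1 (Units.ext h1.symm)

/-- Eigenvectors with different characters are independent. -/
theorem card_le_of_occurs {k : ℕ} (R : Fr Q k) (σ : Representation ℂ ↥(gw Q R.top) V) {I : Type*} [Fintype I]
    (η : I → Fin k → Fˣ →* ℂˣ) (h : ∀ a, Occurs R σ (η a)) (hinj : Function.Injective fun a => theta (η a)) :
    Fintype.card I ≤ finrank ℂ (fixT R σ) := by
  classical
  choose v hv hv0 hvd using h
  have : Fintype (torusGrp F k) := Fintype.ofFinite _
  let w : I → fixT R σ := fun a => ⟨v a, hv a⟩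
  refine LinearIndependent.fintype_card_le_finrank (b := w) (Fintype.linearIndependent_iff.2 fun c hc a => ?_)
  have h1 : ∑ b, c b • v b = 0 := by simpa [w] using congrArg Subtype.val hc
  have h2 := congrArg (fun u => ∑ x : torusGrp F k, (((theta (η a) x)⁻¹ : ℂˣ) : ℂ) • σ (dEl R x) u) h1
  simp only [map_zero, smul_zero, Finset.sum_const_zero, map_sum, map_smul, hvd, Finset.smul_sum, smul_smul] at h2
  rw [Finset.sum_comm] at h2
  simp only [← Finset.sum_smul] at h2
  rw [Finset.sum_eq_single a (fun b _ hb => ?_) (by simp)] at h2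
  · have h3 : ∑ x : torusGrp F k, (((theta (η a) x)⁻¹ : ℂˣ) : ℂ) * (c a * ((theta (η a) x : ℂˣ) : ℂ)) =
        (Fintype.card (torusGrp F k) : ℂ) * c a := by
      rw [Finset.sum_congr rfl (g := fun _ => c a) fun x _ => by rw [mul_comm (c a), Units.inv_mul_cancel_left],
        Finset.sum_const, Finset.card_univ, nsmul_eq_mul]
    rw [h3] at h2
    rcases smul_eq_zero.1 h2 with h4 | h4
    · exact (mul_eq_zero.1 h4).resolve_left (Nat.cast_ne_zero.2 Fintype.card_ne_zero)
    · exact absurd h4 (hv0 a)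
  · set φ : torusGrp F k →* ℂˣ := (theta (η a))⁻¹ * theta (η b)
    have hφ : φ ≠ 1 := fun h0 => hb (hinj (show theta (η b) = theta (η a) from (inv_mul_eq_one.1 h0).symm))
    have hsum : ∑ x : torusGrp F k, ((φ x : ℂˣ) : ℂ) = 0 := by
      obtain ⟨y, hy⟩ : ∃ y, φ y ≠ 1 := by
        by_contra hh
        push Not at hh
        exact hφ (MonoidHom.ext hh)
      have e : ∑ x : torusGrp F k, ((φ x : ℂˣ) : ℂ) = ((φ y : ℂˣ) : ℂ) * ∑ x : torusGrp F k, ((φ x : ℂˣ) : ℂ) := by
        rw [Finset.mul_sum]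
        exact (Fintype.sum_equiv (Equiv.mulLeft y) _ _ fun x => by simp).symm
      rcases mul_eq_zero.1 (show (((φ y : ℂˣ) : ℂ) - 1) * ∑ x : torusGrp F k, ((φ x : ℂˣ) : ℂ) = 0 by
        linear_combination -e) with h5 | h5
      · exact absurd (Units.ext (sub_eq_zero.1 h5)) hy
      · exact h5
    rw [Finset.sum_congr rfl (g := fun x => c b * ((φ x : ℂˣ) : ℂ)) fun x _ => by
      simp only [φ, MonoidHom.mul_apply, MonoidHom.inv_apply, Units.val_mul]; ring, ← Finset.mul_sum, hsum,
      mul_zero, zero_smul]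

/-- Either the torus fixes the common fixed space or some non-constant tuple occurs. -/
theorem torus_cases (R : Fr Q (m + 2)) (σ : Representation ℂ ↥(gw Q R.top) V) :
    (∀ v ∈ fixT R σ, ∀ x, σ (dEl R x) v = v) ∨
      ∃ η, Occurs R σ η ∧ ∃ j, η j ≠ η (Fin.last (m + 1)) := by
  classical
  by_cases hall : ∀ v ∈ fixT R σ, ∀ x, σ (dEl R x) v = v
  · exact .inl hall
  right
  push Not at hall
  obtain ⟨v, hv, x₀, hx₀⟩ := hall
  have : Fintype (torusGrp F (m + 2)) := Fintype.ofFinite _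
  let z : AddChar (Additive (torusGrp F (m + 2))) ↥(gw Q R.top) :=
    { toFun := fun a => dEl R a.toMul
      map_zero_eq_one' := map_one _
      map_add_eq_mul' := fun a b => map_mul (dEl R) a.toMul b.toMul }
  have hmem : ∀ χ, proj (resChar σ z) χ v ∈ fixT R σ := fun χ => by
    rw [proj, LinearMap.smul_apply, LinearMap.sum_apply]
    refine Submodule.smul_mem _ _ (Submodule.sum_mem _ fun a _ => ?_)
    rw [LinearMap.smul_apply]
    exact Submodule.smul_mem _ _ ((isDiag_dEl R a.toMul).fixT_mem σ hv)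
  have hmulv : ∀ χ a, σ (z a) (proj (resChar σ z) χ v) = χ a • proj (resChar σ z) χ v := fun χ a => by
    rw [← resChar_apply σ z, ← Module.End.mul_apply, map_mul_proj, LinearMap.smul_apply]
  obtain ⟨χ, hχ, hχne⟩ : ∃ χ, proj (resChar σ z) χ v ≠ 0 ∧ χ ≠ 0 := by
    by_contra h
    push Not at h
    refine hx₀ ?_
    have hv' : v = proj (resChar σ z) 0 v := by
      have h1 := LinearMap.congr_fun (sum_proj (resChar σ z)) v
      rw [LinearMap.sum_apply, Finset.sum_eq_single 0 (fun χ _ hχ => by_contra fun h0 => hχ (h χ h0)) (by simp)] at h1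
      exact h1.symm
    rw [hv']
    exact (hmulv 0 (Additive.ofMul x₀)).trans (one_smul _ _)
  let θ : torusGrp F (m + 2) →* ℂˣ :=
    MonoidHom.toHomUnits
      { toFun := fun x => χ (Additive.ofMul x)
        map_one' := χ.map_zero_eq_one
        map_mul' := fun x y => χ.map_add_eq_mul (Additive.ofMul x) (Additive.ofMul y) }
  let η : Fin (m + 2) → Fˣ →* ℂˣ := fun j =>
    { toFun := fun t => θ (pairTuple j (Fin.last (m + 1)) t)
      map_one' := by
        rw [show pairTuple j (Fin.last (m + 1)) (1 : Fˣ) = 1 from Subtype.ext (by simp [pairTuple]), map_one]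
      map_mul' := fun s t => by
        rw [← map_mul θ]
        congr 1
        refine Subtype.ext ?_
        show _ = ((Pi.mulSingle j s : Fin (m + 2) → Fˣ) * Pi.mulSingle (Fin.last (m + 1)) s⁻¹) *
          ((Pi.mulSingle j t : Fin (m + 2) → Fˣ) * Pi.mulSingle (Fin.last (m + 1)) t⁻¹)
        rw [mul_mul_mul_comm, ← Pi.mulSingle_mul, ← Pi.mulSingle_mul, ← mul_inv]
        rfl }
  have hθ : theta η = θ := by
    refine MonoidHom.ext fun x => ?_
    show ∏ j, θ (pairTuple j (Fin.last (m + 1)) (x.1 j)) = θ x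
    rw [← map_prod]
    congr 1
    refine Subtype.ext (funext fun l => ?_)
    rw [Submonoid.coe_finset_prod, Finset.prod_apply]
    show ∏ j, ((Pi.mulSingle j (x.1 j) : Fin (m + 2) → Fˣ) l *
      (Pi.mulSingle (Fin.last (m + 1)) (x.1 j)⁻¹ : Fin (m + 2) → Fˣ) l) = x.1 l
    rw [Finset.prod_mul_distrib, Finset.prod_eq_single l (fun j _ hj => by rw [Pi.mulSingle_eq_of_ne hj.symm])
      (by simp), Pi.mulSingle_eq_same]
    by_cases hl : l = Fin.last (m + 1)
    · subst hl
      simp only [Pi.mulSingle_eq_same, Finset.prod_inv_distrib, show ∏ j, x.1 j = 1 from x.2, inv_one, mul_one]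
    · simp [Pi.mulSingle_eq_of_ne hl]
  refine ⟨η, ⟨_, hmem χ, hχ, fun x => ?_⟩, ?_⟩
  · rw [hθ]
    exact hmulv χ (Additive.ofMul x)
  · by_contra hall
    push Not at hall
    refine hχne (DFunLike.ext _ _ fun a => ?_)
    have h1 : theta η a.toMul = 1 := by
      show ∏ j, η j (a.toMul.1 j) = 1
      rw [Finset.prod_congr rfl fun j _ => by rw [hall j], ← map_prod, show ∏ j, a.toMul.1 j = 1 from a.toMul.2, map_one]
    rw [hθ] at h1
    exact congrArg Units.val h1

/-- Few eigenvectors: the torus fixes everything, apart from one configuration of four pairs. -/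
theorem torus_trivial_or_ghost (hm : 1 ≤ m) (R : Fr Q (m + 2)) (hR : IsOdd R)
    (σ : Representation ℂ ↥(gw Q R.top) V)
    (hshort : ∀ v ∈ fixT R σ, ∀ y : R.perp (Fin.last (m + 1)), σ (R.fEl (Fin.last (m + 1)) y) v = v)
    (ht : finrank ℂ (fixT R σ) ≤ m + 1) :
    (∀ v ∈ fixT R σ, ∀ x, σ (dEl R x) v = v) ∨
      (m = 2 ∧ ∃ c d : Fˣ →* ℂˣ, c ≠ d ∧ (∀ t, c (t * t) = d (t * t)) ∧
        ∀ S : Finset (Fin (m + 2)), S.card = 2 → Occurs R σ fun j => if j ∈ S then c else d) := by
  classical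
  rcases torus_cases R σ with h | ⟨η, hη, j₀, hj₀⟩
  · exact .inl h
  set d := η (Fin.last (m + 1)) with hd
  have hsq : ∀ j t, η j (t * t) = d (t * t) := fun j t => hη.ratio_sq hR hshort j t
  set c := η j₀
  have htwo : ∀ j, η j = c ∨ η j = d := fun j => by
    by_cases hj : η j = d
    · exact .inr hj
    left
    have h1 := sq_char_unique (s := η j * d⁻¹) (s' := c * d⁻¹)
      (fun t => by rw [MonoidHom.mul_apply, MonoidHom.inv_apply, hsq, mul_inv_cancel])
      (fun t => by rw [MonoidHom.mul_apply, MonoidHom.inv_apply, hsq, mul_inv_cancel])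
      (fun h => hj (mul_inv_eq_one.1 h)) (fun h => hj₀ (mul_inv_eq_one.1 h))
    exact mul_right_cancel h1
  obtain ⟨c', d', hcd, hsq', S₀, hS1, hS2, hS⟩ : ∃ c' d' : Fˣ →* ℂˣ, c' ≠ d' ∧ (∀ t, c' (t * t) = d' (t * t)) ∧
      ∃ S₀ : Finset (Fin (m + 2)), 1 ≤ S₀.card ∧ 2 * S₀.card ≤ m + 2 ∧
        η = fun j => if j ∈ S₀ then c' else d' := by
    set S := Finset.univ.filter fun j => η j = c
    have hS : ∀ j, j ∈ S ↔ η j = c := fun j => by simp [S]
    have h1 : j₀ ∈ S := (hS j₀).2 rfl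
    have h2 : Fin.last (m + 1) ∉ S := fun h => hj₀ ((hS _).1 h).symm
    have hc' : S.card + Sᶜ.card = m + 2 := by rw [Finset.card_add_card_compl, Fintype.card_fin]
    by_cases hsmall : 2 * S.card ≤ m + 2
    · refine ⟨c, d, hj₀, hsq j₀, S, Finset.card_pos.2 ⟨_, h1⟩, hsmall, funext fun j => ?_⟩
      by_cases hj : j ∈ S
      · rw [if_pos hj]; exact (hS j).1 hj
      · rw [if_neg hj]; exact (htwo j).resolve_left fun h => hj ((hS j).2 h)
    · refine ⟨d, c, fun h => hj₀ h.symm, fun t => (hsq j₀ t).symm, Sᶜ,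
        Finset.card_pos.2 ⟨_, Finset.mem_compl.2 h2⟩, by omega, funext fun j => ?_⟩
      by_cases hj : j ∈ S
      · rw [if_neg (fun h => Finset.mem_compl.1 h hj)]; exact (hS j).1 hj
      · rw [if_pos (Finset.mem_compl.2 hj)]; exact (htwo j).resolve_left fun h => hj ((hS j).2 h)
  have hall : ∀ S : Finset (Fin (m + 2)), S.card = S₀.card → Occurs R σ fun j => if j ∈ S then c' else d' := by
    intro S hcard
    have e1 : {j // j ∈ S} ≃ {j // j ∈ S₀} := Fintype.equivOfCardEq (by simpa using hcard)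
    have h1 := hη.perm (Equiv.extendSubtype e1)
    rwa [hS, show (fun j => if j ∈ S₀ then c' else d') ∘ (Equiv.extendSubtype e1) =
      fun j => if j ∈ S then c' else d' from funext fun j => by
        by_cases hj : j ∈ S
        · simp [Function.comp_apply, if_pos hj, if_pos (Equiv.extendSubtype_mem e1 j hj)]
        · simp [Function.comp_apply, if_neg hj, if_neg (Equiv.extendSubtype_not_mem e1 j hj)]] at h1
  by_cases hghost : S₀.card = 2 ∧ m = 2
  · exact .inr ⟨hghost.2, c', d', hcd, hsq', fun S hS' => hall S (hS'.trans hghost.1.symm)⟩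
  exfalso
  set ζ : Finset (Fin (m + 2)) → Fin (m + 2) → Fˣ →* ℂˣ := fun S j => if j ∈ S then c' else d'
  have hrel : ∀ S T : Finset (Fin (m + 2)), theta (ζ S) = theta (ζ T) → ∀ a b, ((a ∈ S ↔ b ∈ S) ↔ (a ∈ T ↔ b ∈ T)) := by
    intro S T h a b
    have key : ∀ S : Finset (Fin (m + 2)), (a ∈ S ↔ b ∈ S) ↔ ∀ t, theta (ζ S) (pairTuple a b t) = 1 := by
      intro S
      simp only [theta_pairTuple, mul_inv_eq_one, ← MonoidHom.ext_iff]
      by_cases ha : a ∈ S <;> by_cases hb : b ∈ S <;> simp [ζ, ha, hb, hcd, Ne.symm hcd]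
    rw [key S, key T, h]
  by_cases hhalf : 2 * S₀.card = m + 2
  · set I := {S : Finset (Fin (m + 2)) // S ∈ (((Finset.univ : Finset (Fin (m + 2))).erase 0).powersetCard (S₀.card - 1))}
    have hI : ∀ S : I, (0 : Fin (m + 2)) ∉ S.1 ∧ (insert 0 S.1).card = S₀.card := fun S => by
      obtain ⟨h1, h2⟩ := Finset.mem_powersetCard.1 S.2
      have h3 : (0 : Fin (m + 2)) ∉ S.1 := fun h => Finset.notMem_erase 0 _ (h1 h)
      exact ⟨h3, by rw [Finset.card_insert_of_notMem h3, h2]; omega⟩
    have h := card_le_of_occurs R σ (fun S : I => ζ (insert 0 S.1)) (fun S => hall _ (hI S).2) (fun S T hST => by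
      refine Subtype.ext (Finset.ext fun a => ?_)
      by_cases ha : a = 0
      · subst ha; simp [(hI S).1, (hI T).1]
      have h1 := hrel _ _ hST a 0
      simp [ha] at h1
      exact h1)
    rw [Fintype.card_coe, Finset.card_powersetCard, Finset.card_erase_of_mem (Finset.mem_univ _), Finset.card_univ,
      Fintype.card_fin] at h
    have h3 : 3 ≤ S₀.card := by
      by_contra h4
      have : S₀.card = 2 ∧ m = 2 := by omega
      exact hghost this
    have h5 := choose_gt (n := m + 2 - 1) (k := S₀.card - 1) (by omega) (by omega)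
    omega
  · set I := {S : Finset (Fin (m + 2)) // S ∈ ((Finset.univ : Finset (Fin (m + 2))).powersetCard S₀.card)}
    have h := card_le_of_occurs R σ (fun S : I => ζ S.1) (fun S => hall _ (Finset.mem_powersetCard.1 S.2).2)
      (fun S T hST => by
        refine Subtype.ext ?_
        by_cases h0 : (0 : Fin (m + 2)) ∈ S.1 ↔ (0 : Fin (m + 2)) ∈ T.1
        · exact Finset.ext fun a => by
            have h1 := hrel _ _ hST a 0
            tauto
        · exfalso
          have hcompl : T.1 = S.1ᶜ := Finset.ext fun a => by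
            have h1 := hrel _ _ hST a 0
            rw [Finset.mem_compl]
            tauto
          have h2 := (Finset.mem_powersetCard.1 T.2).2
          rw [hcompl, Finset.card_compl, (Finset.mem_powersetCard.1 S.2).2, Fintype.card_fin] at h2
          omega)
    rw [Fintype.card_coe, Finset.card_powersetCard, Finset.card_univ, Fintype.card_fin] at h
    have h5 := choose_ge (n := m + 2) (k := S₀.card) hS1 (by omega)
    omega

end CfsgLib.OrthDeg
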