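import Cfsg.Agent.OrthDeg.OddPoint

/-!
# Three pairs: the braid relation carries fixed vectors from one node to the next

A vector killed by the average of a node is negated by its intertwiner; one fixed by the node is multiplied by `q`.
The braid relation of neighbouring intertwiners forbids both at once.
-/

set_option autoImplicit false
set_option linter.unusedSectionVars false

namespace CfsgLib.OrthDeg

open Matrix Module CfsgLib.Forms CfsgLib.Spinor CfsgLib.Forms4 CfsgLib.RepBounds

variable {F : Type*} [Field F] [Fintype F] [DecidableEq F] {ι : Type} [Fintype ι] [DecidableEq ι]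
  {Q : QuadraticForm F (ι → F)}

noncomputable local instance subFintypeOddPlane (S : Submodule F (ι → F)) : Fintype S := Fintype.ofFinite S

section rel

variable {m : ℕ} (R : Fr Q (m + 2)) (i : Fin (m + 1))

/-- A term of the intertwiner. -/
noncomputable def twEl (t : F) : ↥(gw Q R.top) := node R i (upSL t * wSL)

theorem twEl_spec (t : F) :
    gmat (twEl R i t) *ᵥ R.e i.castSucc = -t • R.e i.castSucc - R.e i.succ ∧
    gmat (twEl R i t) *ᵥ R.e i.succ = R.e i.castSucc ∧
    gmat (twEl R i t) *ᵥ R.f i.castSucc = -R.f i.succ ∧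
    gmat (twEl R i t) *ᵥ R.f i.succ = R.f i.castSucc - t • R.f i.succ := by
  have hk : (upSL t * wSL : Matrix.SpecialLinearGroup (Fin 2) F).1 = !![-t, 1; -1, 0] := by
    rw [Matrix.SpecialLinearGroup.coe_mul, coe_upSL, show (wSL (F := F)).1 = !![0, 1; -1, 0] from rfl,
      Matrix.mul_fin_two]
    simp
  refine ⟨?_, ?_, ?_, ?_⟩
  · rw [twEl, node_e_fst, hk]; simp [sub_eq_add_neg]
  · rw [twEl, node_e_snd, hk]; simp
  · have h := lev_mulVec_f (nodePr R i) (upSL t * wSL) 0
    rw [Fin.sum_univ_two, Matrix.SpecialLinearGroup.coe_inv, hk, Matrix.adjugate_fin_two] at h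
    refine h.trans ?_
    simp
    rfl
  · have h := lev_mulVec_f (nodePr R i) (upSL t * wSL) 1
    rw [Fin.sum_univ_two, Matrix.SpecialLinearGroup.coe_inv, hk, Matrix.adjugate_fin_two] at h
    refine h.trans ?_
    simp [sub_eq_add_neg]
    rfl

end rel

/-- The braid relation. -/
theorem twEl_braid {m : ℕ} (R : Fr Q (m + 3)) (i : Fin (m + 1)) (t s r : F) :
    twEl R i.castSucc t * twEl R i.succ s * twEl R i.castSucc r =
      twEl R i.succ r * twEl R i.castSucc (-(t * r + s)) * twEl R i.succ t := by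
  have hmid : i.castSucc.succ = i.succ.castSucc := Fin.succ_castSucc i
  set a := i.castSucc.castSucc with ha
  set b := i.succ.castSucc with hb
  set c := i.succ.succ with hc
  have hab : a ≠ b := by simp [ha, hb, Fin.ext_iff]
  have hbc : b ≠ c := by simp [hb, hc, Fin.ext_iff]
  have hac : a ≠ c := by simp [ha, hc, Fin.ext_iff]; omega
  have A : ∀ x : F, gmat (twEl R i.castSucc x) *ᵥ R.e a = -x • R.e a - R.e b ∧
      gmat (twEl R i.castSucc x) *ᵥ R.e b = R.e a ∧
      gmat (twEl R i.castSucc x) *ᵥ R.f a = -R.f b ∧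
      gmat (twEl R i.castSucc x) *ᵥ R.f b = R.f a - x • R.f b := fun x => by
    have h := twEl_spec R i.castSucc x
    rw [hmid] at h
    exact h
  have B : ∀ x : F, gmat (twEl R i.succ x) *ᵥ R.e b = -x • R.e b - R.e c ∧
      gmat (twEl R i.succ x) *ᵥ R.e c = R.e b ∧
      gmat (twEl R i.succ x) *ᵥ R.f b = -R.f c ∧
      gmat (twEl R i.succ x) *ᵥ R.f c = R.f b - x • R.f c := fun x => twEl_spec R i.succ x
  have a0 : i.castSucc.castSucc ≠ i.succ.succ := hac
  have A' : ∀ x : F, gmat (twEl R i.castSucc x) *ᵥ R.e c = R.e c ∧ gmat (twEl R i.castSucc x) *ᵥ R.f c = R.f c :=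
    fun x => ⟨node_fix_e R _ _ hac (hmid ▸ hbc), node_fix_f R _ _ hac (hmid ▸ hbc)⟩
  have B' : ∀ x : F, gmat (twEl R i.succ x) *ᵥ R.e a = R.e a ∧ gmat (twEl R i.succ x) *ᵥ R.f a = R.f a :=
    fun x => ⟨node_fix_e R _ _ hab.symm hac.symm, node_fix_f R _ _ hab.symm hac.symm⟩
  have A'' : ∀ (x : F) (v : ι → F), (∀ j, QuadraticMap.polar (⇑Q) (R.e j) v = 0 ∧
      QuadraticMap.polar (⇑Q) (R.f j) v = 0) → ∀ l, gmat (twEl R l x) *ᵥ v = v :=
    fun x v hv l => node_perp R l _ (hv _).1 (hv _).2 (hv _).1 (hv _).2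
  refine gw_ext R (fun j => ?_) (fun j => ?_) fun z hz => ?_
  · simp only [gmat_mul, ← Matrix.mulVec_mulVec]
    by_cases h0 : j = a
    · subst h0
      simp [(A _).1, (A _).2.1, (A' _).1, (B _).1, (B _).2.1, (B' _).1, Matrix.mulVec_sub, Matrix.mulVec_smul,
        Matrix.mulVec_neg]
      module
    by_cases h1 : j = b
    · subst h1
      simp [(A _).1, (A _).2.1, (A' _).1, (B _).1, (B _).2.1, (B' _).1, Matrix.mulVec_sub, Matrix.mulVec_smul,
        Matrix.mulVec_neg]
    by_cases h2 : j = c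
    · subst h2
      simp [(A _).1, (A _).2.1, (A' _).1, (B _).1, (B _).2.1, (B' _).1, Matrix.mulVec_sub, Matrix.mulVec_smul,
        Matrix.mulVec_neg]
    have hA : ∀ x, gmat (twEl R i.castSucc x) *ᵥ R.e j = R.e j := fun x =>
      node_fix_e R _ _ (Ne.symm h0) (hmid ▸ Ne.symm h1)
    have hB : ∀ x, gmat (twEl R i.succ x) *ᵥ R.e j = R.e j := fun x => node_fix_e R _ _ (Ne.symm h1) (Ne.symm h2)
    simp [hA, hB]
  · simp only [gmat_mul, ← Matrix.mulVec_mulVec]
    by_cases h0 : j = a
    · subst h0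
      simp [(A _).2.2.1, (A _).2.2.2, (A' _).2, (B _).2.2.1, (B _).2.2.2, (B' _).2, Matrix.mulVec_sub,
        Matrix.mulVec_smul, Matrix.mulVec_neg]
    by_cases h1 : j = b
    · subst h1
      simp [(A _).2.2.1, (A _).2.2.2, (A' _).2, (B _).2.2.1, (B _).2.2.2, (B' _).2, Matrix.mulVec_sub,
        Matrix.mulVec_add, Matrix.mulVec_smul, Matrix.mulVec_neg]
      module
    by_cases h2 : j = c
    · subst h2
      simp [(A _).2.2.1, (A _).2.2.2, (A' _).2, (B _).2.2.1, (B _).2.2.2, (B' _).2, Matrix.mulVec_sub,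
        Matrix.mulVec_add, Matrix.mulVec_smul, Matrix.mulVec_neg]
      module
    have hA : ∀ x, gmat (twEl R i.castSucc x) *ᵥ R.f j = R.f j := fun x =>
      node_fix_f R _ _ (Ne.symm h0) (hmid ▸ Ne.symm h1)
    have hB : ∀ x, gmat (twEl R i.succ x) *ᵥ R.f j = R.f j := fun x => node_fix_f R _ _ (Ne.symm h1) (Ne.symm h2)
    simp [hA, hB]
  · obtain ⟨-, hp⟩ := core_spec R hz
    simp only [gmat_mul, ← Matrix.mulVec_mulVec, A'' _ z hp]

variable {V : Type} [AddCommGroup V] [Module ℂ V] [FiniteDimensional ℂ V]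

section node

variable {m : ℕ} (R : Fr Q (m + 2)) (i : Fin (m + 1)) (σ : Representation ℂ ↥(gw Q R.top) V)

theorem twine_def (v : V) : twine R i σ v = ∑ t : F, σ (twEl R i t) v := rfl

theorem twine_fix {v : V} (h : ∀ k, σ (node R i k) v = v) : twine R i σ v = (Fintype.card F : ℂ) • v := by
  rw [twine, Finset.sum_congr rfl fun t _ => h _, Finset.sum_const, Finset.card_univ, Nat.cast_smul_eq_nsmul]

/-- A vector killed by the average is negated by the intertwiner. -/
theorem twine_avg_zero {v : V} (hv : v ∈ fixT R σ) (hd : ∀ t, σ (node R i (diagTwo t)) v = v)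
    (h0 : nodeAvg R i σ v = 0) : twine R i σ v = -v := by
  classical
  have hw2 : (wSL : Matrix.SpecialLinearGroup (Fin 2) F) * wSL = diagTwo (-1) := by
    refine Subtype.ext ?_
    rw [Matrix.SpecialLinearGroup.coe_mul, coe_diagTwo, show (wSL (F := F)).1 = !![0, 1; -1, 0] from rfl,
      Matrix.mul_fin_two]
    simp
  have hM : ∀ t : Fˣ, wSL * upSL (t : F) * wSL =
      upSL (-(t : F)⁻¹) * wSL * diagTwo (-t) * upSL (-(t : F)⁻¹) := fun t => by
    refine Subtype.ext ?_
    simp only [Matrix.SpecialLinearGroup.coe_mul, coe_diagTwo, coe_upSL,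
      show (wSL (F := F)).1 = !![0, 1; -1, 0] from rfl, Matrix.mul_fin_two, Units.val_neg]
    ext a b
    fin_cases a <;> fin_cases b <;> simp <;> field_simp <;> ring
  set z := v + twine R i σ v with hz
  let g : Option F → V := fun o => o.elim v fun t => σ (twEl R i t) v
  have hzg : z = ∑ o, g o := by rw [Fintype.sum_option, hz, twine_def]; rfl
  have hup : ∀ s, σ (node R i (upSL s)) z = z := fun s => by
    rw [hz, map_add, ← upEl_eq, upEl_fix R i σ hv, twine_def, map_sum, upEl_eq]
    congr 1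
    simp only [twEl, ← Module.End.mul_apply, ← map_mul, ← mul_assoc, upSL_mul]
    exact Fintype.sum_equiv (Equiv.addLeft s) _ _ fun t => rfl
  have hw : σ (node R i wSL) z = z := by
    let p : F → F := fun t => -t⁻¹
    let e : Option F ≃ Option F :=
      { toFun := fun o => o.elim (some 0) fun t => if t = 0 then none else some (p t)
        invFun := fun o => o.elim (some 0) fun t => if t = 0 then none else some (p t)
        left_inv := fun o => by
          rcases o with - | t
          · simp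
          · by_cases ht : t = 0 <;> simp [ht, p, inv_neg]
        right_inv := fun o => by
          rcases o with - | t
          · simp
          · by_cases ht : t = 0 <;> simp [ht, p, inv_neg] }
    rw [hzg, map_sum]
    refine Fintype.sum_equiv e _ _ fun o => ?_
    rcases o with - | t
    · show σ (node R i wSL) v = σ (twEl R i 0) v
      rw [twEl, upSL_zero, one_mul]
    show σ (node R i wSL) (σ (twEl R i t) v) = g (if t = 0 then none else some (p t))
    rw [twEl, ← Module.End.mul_apply, ← map_mul, ← map_mul, ← mul_assoc]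
    by_cases ht : t = 0
    · rw [if_pos ht, ht, upSL_zero, mul_one, hw2, hd]; rfl
    · rw [if_neg ht, show t = ((Units.mk0 t ht : Fˣ) : F) from rfl, hM, map_mul (node R i),
        map_mul (node R i) (upSL _ * wSL), map_mul σ, map_mul σ, Module.End.mul_apply, Module.End.mul_apply,
        ← upEl_eq, upEl_fix R i σ hv, hd]
      rfl
  let H : Subgroup (Matrix.SpecialLinearGroup (Fin 2) F) :=
    { carrier := {k | σ (node R i k) z = z}
      mul_mem' := fun {a b} (ha : σ (node R i a) z = z) (hb : σ (node R i b) z = z) => by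
        show σ (node R i (a * b)) z = z
        rw [map_mul, map_mul, Module.End.mul_apply, hb, ha]
      one_mem' := by show σ (node R i 1) z = z; rw [map_one, map_one]; rfl
      inv_mem' := fun {a} (ha : σ (node R i a) z = z) => by
        show σ (node R i a⁻¹) z = z
        conv_lhs => rw [← ha, ← Module.End.mul_apply, ← map_mul, ← map_mul, inv_mul_cancel, map_one, map_one]
        rfl }
  have hU : ∀ s, upSL s ∈ H := hup
  have hW : wSL ∈ H := hw
  have hD : ∀ t : Fˣ, diagTwo t ∈ H := fun t => by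
    have h := hM (-t)
    rw [neg_neg] at h
    have e : diagTwo t = (upSL (-((-t : Fˣ) : F)⁻¹) * wSL)⁻¹ * (wSL * upSL ((-t : Fˣ) : F) * wSL) *
        (upSL (-((-t : Fˣ) : F)⁻¹))⁻¹ := by
      rw [h]; group
    rw [e]
    exact mul_mem (mul_mem (inv_mem (mul_mem (hU _) hW)) (mul_mem (mul_mem hW (hU _)) hW)) (inv_mem (hU _))
  have hlow : ∀ k : Matrix.SpecialLinearGroup (Fin 2) F, k.1 1 0 ≠ 0 → k ∈ H := fun k hc => by
    set c := Units.mk0 (k.1 1 0) hc
    have e : k = upSL (k.1 0 0 / k.1 1 0) * wSL * diagTwo (-c) * upSL (k.1 1 1 / k.1 1 0) := by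
      have hdet : k.1 0 0 * k.1 1 1 - k.1 0 1 * k.1 1 0 = 1 := by rw [← Matrix.det_fin_two]; exact k.2
      refine Subtype.ext ?_
      simp only [Matrix.SpecialLinearGroup.coe_mul, coe_diagTwo, coe_upSL,
        show (wSL (F := F)).1 = !![0, 1; -1, 0] from rfl, Matrix.mul_fin_two, Units.val_neg]
      ext a b
      fin_cases a <;> fin_cases b <;> simp [c] <;> field_simp
      linear_combination -hdet
    rw [e]
    exact mul_mem (mul_mem (mul_mem (hU _) hW) (hD _)) (hU _)
  have hall : ∀ k, k ∈ H := fun k => by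
    by_cases hc : k.1 1 0 = 0
    · have h1 : (k * wSL).1 1 0 ≠ 0 := by
        have hd' : k.1 0 0 * k.1 1 1 - k.1 0 1 * k.1 1 0 = 1 := by rw [← Matrix.det_fin_two]; exact k.2
        rw [Matrix.SpecialLinearGroup.coe_mul, show (wSL (F := F)).1 = !![0, 1; -1, 0] from rfl]
        simp only [Matrix.mul_apply, Fin.sum_univ_two]
        simp [hc] at hd' ⊢
        intro h
        rw [h, mul_zero] at hd'
        exact zero_ne_one hd'
      simpa using mul_mem (hlow _ h1) (inv_mem hW)
    · exact hlow k hc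
  have havg : nodeAvg R i σ z = z := by
    rw [nodeAvg, LinearMap.smul_apply, LinearMap.sum_apply, Finset.sum_congr rfl fun k _ => hall k,
      Finset.sum_const, Finset.card_univ, ← Nat.cast_smul_eq_nsmul ℂ, smul_smul,
      inv_mul_cancel₀ (Nat.cast_ne_zero.2 Fintype.card_ne_zero), one_smul]
  have havg' : ∀ l, nodeAvg R i σ (σ (node R i l) v) = nodeAvg R i σ v := fun l => by
    simp only [nodeAvg, LinearMap.smul_apply, LinearMap.sum_apply, ← Module.End.mul_apply, ← map_mul]
    congr 1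
    exact Fintype.sum_equiv (Equiv.mulRight l) _ _ fun k => rfl
  rw [hz, map_add, twine_def, map_sum, Finset.sum_congr rfl fun t _ => show nodeAvg R i σ (σ (twEl R i t) v) = 0 by
    rw [twEl, havg', h0], Finset.sum_const_zero, h0, add_zero, ← twine_def] at havg
  exact eq_neg_of_add_eq_zero_right havg.symm

theorem diag_fix_of_torus {v : V} (h : ∀ x, σ (dEl R x) v = v) (t : Fˣ) : σ (node R i (diagTwo t)) v = v := by
  rw [node_diag_eq]; exact h _

end node

theorem twine_three {m : ℕ} (R : Fr Q (m + 3)) (i : Fin (m + 1)) (σ : Representation ℂ ↥(gw Q R.top) V) (v : V) :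
    twine R i.castSucc σ (twine R i.succ σ (twine R i.castSucc σ v)) =
      twine R i.succ σ (twine R i.castSucc σ (twine R i.succ σ v)) := by
  simp only [twine_def, map_sum, ← Module.End.mul_apply, ← map_mul, ← mul_assoc]
  rw [← Fintype.sum_prod_type', ← Fintype.sum_prod_type', ← Fintype.sum_prod_type', ← Fintype.sum_prod_type']
  let e : (F × F) × F ≃ (F × F) × F :=
    { toFun := fun p => ((p.2, -(p.1.1 * p.2 + p.1.2)), p.1.1)
      invFun := fun p => ((p.2, -(p.2 * p.1.1) - p.1.2), p.1.1)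
      left_inv := fun p => by obtain ⟨⟨a, b⟩, c⟩ := p; simp
      right_inv := fun p => by obtain ⟨⟨a, b⟩, c⟩ := p; simp }
  refine Fintype.sum_equiv e _ _ fun p => ?_
  rw [twEl_braid]
  rfl

/-- The node before a fixing one fixes too. -/
theorem node_step {m : ℕ} (R : Fr Q (m + 3)) (i : Fin (m + 1)) (σ : Representation ℂ ↥(gw Q R.top) V)
    (htor : ∀ v ∈ fixT R σ, ∀ x, σ (dEl R x) v = v) (hnext : ∀ v ∈ fixT R σ, ∀ k, σ (node R i.succ k) v = v)
    {v : V} (hv : v ∈ fixT R σ) (k : Matrix.SpecialLinearGroup (Fin 2) F) : σ (node R i.castSucc k) v = v := by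
  set y := v - nodeAvg R i.castSucc σ v with hy
  suffices h : y = 0 by
    rw [hy, sub_eq_zero] at h
    rw [h]
    exact node_mul_avg R _ σ k v
  have hyT : y ∈ fixT R σ := (fixT R σ).sub_mem hv (nodeAvg_mem R _ σ hv)
  have hA : ∀ w : V, w ∈ fixT R σ → nodeAvg R i.castSucc σ w = 0 → twine R i.castSucc σ w = -w := fun w hw h0 =>
    twine_avg_zero R _ σ hw (diag_fix_of_torus R _ σ (htor w hw)) h0
  have hA1 := hA y hyT (by rw [hy, map_sub, nodeAvg_apply_avg, sub_self])
  have hB : twine R i.succ σ y = (Fintype.card F : ℂ) • y := twine_fix R _ σ (hnext y hyT)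
  have hlin : ∀ (l : Fin (m + 2)) (c : ℂ) (w : V), twine R l σ (c • w) = c • twine R l σ w := fun l c w => by
    simp [twine_def, Finset.smul_sum]
  have hneg : ∀ (l : Fin (m + 2)) (w : V), twine R l σ (-w) = -twine R l σ w := fun l w => by
    simp [twine_def]
  have h := twine_three R i σ y
  have hL : twine R i.castSucc σ (twine R i.succ σ (twine R i.castSucc σ y)) = (Fintype.card F : ℂ) • y := by
    rw [hA1, hneg, hB, hneg, hlin, hA1, smul_neg, neg_neg]
  have hR' : twine R i.succ σ (twine R i.castSucc σ (twine R i.succ σ y)) =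
      -(((Fintype.card F : ℂ) * (Fintype.card F : ℂ)) • y) := by
    rw [hB, hlin, hA1, hlin, hneg, hB, smul_neg, smul_smul]
  rw [hL, hR', eq_neg_iff_add_eq_zero, ← add_smul] at h
  refine (smul_eq_zero.1 h).resolve_left ?_
  exact_mod_cast Nat.pos_iff_ne_zero.1 (Nat.add_pos_left (Fintype.card_pos (α := F)) _)

variable {ψ : AddChar F ℂ}

theorem nodePr_tail {m : ℕ} (R : Fr Q (m + 3)) (i : Fin (m + 1)) : nodePr R.tail i = nodePr R i.succ := by
  have he : (nodePr R.tail i).e = (nodePr R i.succ).e := funext fun j => by fin_cases j <;> rfl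
  have hf : (nodePr R.tail i).f = (nodePr R i.succ).f := funext fun j => by fin_cases j <;> rfl
  generalize nodePr R.tail i = P at he hf
  generalize nodePr R i.succ = P' at he hf
  cases P; cases P'
  cases he; cases hf
  rfl

theorem node_tail {m : ℕ} (R : Fr Q (m + 3)) (i : Fin (m + 1)) (k : Matrix.SpecialLinearGroup (Fin 2) F) :
    incl R (node R.tail i k) = node R i.succ k := by
  refine Subtype.ext ?_
  show lev (nodePr R.tail i) k = lev (nodePr R i.succ) k
  rw [nodePr_tail]

/-- The last node fixes torus-fixed vectors of the common fixed space. -/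
theorem last_node (hψ : ψ.IsPrimitive) (hq : 4 ≤ Fintype.card F) : ∀ (m : ℕ) {W : Type} [AddCommGroup W] [Module ℂ W]
    [FiniteDimensional ℂ W] (R : Fr Q (m + 2)) (_ : IsOdd R) (_ : Spin R) (σ : Representation ℂ ↥(gw Q R.top) W)
    (_ : SingOnce R σ ψ) (v : W), v ∈ fixT R σ → (∀ x, σ (dEl R x) v = v) →
      ∀ k, σ (node R (Fin.last m) k) v = v := by
  intro m
  induction m with
  | zero =>
    intro W _ _ _ R hR hsp σ hS v hv htor k
    exact node_fixes hψ hq R hR hsp σ hS hv htor k
  | succ m ih =>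
    intro W _ _ _ R hR hsp σ hS v hv htor k
    have hx := ((mem_fixT_iff (ψ := ψ) R σ v).1 hv).1
    have htor' : ∀ x : torusGrp F (m + 2), fixedRep ψ R σ (dEl R.tail x) ⟨v, hx⟩ = ⟨v, hx⟩ := fun x => by
      refine Subtype.ext ?_
      rw [fixedRep_apply]
      have hmem : ∏ j, (Fin.cons 1 x.1 : Fin (m + 3) → Fˣ) j = 1 := by
        rw [Fin.prod_cons, one_mul]; exact x.2
      rw [(isDiag_incl R (isDiag_dEl R.tail x)).eq (isDiag_dEl R ⟨_, hmem⟩)]
      exact htor _
    have h := congrArg Subtype.val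
      (ih R.tail hR.tail hsp.tail (fixedRep ψ R σ) (singOnce_tail R σ hψ hq hS) ⟨v, hx⟩
        ((mem_fixT_tail R σ _).2 hv) htor' k)
    rw [fixedRep_apply, node_tail, Fin.succ_last] at h
    exact h

/-- All nodes fix a torus-fixed common fixed space. -/
theorem nodes_fix (hψ : ψ.IsPrimitive) (hq : 4 ≤ Fintype.card F) {m : ℕ} (R : Fr Q (m + 2)) (hR : IsOdd R)
    (hsp : Spin R) (σ : Representation ℂ ↥(gw Q R.top) V) (hS : SingOnce R σ ψ)
    (htor : ∀ v ∈ fixT R σ, ∀ x, σ (dEl R x) v = v) (i : Fin (m + 1)) :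
    ∀ v ∈ fixT R σ, ∀ k, σ (node R i k) v = v := by
  induction i using Fin.reverseInduction with
  | last => exact fun v hv k => last_node hψ hq m R hR hsp σ hS v hv (htor v hv) k
  | cast i ih =>
    obtain ⟨m, rfl⟩ : ∃ l, m = l + 1 := ⟨m - 1, by have := i.isLt; omega⟩
    exact fun v hv k => node_step R i σ htor ih hv k

/-- Exchanging the vectors of a pair by three root elements at a core vector. -/
theorem flip_at {m : ℕ} (R : Fr Q m) (hR : IsOdd R) (j : Fin m) :
    ∃ (z : R.perp j) (g : ↥(gw Q R.top)) (c : F), c ≠ 0 ∧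
      g = R.eEl j z * R.fEl j ((Q (z : ι → F))⁻¹ • z) * R.eEl j z ∧ gmat g *ᵥ R.f j = c • R.e j := by
  have h : 1 < Fintype.card R.core := by rw [hR.card_core]; exact Fintype.one_lt_card
  obtain ⟨z, hz⟩ := Fintype.exists_ne_of_one_lt_card h 0
  obtain ⟨hzt, hzp⟩ := core_spec R z.2
  have hzj : (z : ι → F) ∈ R.perp j := (mem_perp R j _).2 ⟨hzt, fun l _ => hzp l⟩
  have hc : Q (z : ι → F) ≠ 0 := hR.core_ne _ z.2 fun h => hz (Subtype.ext h)
  refine ⟨⟨z, hzj⟩, _, -Q (z : ι → F), neg_ne_zero.2 hc, rfl, ?_⟩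
  obtain ⟨he, hf⟩ := hzp j
  have he' : QuadraticMap.polar (⇑Q) (z : ι → F) (R.e j) = 0 := by rw [QuadraticMap.polar_comm]; exact he
  have hf' : QuadraticMap.polar (⇑Q) (z : ι → F) (R.f j) = 0 := by rw [QuadraticMap.polar_comm]; exact hf
  rw [gmat_mul, gmat_mul, ← Matrix.mulVec_mulVec, ← Matrix.mulVec_mulVec]
  show eich Q (R.e j) (z : ι → F) *ᵥ (eich Q (R.f j) ((Q (z : ι → F))⁻¹ • (z : ι → F)) *ᵥ
    (eich Q (R.e j) (z : ι → F) *ᵥ R.f j)) = _
  have hzz : QuadraticMap.polar (⇑Q) (z : ι → F) (z : ι → F) = 2 * Q (z : ι → F) := polar_self' Q _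
  simp only [eich_mulVec, QuadraticMap.polar_add_right, QuadraticMap.polar_sub_right, QuadraticMap.polar_smul_right,
    QuadraticMap.polar_smul_left, QuadraticMap.map_smul, R.toPr.ef_self, R.toPr.fe_self, R.ee, R.ff, he, hf, he',
    hf', hzz, smul_eq_mul]
  match_scalars <;> field_simp <;> ring

/-- A vector fixed by the upper root elements, the last lower ones and all nodes is fixed by all. -/
theorem all_fixed {m : ℕ} (R : Fr Q (m + 2)) (hR : IsOdd R) (σ : Representation ℂ ↥(gw Q R.top) V) {v : V}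
    (hv : v ∈ fixT R σ) (hlast : ∀ y : R.perp (Fin.last (m + 1)), σ (R.fEl (Fin.last (m + 1)) y) v = v)
    (hnode : ∀ i k, σ (node R i k) v = v) (g : ↥(gw Q R.top)) : σ g v = v := by
  let K : Subgroup ↥(gw Q R.top) :=
    { carrier := {g | σ g v = v}
      mul_mem' := fun {a b} (ha : σ a v = v) (hb : σ b v = v) => by
        show σ (a * b) v = v
        rw [map_mul, Module.End.mul_apply, hb, ha]
      one_mem' := by show σ 1 v = v; rw [map_one]; rfl
      inv_mem' := fun {a} (ha : σ a v = v) => by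
        show σ a⁻¹ v = v
        conv_lhs => rw [← ha, ← Module.End.mul_apply, ← map_mul, inv_mul_cancel, map_one]
        rfl }
  have hswap : ∀ j : Fin (m + 2), ∃ g ∈ K, ∃ c : F, c ≠ 0 ∧ gmat g *ᵥ R.f j = c • R.e j := fun j => by
    induction j using Fin.reverseInduction with
    | last =>
      obtain ⟨z, g, c, hc, hg, hgc⟩ := flip_at R hR (Fin.last (m + 1))
      refine ⟨g, ?_, c, hc, hgc⟩
      rw [hg]
      exact K.mul_mem (K.mul_mem (hv _ z) (hlast _)) (hv _ z)
    | cast i ih =>
      obtain ⟨g, hgK, c, hc, hg⟩ := ih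
      obtain ⟨-, w2, w3, -⟩ := node_w_spec R i
      refine ⟨node R i wSL * g * node R i wSL, K.mul_mem (K.mul_mem (hnode i _) hgK) (hnode i _), -c,
        neg_ne_zero.2 hc, ?_⟩
      rw [gmat_mul, gmat_mul, ← Matrix.mulVec_mulVec, ← Matrix.mulVec_mulVec, w3, Matrix.mulVec_neg, hg,
        Matrix.mulVec_neg, Matrix.mulVec_smul, w2, neg_smul]
  obtain ⟨s, hsK, c, hc, hs⟩ := hswap 0
  have hE : ∀ y : R.W1, rootE R y ∈ K := fun y => hv 0 ⟨y, by rw [perp_zero_eq]; exact y.2⟩
  have hF : ∀ y : R.W1, rootF R y ∈ K := fun y => by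
    set w := gmat s *ᵥ (y : ι → F)
    have hwt : w ∈ R.top := (gw_spec s.2).1 _ y.2.1
    have hew : QuadraticMap.polar (⇑Q) (R.e 0) w = 0 := by
      have h1 := polar_mulVec Q (s : ↥(Cfsg.isometryGroup F ⇑Q)) (R.f 0) (y : ι → F)
      rw [show mat Q (s : ↥(Cfsg.isometryGroup F ⇑Q)) *ᵥ R.f 0 = c • R.e 0 from hs, y.2.2.2,
        QuadraticMap.polar_smul_left, smul_eq_mul, mul_eq_zero] at h1
      exact h1.resolve_left hc
    have hp : c • R.proj w ∈ R.W1 := R.W1.smul_mem _ (R.proj_mem hwt)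
    have he : s * rootF R y = rootE R ⟨_, hp⟩ * s := by
      refine Subtype.ext (mat_ext Q ?_)
      show gmat s * eich Q (R.f 0) (y : ι → F) = eich Q (R.e 0) (c • R.proj w) * gmat s
      have hd : c • w = c • R.proj w + (c * QuadraticMap.polar (⇑Q) (R.f 0) w) • R.e 0 := by
        conv_lhs => rw [R.decomp w, hew]
        module
      have e0 := conj_eich (s : ↥(Cfsg.isometryGroup F ⇑Q)) (R.f 0) (y : ι → F)
      rw [show mat Q (s : ↥(Cfsg.isometryGroup F ⇑Q)) *ᵥ R.f 0 = c • R.e 0 from hs, eich_smul_left,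
        show c • (mat Q (s : ↥(Cfsg.isometryGroup F ⇑Q)) *ᵥ (y : ι → F)) = _ from hd,
        eich_add_smul_self (R.qe 0) hp.2.1] at e0
      exact e0
    rw [show rootF R y = s⁻¹ * (rootE R ⟨_, hp⟩ * s) by rw [← he, inv_mul_cancel_left]]
    exact K.mul_mem (K.inv_mem hsK) (K.mul_mem (hE _) hsK)
  have hle : rootGroup R ≤ K := (Subgroup.closure_le K).2 <| by
    rintro _ (⟨y, rfl⟩ | ⟨y, rfl⟩)
    · exact hE y
    · exact hF y
  exact hle ((Fr.rootGroup_eq_top R).symm ▸ Subgroup.mem_top g)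

end CfsgLib.OrthDeg
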