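import Mathlib

/-!
# The rank of a symmetric matrix from below by traces
-/

set_option autoImplicit false

namespace CfsgLib.OrthDeg

open Matrix

variable {κ : Type*} [Fintype κ] [DecidableEq κ]

theorem sq_trace_le (Γ : κ → κ → ℝ) (hsym : ∀ a b, Γ a b = Γ b a) :
    (∑ a, Γ a a) ^ 2 ≤ ((Matrix.of fun a b => (Γ a b : ℂ)).rank : ℝ) * ∑ a, ∑ b, Γ a b ^ 2 := by
  classical
  set A : Matrix κ κ ℂ := Matrix.of fun a b => (Γ a b : ℂ) with hA
  have hH : A.IsHermitian := by
    refine Matrix.IsHermitian.ext fun a b => ?_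
    show star ((Γ b a : ℂ)) = (Γ a b : ℂ)
    rw [Complex.star_def, Complex.conj_ofReal, hsym a b]
  set ev := hH.eigenvalues
  have h1 : ∑ a, Γ a a = ∑ i, ev i := by
    have h : ((∑ a, Γ a a : ℝ) : ℂ) = ((∑ i, ev i : ℝ) : ℂ) := by
      rw [Complex.ofReal_sum, Complex.ofReal_sum]
      exact hH.trace_eq_sum_eigenvalues
    exact_mod_cast h
  have h2 : ∑ a, ∑ b, Γ a b ^ 2 = ∑ i, ev i ^ 2 := by
    have hdiag : A * A = Unitary.conjStarAlgAut ℂ _ hH.eigenvectorUnitary
        (Matrix.diagonal fun i => ((ev i : ℂ)) ^ 2) := by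
      conv_lhs => rw [hH.spectral_theorem]
      rw [← map_mul, Matrix.diagonal_mul_diagonal]
      congr 2
      funext i
      simp [ev, sq]
    have htr : (A * A).trace = ((∑ i, ev i ^ 2 : ℝ) : ℂ) := by
      rw [hdiag, Unitary.conjStarAlgAut_apply, Matrix.trace_mul_cycle, Unitary.coe_star_mul_self, one_mul,
        Matrix.trace_diagonal]
      push_cast
      rfl
    have htr' : (A * A).trace = ((∑ a, ∑ b, Γ a b ^ 2 : ℝ) : ℂ) := by
      rw [Matrix.trace]
      push_cast
      refine Finset.sum_congr rfl fun a _ => ?_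
      rw [Matrix.diag_apply, Matrix.mul_apply]
      refine Finset.sum_congr rfl fun b _ => ?_
      show (Γ a b : ℂ) * (Γ b a : ℂ) = _
      rw [hsym b a, sq]
    exact_mod_cast htr'.symm.trans htr
  rw [h1, h2, hH.rank_eq_card_non_zero_eigs, Fintype.card_subtype]
  have h3 := Finset.sum_mul_sq_le_sq_mul_sq (Finset.univ.filter fun i => ev i ≠ 0) (fun _ => (1 : ℝ)) ev
  simp only [one_mul, one_pow, Finset.sum_const, nsmul_eq_mul, mul_one] at h3
  rw [Finset.sum_filter_of_ne (fun i _ h => h)] at h3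
  refine h3.trans (mul_le_mul_of_nonneg_left ?_ (Nat.cast_nonneg _))
  exact Finset.sum_le_sum_of_subset_of_nonneg (Finset.filter_subset _ _) fun i _ _ => sq_nonneg _

end CfsgLib.OrthDeg
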