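import Cfsg.Agent.OrthDeg.OddOrbit
import Cfsg.Agent.OrthDeg.RankTrace
import Cfsg.Agent.OrthDeg.Binary

/-!
# Two pairs: a torus-fixed vector of the common fixed space is fixed by the node

Otherwise its translates, indexed by the singular vectors, have vanishing sums over singular lines, so they span
a space larger than the weights allow.
-/

set_option autoImplicit false
set_option linter.unusedSectionVars false

namespace CfsgLib.OrthDeg

open Matrix Module CfsgLib.Forms CfsgLib.Spinor CfsgLib.Forms4 CfsgLib.RepBounds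

variable {F : Type*} [Field F] [Fintype F] [DecidableEq F] {ι : Type} [Fintype ι] [DecidableEq ι]
  {Q : QuadraticForm F (ι → F)}

noncomputable local instance subFintypeOddPoint (S : Submodule F (ι → F)) : Fintype S := Fintype.ofFinite S

/-- Scaling the last pair stays in the group only by squares and with the core fixed. -/
def Spin {m : ℕ} (R : Fr Q (m + 1)) : Prop :=
  ∀ (g : ↥(gw Q R.top)) (ν : Fˣ) (ε : F),
    (∀ j, j ≠ Fin.last m → gmat g *ᵥ R.e j = R.e j ∧ gmat g *ᵥ R.f j = R.f j) →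
    gmat g *ᵥ R.e (Fin.last m) = (ν : F) • R.e (Fin.last m) →
    gmat g *ᵥ R.f (Fin.last m) = (ν : F)⁻¹ • R.f (Fin.last m) →
    (∀ z ∈ R.core, gmat g *ᵥ z = ε • z) → ε = 1 ∧ IsSquare (ν : F)

theorem Spin.tail {m : ℕ} {R : Fr Q (m + 2)} (h : Spin R) : Spin R.tail := by
  intro g ν ε h1 h2 h3 h4
  have h0 : ∀ v : ι → F, (∀ y ∈ R.W1, QuadraticMap.polar (⇑Q) y v = 0) → gmat (incl R g) *ᵥ v = v := fun v hv =>
    (gw_spec g.2).2 v hv
  refine h (incl R g) ν ε (fun j hj => ?_) ?_ ?_ h4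
  · rcases Fin.eq_zero_or_eq_succ j with rfl | ⟨l, rfl⟩
    · exact ⟨h0 _ fun y hy => by rw [QuadraticMap.polar_comm]; exact hy.2.1,
        h0 _ fun y hy => by rw [QuadraticMap.polar_comm]; exact hy.2.2⟩
    · exact h1 l fun h => hj (by rw [h, Fin.succ_last])
  · rw [← Fin.succ_last]; exact h2
  · rw [← Fin.succ_last]; exact h3

variable (S : Fr Q 2) {V : Type} [AddCommGroup V] [Module ℂ V] [FiniteDimensional ℂ V]
  (τ : Representation ℂ ↥(gw Q S.top) V)

/-- The singular non-zero vectors of the top. -/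
def Sing (w : ι → F) : Prop := w ∈ S.top ∧ w ≠ 0 ∧ Q w = 0

theorem sing_e : Sing S (S.e 0) := ⟨S.e_mem 0, S.toPr.e_ne_zero 0, S.qe 0⟩

theorem Sing.map {w : ι → F} (h : Sing S w) (g : ↥(gw Q S.top)) : Sing S (gmat g *ᵥ w) :=
  ⟨(gw_spec g.2).1 w h.1, fun h0 => h.2.1 (by
    rw [← gmat_inv_mulVec h0, Matrix.mulVec_zero]), (quad_mulVec Q _ _).trans h.2.2⟩

theorem Sing.smul {w : ι → F} (h : Sing S w) {c : F} (hc : c ≠ 0) : Sing S (c • w) :=
  ⟨S.top.smul_mem c h.1, smul_ne_zero hc h.2.1, by rw [QuadraticMap.map_smul, h.2.2, smul_zero]⟩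

/-- A chosen element moving the first vector to `w`. -/
noncomputable def selEl (w : ι → F) : ↥(gw Q S.top) := by
  classical
  exact if h : Sing S w then
    (S.exists_move (S.e_mem 0) (S.toPr.e_ne_zero 0) h.1 h.2.1 (by rw [S.qe, h.2.2])).choose else 1

theorem selEl_spec {w : ι → F} (h : Sing S w) : gmat (selEl S w) *ᵥ S.e 0 = w := by
  classical
  rw [selEl, dif_pos h]
  exact (S.exists_move (S.e_mem 0) (S.toPr.e_ne_zero 0) h.1 h.2.1 (by rw [S.qe, h.2.2])).choose_spec.2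

variable {S τ}

/-- The hypotheses on the vector to translate. -/
structure Good (x : V) : Prop where
  ne : x ≠ 0
  stab : ∀ (g : ↥(gw Q S.top)) (c : F), c ≠ 0 → gmat g *ᵥ S.e 0 = c • S.e 0 → τ g x = x
  node_sum : ∑ k : Matrix.SpecialLinearGroup (Fin 2) F, τ (node S 0 k) x = 0

variable {x : V} (hx : Good (S := S) (τ := τ) x)

variable (S τ x) in
/-- The translate attached to a singular vector. -/
noncomputable def xv (w : ι → F) : V := τ (selEl S w) x

include hx in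
theorem xv_eq {g : ↥(gw Q S.top)} {w : ι → F} {c : F} (hw : Sing S w) (hc : c ≠ 0)
    (hg : gmat g *ᵥ S.e 0 = c • w) : τ g x = xv S τ x w := by
  have h1 : gmat ((selEl S w)⁻¹ * g) *ᵥ S.e 0 = c • S.e 0 := by
    rw [gmat_mul, ← Matrix.mulVec_mulVec, hg, Matrix.mulVec_smul, gmat_inv_mulVec (selEl_spec S hw)]
  have h2 := congrArg (τ (selEl S w)) (hx.stab _ c hc h1)
  rw [← Module.End.mul_apply, ← map_mul, mul_inv_cancel_left] at h2
  exact h2

include hx in
theorem xv_e : xv S τ x (S.e 0) = x := by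
  rw [← xv_eq hx (g := 1) (c := 1) (sing_e S) one_ne_zero (by rw [gmat_one, Matrix.one_mulVec, one_smul]), map_one]
  rfl

include hx in
theorem xv_map {w : ι → F} (hw : Sing S w) (g : ↥(gw Q S.top)) :
    τ g (xv S τ x w) = xv S τ x (gmat g *ᵥ w) := by
  rw [xv, ← Module.End.mul_apply, ← map_mul]
  refine xv_eq hx (hw.map S g) one_ne_zero ?_
  rw [gmat_mul, ← Matrix.mulVec_mulVec, selEl_spec S hw, one_smul]

include hx in
theorem xv_smul {w : ι → F} (hw : Sing S w) {c : F} (hc : c ≠ 0) : xv S τ x (c • w) = xv S τ x w :=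
  xv_eq hx hw hc (selEl_spec S (hw.smul S hc))

theorem exists_col {p : F × F} (hp : p ≠ 0) :
    ∃ k : Matrix.SpecialLinearGroup (Fin 2) F, k.1 0 0 = p.1 ∧ k.1 1 0 = p.2 := by
  by_cases h0 : p.1 = 0
  · have h1 : p.2 ≠ 0 := fun h => hp (Prod.ext h0 h)
    exact ⟨⟨!![0, -p.2⁻¹; p.2, 0], by simp [Matrix.det_fin_two, h1]⟩, by simp [h0], by simp⟩
  · exact ⟨⟨!![p.1, 0; p.2, p.1⁻¹], by simp [Matrix.det_fin_two, h0]⟩, by simp, by simp⟩

theorem sing_comb {p : F × F} (hp : p ≠ 0) : Sing S (p.1 • S.e 0 + p.2 • S.e 1) := by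
  refine ⟨S.top.add_mem (S.top.smul_mem _ (S.e_mem 0)) (S.top.smul_mem _ (S.e_mem 1)), fun h => hp ?_, ?_⟩
  · have h1 := congrArg (QuadraticMap.polar (⇑Q) (S.f 0)) h
    have h2 := congrArg (QuadraticMap.polar (⇑Q) (S.f 1)) h
    simp [QuadraticMap.polar_add_right, QuadraticMap.polar_smul_right, S.toPr.fe] at h1 h2
    exact Prod.ext h1 h2
  · rw [QuadraticMap.map_add (⇑Q), QuadraticMap.map_smul, QuadraticMap.map_smul, S.qe, S.qe,
      QuadraticMap.polar_smul_left, QuadraticMap.polar_smul_right, S.ee]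
    simp

include hx in
/-- The translates over a singular line add up to zero. -/
theorem line_sum : ∑ p ∈ Finset.univ.erase (0 : F × F), xv S τ x (p.1 • S.e 0 + p.2 • S.e 1) = 0 := by
  classical
  let col : Matrix.SpecialLinearGroup (Fin 2) F → F × F := fun k => (k.1 0 0, k.1 1 0)
  have hcol : ∀ k, col k ∈ Finset.univ.erase (0 : F × F) := fun k => by
    refine Finset.mem_erase.2 ⟨fun h => ?_, Finset.mem_univ _⟩
    have h0 : k.1 0 0 = 0 := congrArg Prod.fst h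
    have h1 : k.1 1 0 = 0 := congrArg Prod.snd h
    have hd := k.2
    rw [Matrix.det_fin_two, h0, h1] at hd
    simp at hd
  set c₀ := ((Finset.univ.filter fun k => col k = (1, 0)).card : ℂ)
  have hfib : ∀ p ∈ Finset.univ.erase (0 : F × F),
      ∑ k ∈ Finset.univ.filter (fun k => col k = p), τ (node S 0 k) x = c₀ • xv S τ x (p.1 • S.e 0 + p.2 • S.e 1) := by
    intro p hp
    have hp0 := Finset.ne_of_mem_erase hp
    have hterm : ∀ k ∈ Finset.univ.filter (fun k => col k = p),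
        τ (node S 0 k) x = xv S τ x (p.1 • S.e 0 + p.2 • S.e 1) := fun k hk => by
      obtain ⟨-, hk⟩ := Finset.mem_filter.1 hk
      refine xv_eq hx (sing_comb hp0) one_ne_zero ?_
      rw [one_smul, show S.e 0 = S.e (0 : Fin 1).castSucc from rfl, node_e_fst, ← hk]
      rfl
    rw [Finset.sum_congr rfl hterm, Finset.sum_const, ← Nat.cast_smul_eq_nsmul ℂ]
    obtain ⟨k₀, e0, e1⟩ := exists_col hp0
    congr 2
    refine (Finset.card_equiv (Equiv.mulLeft k₀) fun k => ?_).symm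
    have hdet : k₀.1 0 0 * k₀.1 1 1 - k₀.1 0 1 * k₀.1 1 0 = 1 := by rw [← Matrix.det_fin_two]; exact k₀.2
    simp only [Finset.mem_filter, Finset.mem_univ, true_and, col, Equiv.coe_mulLeft,
      Matrix.SpecialLinearGroup.coe_mul, Matrix.mul_apply, Fin.sum_univ_two, Prod.ext_iff, ← e0, ← e1]
    constructor
    · rintro ⟨h0, h1⟩
      rw [h0, h1]; simp
    · rintro ⟨h0, h1⟩
      exact ⟨by linear_combination k₀.1 1 1 * h0 - k₀.1 0 1 * h1 - (k.1 0 0 - 1) * hdet,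
        by linear_combination k₀.1 0 0 * h1 - k₀.1 1 0 * h0 - k.1 1 0 * hdet⟩
  have h := hx.node_sum
  rw [← Finset.sum_fiberwise_of_maps_to (g := col) (fun k _ => hcol k), Finset.sum_congr rfl hfib,
    ← Finset.smul_sum] at h
  refine (smul_eq_zero.1 h).resolve_left (Nat.cast_ne_zero.2 (Finset.card_pos.2 ⟨1, ?_⟩).ne')
  simp [col]

variable (S τ x) in
/-- An invariant functional. -/
def GoodXi (ξ : V →ₗ[ℂ] ℂ) : Prop :=
  ξ x = 1 ∧ ∀ (g : ↥(gw Q S.top)) (c : F), c ≠ 0 → gmat g *ᵥ S.e 0 = c • S.e 0 → ∀ y, ξ (τ g y) = ξ y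

include hx in
theorem exists_xi : ∃ ξ, GoodXi S τ x ξ := by
  classical
  obtain ⟨ξ₀, hξ₀⟩ : ∃ ξ₀ : V →ₗ[ℂ] ℂ, ξ₀ x = 1 := by
    obtain ⟨φ, hφ⟩ : ∃ φ : Module.Dual ℂ V, φ x ≠ 0 := by
      by_contra h
      push Not at h
      exact hx.ne ((Module.forall_dual_apply_eq_zero_iff ℂ x).1 h)
    exact ⟨(φ x)⁻¹ • φ, by simp [hφ]⟩
  have : Fintype ↥(gw Q S.top) := Fintype.ofFinite _
  set H := (Finset.univ : Finset ↥(gw Q S.top)).filter fun g => ∃ c : F, c ≠ 0 ∧ gmat g *ᵥ S.e 0 = c • S.e 0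
  have h1 : (1 : ↥(gw Q S.top)) ∈ H :=
    Finset.mem_filter.2 ⟨Finset.mem_univ _, 1, one_ne_zero, by rw [gmat_one, Matrix.one_mulVec, one_smul]⟩
  refine ⟨(H.card : ℂ)⁻¹ • ∑ g ∈ H, ξ₀.comp (τ g), ?_, fun g c hc hg y => ?_⟩
  · have h2 : ∀ g ∈ H, ξ₀ (τ g x) = 1 := fun g hg => by
      obtain ⟨c, hc, hg⟩ := (Finset.mem_filter.1 hg).2
      rw [hx.stab g c hc hg, hξ₀]
    simp only [LinearMap.smul_apply, LinearMap.sum_apply, LinearMap.comp_apply, Finset.sum_congr rfl h2,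
      Finset.sum_const, nsmul_eq_mul, mul_one, smul_eq_mul]
    exact inv_mul_cancel₀ (Nat.cast_ne_zero.2 (Finset.card_pos.2 ⟨1, h1⟩).ne')
  · simp only [LinearMap.smul_apply, LinearMap.sum_apply, LinearMap.comp_apply, smul_eq_mul]
    congr 1
    refine Finset.sum_equiv (Equiv.mulRight g) (fun l => ?_) fun l _ => by
      rw [← Module.End.mul_apply, ← map_mul]; rfl
    simp only [H, Finset.mem_filter, Finset.mem_univ, true_and, Equiv.coe_mulRight]
    constructor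
    · rintro ⟨d, hd, hl⟩
      exact ⟨c * d, mul_ne_zero hc hd, by
        rw [gmat_mul, ← Matrix.mulVec_mulVec, hg, Matrix.mulVec_smul, hl, smul_smul]⟩
    · rintro ⟨d, hd, hl⟩
      refine ⟨c⁻¹ * d, mul_ne_zero (inv_ne_zero hc) hd, ?_⟩
      rw [gmat_mul, ← Matrix.mulVec_mulVec, hg, Matrix.mulVec_smul] at hl
      rw [← smul_smul, ← hl, smul_smul, inv_mul_cancel₀ hc, one_smul]

theorem mem_core_two (hS : IsOdd S) {z : ι → F} (hz : z ∈ S.tail.W1) : z ∈ S.core := hz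

variable (S τ) in
/-- The root elements that fix the vectors of the common fixed space. -/
def FixRoots (v : V) : Prop :=
  (∀ i (y : S.perp i), τ (S.eEl i y) v = v) ∧ ∀ y : S.perp (Fin.last 1), τ (S.fEl (Fin.last 1) y) v = v

theorem FixRoots.rootE_tail {v : V} (hv : FixRoots S τ v) (u : S.tail.W1) :
    τ (incl S (rootE S.tail u)) v = v := by
  have hu : (u : ι → F) ∈ S.perp 1 := by
    rw [show (1 : Fin 2) = (0 : Fin 1).succ from rfl, perp_succ_eq, perp_zero_eq]; exact u.2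
  rw [show incl S (rootE S.tail u) = S.eEl 1 ⟨u, hu⟩ from Subtype.ext (mat_ext Q rfl)]
  exact hv.1 _ _

theorem FixRoots.rootF_tail {v : V} (hv : FixRoots S τ v) (u : S.tail.W1) :
    τ (incl S (rootF S.tail u)) v = v := by
  have hu : (u : ι → F) ∈ S.perp (Fin.last 1) := by
    rw [show (Fin.last 1 : Fin 2) = (0 : Fin 1).succ from rfl, perp_succ_eq, perp_zero_eq]; exact u.2
  rw [show incl S (rootF S.tail u) = S.fEl (Fin.last 1) ⟨u, hu⟩ from Subtype.ext (mat_ext Q rfl)]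
  exact hv.2 _

/-- Singular vectors of the inner frame move to its first vector by elements fixing the roots' fixed vectors. -/
theorem exists_inner' (hS : IsOdd S) {p : ι → F} (hp : p ∈ S.W1) (hp0 : p ≠ 0) (hpq : Q p = 0) :
    ∃ (g : ↥(gw Q S.top)) (μ : F), μ ≠ 0 ∧ gmat g *ᵥ p = μ • S.e 1 ∧ gmat g *ᵥ S.e 0 = S.e 0 ∧
      gmat g *ᵥ S.f 0 = S.f 0 ∧ ∀ v : V, FixRoots S τ v → τ g v = v := by
  set L := S.tail
  set a := QuadraticMap.polar (⇑Q) (L.f 0) p with ha
  set b := QuadraticMap.polar (⇑Q) (L.e 0) p with hb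
  have hd := L.decomp p
  have hpr : L.proj p ∈ L.W1 := L.proj_mem hp
  have hq : a * b + Q (L.proj p) = 0 := by
    have h := congrArg Q hd
    rw [L.quad_comb _ _ hpr, hpq] at h
    exact h.symm
  have hfix : ∀ k : ↥(gw Q L.top), gmat (incl S k) *ᵥ S.e 0 = S.e 0 ∧ gmat (incl S k) *ᵥ S.f 0 = S.f 0 := fun k =>
    ⟨(gw_spec k.2).2 _ fun y hy => by
        have hy' : y ∈ S.W1 := hy
        rw [QuadraticMap.polar_comm]; exact hy'.2.1,
      (gw_spec k.2).2 _ fun y hy => by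
        have hy' : y ∈ S.W1 := hy
        rw [QuadraticMap.polar_comm]; exact hy'.2.2⟩
  by_cases hb0 : b = 0
  · have hz : L.proj p = 0 := by
      by_contra h
      exact hS.core_ne _ (mem_core_two hS hpr) h (by rw [hb0, mul_zero, zero_add] at hq; exact hq)
    have hpe : p = a • L.e 0 := by rw [hd, hz, ← hb, hb0, zero_smul, add_zero, add_zero]
    exact ⟨1, a, fun h => hp0 (by rw [hpe, h, zero_smul]), by rw [gmat_one, Matrix.one_mulVec]; exact hpe,
      by rw [gmat_one, Matrix.one_mulVec], by rw [gmat_one, Matrix.one_mulVec], fun v _ => by rw [map_one]; rfl⟩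
  obtain ⟨k, μ, hμ, hk, hkfix⟩ : ∃ (k : ↥(gw Q L.top)) (μ : F), μ ≠ 0 ∧ gmat k *ᵥ p = μ • L.e 0 ∧
      ∀ v : V, FixRoots S τ v → τ (incl S k) v = v := by
    have h : 1 < Fintype.card S.core := by rw [hS.card_core]; exact Fintype.one_lt_card
    obtain ⟨z, hz⟩ := Fintype.exists_ne_of_one_lt_card h 0
    have hz0 : Q (z : ι → F) ≠ 0 := hS.core_ne _ z.2 fun h => hz (Subtype.ext h)
    set y : L.W1 := ⟨(-b⁻¹) • L.proj p, L.W1.smul_mem _ hpr⟩
    have h2 : gmat (rootE L y) *ᵥ p = b • L.f 0 := by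
      have e : gmat (rootE L y) *ᵥ p = (a - QuadraticMap.polar (⇑Q) (y : ι → F) (L.proj p) - Q (y : ι → F) * b) • L.e 0 +
          b • L.f 0 + (L.proj p + b • (y : ι → F)) := by
        conv_lhs => rw [hd]
        exact L.eich_e_apply a b hpr y.2
      have e4 : L.proj p + b • (y : ι → F) = 0 := by
        show _ + b • ((-b⁻¹) • L.proj p) = 0
        rw [smul_smul, mul_neg, mul_inv_cancel₀ hb0, neg_one_smul, add_neg_cancel]
      rw [e4, add_zero] at e
      set a' := a - QuadraticMap.polar (⇑Q) (y : ι → F) (L.proj p) - Q (y : ι → F) * b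
      have e5 : a' * b = 0 := by
        have h6 : Q (gmat (rootE L y) *ᵥ p) = 0 := (quad_mulVec Q _ _).trans hpq
        rw [e, ← add_zero (a' • L.e 0 + b • L.f 0), L.quad_comb _ _ L.W1.zero_mem] at h6
        simpa using h6
      rw [e, (mul_eq_zero.1 e5).resolve_right hb0, zero_smul, zero_add]
    refine ⟨flipEl L ⟨z, z.2⟩ * rootE L y, b * -Q (z : ι → F), mul_ne_zero hb0 (neg_ne_zero.2 hz0), ?_, fun v hv => ?_⟩
    · rw [gmat_mul, ← Matrix.mulVec_mulVec, h2, Matrix.mulVec_smul, (flipEl_spec L ⟨z, z.2⟩ hz0).2.1, smul_smul]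
    · have e1 : ∀ u : L.W1, τ (incl S (rootE L u)) v = v := fun u => hv.rootE_tail u
      have e2 : ∀ u : L.W1, τ (incl S (rootF L u)) v = v := fun u => hv.rootF_tail u
      simp only [flipEl, map_mul, Module.End.mul_apply, e1, e2]
  exact ⟨incl S k, μ, hμ, hk, (hfix k).1, (hfix k).2, hkfix⟩

variable (S τ) in
/-- Elements fixing the first line fix such vectors. -/
theorem stab_fix (hS : IsOdd S) (hsp : Spin S) {v : V} (hv : FixRoots S τ v)
    (htor : ∀ t, τ (dEl S t) v = v) (g : ↥(gw Q S.top)) (c : F) (hc : c ≠ 0)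
    (hg : gmat g *ᵥ S.e 0 = c • S.e 0) : τ g v = v := by
  set y := gmat g *ᵥ S.f 0 with hy
  have hyt : y ∈ S.top := (gw_spec g.2).1 _ (S.f_mem 0)
  have hb : c * QuadraticMap.polar (⇑Q) (S.e 0) y = 1 := by
    have h := (polar_mulVec Q (g : ↥(Cfsg.isometryGroup F ⇑Q)) (S.e 0) (S.f 0)).trans (S.toPr.ef_self 0)
    rw [show mat Q (g : ↥(Cfsg.isometryGroup F ⇑Q)) *ᵥ S.e 0 = c • S.e 0 from hg, QuadraticMap.polar_smul_left] at h
    exact h
  set b := QuadraticMap.polar (⇑Q) (S.e 0) y with hbdef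
  have hbc : b = c⁻¹ := eq_inv_of_mul_eq_one_right hb
  have hb0 : b ≠ 0 := right_ne_zero_of_mul_eq_one hb
  have hp : S.proj y ∈ S.W1 := S.proj_mem hyt
  set w : S.W1 := ⟨(-b⁻¹) • S.proj y, S.W1.smul_mem _ hp⟩
  set g₁ := rootE S w * g with hg₁
  have hge : gmat g₁ *ᵥ S.e 0 = c • S.e 0 := by
    rw [hg₁, gmat_mul, ← Matrix.mulVec_mulVec, hg, Matrix.mulVec_smul]
    congr 1
    exact eich_mulVec_left (Q := Q) (S.qe 0) w.2.2.1
  have hgf : gmat g₁ *ᵥ S.f 0 = c⁻¹ • S.f 0 := by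
    rw [hg₁, gmat_mul, ← Matrix.mulVec_mulVec, ← hy]
    have e : gmat (rootE S w) *ᵥ y = (QuadraticMap.polar (⇑Q) (S.f 0) y - QuadraticMap.polar (⇑Q) (w : ι → F) (S.proj y) -
        Q (w : ι → F) * b) • S.e 0 + b • S.f 0 + (S.proj y + b • (w : ι → F)) := by
      conv_lhs => rw [S.decomp y]
      exact S.eich_e_apply _ b hp w.2
    have e4 : S.proj y + b • (w : ι → F) = 0 := by
      show _ + b • ((-b⁻¹) • S.proj y) = 0
      rw [smul_smul, mul_neg, mul_inv_cancel₀ hb0, neg_one_smul, add_neg_cancel]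
    rw [e4, add_zero] at e
    set a' := QuadraticMap.polar (⇑Q) (S.f 0) y - QuadraticMap.polar (⇑Q) (w : ι → F) (S.proj y) - Q (w : ι → F) * b
    have e5 : a' * b = 0 := by
      have h6 : Q (gmat (rootE S w) *ᵥ y) = 0 := (quad_mulVec Q _ _).trans ((quad_mulVec Q _ _).trans (S.qf 0))
      rw [e, ← add_zero (a' • S.e 0 + b • S.f 0), S.quad_comb _ _ S.W1.zero_mem] at h6
      simpa using h6
    rw [e, (mul_eq_zero.1 e5).resolve_right hb0, zero_smul, zero_add, hbc]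
  have hW : ∀ z ∈ S.W1, gmat g₁ *ᵥ z ∈ S.W1 := fun z hz => by
    refine ⟨(gw_spec g₁.2).1 z hz.1, ?_, ?_⟩
    · have := polar_mulVec Q (g₁ : ↥(Cfsg.isometryGroup F ⇑Q)) (S.e 0) z
      rw [show mat Q (g₁ : ↥(Cfsg.isometryGroup F ⇑Q)) *ᵥ S.e 0 = c • S.e 0 from hge, hz.2.1,
        QuadraticMap.polar_smul_left, smul_eq_mul, mul_eq_zero] at this
      exact this.resolve_left hc
    · have := polar_mulVec Q (g₁ : ↥(Cfsg.isometryGroup F ⇑Q)) (S.f 0) z
      rw [show mat Q (g₁ : ↥(Cfsg.isometryGroup F ⇑Q)) *ᵥ S.f 0 = c⁻¹ • S.f 0 from hgf, hz.2.2,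
        QuadraticMap.polar_smul_left, smul_eq_mul, mul_eq_zero] at this
      exact this.resolve_left (inv_ne_zero hc)
  obtain ⟨k, μ, hμ, hk, hk0, hk1, hkfix⟩ := exists_inner' (τ := τ) hS (hW _ (S.e_succ_mem 0))
    (fun h => S.toPr.e_ne_zero _ (by rw [← gmat_inv_mulVec h, Matrix.mulVec_zero]))
    ((quad_mulVec Q _ _).trans (S.qe _))
  set g₂ := k * g₁ with hg₂
  have h20 : gmat g₂ *ᵥ S.e 0 = c • S.e 0 := by
    rw [hg₂, gmat_mul, ← Matrix.mulVec_mulVec, hge, Matrix.mulVec_smul, hk0]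
  have h20f : gmat g₂ *ᵥ S.f 0 = c⁻¹ • S.f 0 := by
    rw [hg₂, gmat_mul, ← Matrix.mulVec_mulVec, hgf, Matrix.mulVec_smul, hk1]
  have h21 : gmat g₂ *ᵥ S.e 1 = μ • S.e 1 := by rw [hg₂, gmat_mul, ← Matrix.mulVec_mulVec]; exact hk
  set L := S.tail
  set y' := gmat g₂ *ᵥ S.f 1 with hy'
  have hy'W : y' ∈ S.W1 := by
    refine ⟨(gw_spec g₂.2).1 _ (S.f_mem 1), ?_, ?_⟩
    · have := polar_mulVec Q (g₂ : ↥(Cfsg.isometryGroup F ⇑Q)) (S.e 0) (S.f 1)
      rw [show mat Q (g₂ : ↥(Cfsg.isometryGroup F ⇑Q)) *ᵥ S.e 0 = c • S.e 0 from h20, S.toPr.ef_ne (by decide),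
        QuadraticMap.polar_smul_left, smul_eq_mul, mul_eq_zero] at this
      exact this.resolve_left hc
    · have := polar_mulVec Q (g₂ : ↥(Cfsg.isometryGroup F ⇑Q)) (S.f 0) (S.f 1)
      rw [show mat Q (g₂ : ↥(Cfsg.isometryGroup F ⇑Q)) *ᵥ S.f 0 = c⁻¹ • S.f 0 from h20f, S.ff,
        QuadraticMap.polar_smul_left, smul_eq_mul, mul_eq_zero] at this
      exact this.resolve_left (inv_ne_zero hc)
  have hpr : L.proj y' ∈ L.W1 := L.proj_mem hy'W
  have hb1 : QuadraticMap.polar (⇑Q) (L.e 0) y' = μ⁻¹ := by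
    have h := (polar_mulVec Q (g₂ : ↥(Cfsg.isometryGroup F ⇑Q)) (S.e 1) (S.f 1)).trans (S.toPr.ef_self 1)
    rw [show mat Q (g₂ : ↥(Cfsg.isometryGroup F ⇑Q)) *ᵥ S.e 1 = μ • S.e 1 from h21, QuadraticMap.polar_smul_left] at h
    exact eq_inv_of_mul_eq_one_right h
  set w' : L.W1 := ⟨(-μ) • L.proj y', L.W1.smul_mem _ hpr⟩
  set g₃ := incl S (rootE L w') * g₂ with hg₃
  have hfix0 : ∀ v : ι → F, (∀ y ∈ S.W1, QuadraticMap.polar (⇑Q) y v = 0) →
      gmat (incl S (rootE L w')) *ᵥ v = v := fun v hv => (gw_spec (rootE L w').2).2 v hv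
  have h30 : gmat g₃ *ᵥ S.e 0 = c • S.e 0 := by
    rw [hg₃, gmat_mul, ← Matrix.mulVec_mulVec, h20, Matrix.mulVec_smul,
      hfix0 _ fun y hy => by rw [QuadraticMap.polar_comm]; exact hy.2.1]
  have h30f : gmat g₃ *ᵥ S.f 0 = c⁻¹ • S.f 0 := by
    rw [hg₃, gmat_mul, ← Matrix.mulVec_mulVec, h20f, Matrix.mulVec_smul,
      hfix0 _ fun y hy => by rw [QuadraticMap.polar_comm]; exact hy.2.2]
  have h31 : gmat g₃ *ᵥ S.e 1 = μ • S.e 1 := by
    rw [hg₃, gmat_mul, ← Matrix.mulVec_mulVec, h21, Matrix.mulVec_smul]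
    congr 1
    exact eich_mulVec_left (Q := Q) (S.qe 1) w'.2.2.1
  have h31f : gmat g₃ *ᵥ S.f 1 = μ⁻¹ • S.f 1 := by
    rw [hg₃, gmat_mul, ← Matrix.mulVec_mulVec, ← hy']
    have e : gmat (incl S (rootE L w')) *ᵥ y' = (QuadraticMap.polar (⇑Q) (L.f 0) y' -
        QuadraticMap.polar (⇑Q) (w' : ι → F) (L.proj y') - Q (w' : ι → F) * μ⁻¹) • L.e 0 + μ⁻¹ • L.f 0 +
          (L.proj y' + μ⁻¹ • (w' : ι → F)) := by
      conv_lhs => rw [L.decomp y', hb1]
      exact L.eich_e_apply _ _ hpr w'.2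
    have e4 : L.proj y' + μ⁻¹ • (w' : ι → F) = 0 := by
      show _ + μ⁻¹ • ((-μ) • L.proj y') = 0
      rw [smul_smul, mul_neg, inv_mul_cancel₀ hμ, neg_one_smul, add_neg_cancel]
    rw [e4, add_zero] at e
    set a' := QuadraticMap.polar (⇑Q) (L.f 0) y' - QuadraticMap.polar (⇑Q) (w' : ι → F) (L.proj y') -
      Q (w' : ι → F) * μ⁻¹
    have e5 : a' * μ⁻¹ = 0 := by
      have h6 : Q (gmat (incl S (rootE L w')) *ᵥ y') = 0 :=
        (quad_mulVec Q _ _).trans ((quad_mulVec Q _ _).trans (S.qf 1))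
      rw [e, ← add_zero (a' • L.e 0 + μ⁻¹ • L.f 0), L.quad_comb _ _ L.W1.zero_mem] at h6
      simpa using h6
    rw [e, (mul_eq_zero.1 e5).resolve_right (inv_ne_zero hμ), zero_smul, zero_add]
    rfl
  -- the core
  obtain ⟨z, hz⟩ := Fintype.exists_ne_of_one_lt_card
    (show 1 < Fintype.card S.core by rw [hS.card_core]; exact Fintype.one_lt_card) 0
  have hzc : (z : ι → F) ≠ 0 := fun h => hz (Subtype.ext h)
  have hgz : gmat g₃ *ᵥ (z : ι → F) ∈ S.core := by
    obtain ⟨hzt, hzp⟩ := core_spec S z.2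
    refine (mem_core S _).2 ⟨(gw_spec g₃.2).1 _ hzt, fun i => ?_⟩
    have h0 : ∀ (v : ι → F) (d : F), d ≠ 0 → gmat g₃ *ᵥ v = d • v → QuadraticMap.polar (⇑Q) v (z : ι → F) = 0 →
        QuadraticMap.polar (⇑Q) v (gmat g₃ *ᵥ (z : ι → F)) = 0 := fun v d hd h hvz => by
      have := polar_mulVec Q (g₃ : ↥(Cfsg.isometryGroup F ⇑Q)) v (z : ι → F)
      rw [show mat Q (g₃ : ↥(Cfsg.isometryGroup F ⇑Q)) *ᵥ v = d • v from h, hvz,
        QuadraticMap.polar_smul_left, smul_eq_mul, mul_eq_zero] at this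
      exact this.resolve_left hd
    fin_cases i
    · exact ⟨h0 _ c hc h30 (hzp 0).1, h0 _ c⁻¹ (inv_ne_zero hc) h30f (hzp 0).2⟩
    · exact ⟨h0 _ μ hμ h31 (hzp 1).1, h0 _ μ⁻¹ (inv_ne_zero hμ) h31f (hzp 1).2⟩
  have hline : ∀ v ∈ S.core, ∃ a : F, v = a • (z : ι → F) := fun v hv => by
    have hinj : Function.Injective fun a : F => (⟨a • (z : ι → F), S.core.smul_mem a z.2⟩ : S.core) := by
      intro a b hab
      have h1 : a • (z : ι → F) = b • (z : ι → F) := congrArg Subtype.val hab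
      by_contra hne
      rw [← sub_eq_zero, ← sub_smul, smul_eq_zero] at h1
      exact hzc (h1.resolve_left (sub_ne_zero.2 hne))
    obtain ⟨a, ha⟩ := ((Fintype.bijective_iff_injective_and_card _).2 ⟨hinj, hS.card_core.symm⟩).2 ⟨v, hv⟩
    exact ⟨a, (congrArg Subtype.val ha).symm⟩
  obtain ⟨ε, hε⟩ := hline _ hgz
  set d := dEl S (pairTuple 0 1 (Units.mk0 c hc)) with hd
  set g₄ := d⁻¹ * g₃ with hg₄
  have hdd := (isDiag_dEl S (pairTuple 0 1 (Units.mk0 c hc))).inv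
  have q0 : gmat g₄ *ᵥ S.e 0 = S.e 0 := by
    rw [hg₄, gmat_mul, ← Matrix.mulVec_mulVec, h30, Matrix.mulVec_smul, hdd.he, smul_smul]
    simp [pairTuple, hc]
  have q0f : gmat g₄ *ᵥ S.f 0 = S.f 0 := by
    rw [hg₄, gmat_mul, ← Matrix.mulVec_mulVec, h30f, Matrix.mulVec_smul, hdd.hf, smul_smul]
    simp [pairTuple, hc]
  have q1 : gmat g₄ *ᵥ S.e 1 = (μ * c) • S.e 1 := by
    rw [hg₄, gmat_mul, ← Matrix.mulVec_mulVec, h31, Matrix.mulVec_smul, hdd.he, smul_smul]
    simp [pairTuple]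
  have q1f : gmat g₄ *ᵥ S.f 1 = (μ * c)⁻¹ • S.f 1 := by
    rw [hg₄, gmat_mul, ← Matrix.mulVec_mulVec, h31f, Matrix.mulVec_smul, hdd.hf, smul_smul]
    simp [pairTuple, mul_comm]
  have qz : ∀ v ∈ S.core, gmat g₄ *ᵥ v = ε • v := fun v hv => by
    obtain ⟨a, rfl⟩ := hline v hv
    rw [hg₄, gmat_mul, ← Matrix.mulVec_mulVec, Matrix.mulVec_smul, hε, smul_smul, Matrix.mulVec_smul,
      hdd.hz _ z.2, smul_smul, mul_comm a]
  obtain ⟨hε1, l, hl⟩ := hsp g₄ (Units.mk0 (μ * c) (mul_ne_zero hμ hc)) ε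
    (fun j hj => by
      fin_cases j
      · exact ⟨q0, q0f⟩
      · exact absurd rfl hj) q1 q1f qz
  have hl' : μ * c = l * l := hl
  have hl0 : l ≠ 0 := fun h => mul_ne_zero hμ hc (by rw [hl', h, zero_mul])
  obtain ⟨s, hs, hsfix⟩ := exists_lastSq 1 S hS (Units.mk0 l hl0)
  have h4 : IsDiag S g₄ (Pi.mulSingle (Fin.last 1) (Units.mk0 l hl0 * Units.mk0 l hl0)) := by
    refine ⟨fun j => ?_, fun j => ?_, fun v hv => by rw [qz v hv, hε1, one_smul]⟩
    · fin_cases j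
      · show gmat g₄ *ᵥ S.e 0 = _
        rw [q0]; simp
      · show gmat g₄ *ᵥ S.e 1 = _
        rw [q1, hl']; simp
    · fin_cases j
      · show gmat g₄ *ᵥ S.f 0 = _
        rw [q0f]; simp
      · show gmat g₄ *ᵥ S.f 1 = _
        rw [q1f, hl']; simp
  have f4 : τ g₄ v = v := by rw [h4.eq hs]; exact hsfix V τ v hv.1 hv.2
  have f3 : τ g₃ v = v := by
    have h := htor (pairTuple 0 1 (Units.mk0 c hc))
    rw [show g₃ = d * g₄ by rw [hg₄, mul_inv_cancel_left], map_mul, Module.End.mul_apply, f4, hd, h]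
  have back : ∀ {g h : ↥(gw Q S.top)}, τ h v = v → τ (h * g) v = v → τ h⁻¹ v = v → τ g v = v :=
    fun {g h} _ h2 h3 => by
      conv_rhs => rw [← h3, ← h2, ← Module.End.mul_apply, ← map_mul, inv_mul_cancel_left]
  have inv_fix : ∀ {h : ↥(gw Q S.top)}, τ h v = v → τ h⁻¹ v = v := fun {h} h1 => by
    conv_lhs => rw [← h1, ← Module.End.mul_apply, ← map_mul, inv_mul_cancel, map_one]
    rfl
  have f2 : τ g₂ v = v := back (hv.rootE_tail w') f3 (inv_fix (hv.rootE_tail w'))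
  have f1 : τ g₁ v = v := back (hkfix v hv) f2 (inv_fix (hkfix v hv))
  have hw : τ (rootE S w) v = v := by
    have hw' : (w : ι → F) ∈ S.perp 0 := by rw [perp_zero_eq]; exact w.2
    rw [show rootE S w = S.eEl 0 ⟨w, hw'⟩ from Subtype.ext (mat_ext Q rfl)]
    exact hv.1 _ _
  exact back hw f1 (inv_fix hw)

section rank

variable {ξ : V →ₗ[ℂ] ℂ}

include hx in
theorem xi_xv_map (hξ : GoodXi S τ x ξ) {w : ι → F} (hw : Sing S w) (g : ↥(gw Q S.top))
    (hg : gmat g *ᵥ S.e 0 = S.e 0) : ξ (xv S τ x (gmat g *ᵥ w)) = ξ (xv S τ x w) := by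
  rw [← xv_map hx hw g]
  exact hξ.2 g 1 one_ne_zero (by rw [one_smul, hg]) _

theorem sing_f : Sing S (S.f 0) :=
  ⟨S.f_mem 0, fun h => by
    have := S.toPr.ef_self 0
    rw [h, QuadraticMap.polar_zero_right] at this
    exact one_ne_zero this.symm, S.qf 0⟩

theorem sing_e_one : Sing S (S.e 1) := ⟨S.e_mem 1, S.toPr.e_ne_zero 1, S.qe 1⟩

theorem rootE_fix_e (y : S.W1) : gmat (rootE S y) *ᵥ S.e 0 = S.e 0 :=
  eich_mulVec_left (Q := Q) (S.qe 0) y.2.2.1

/-- A collinear vector off the first line. -/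
theorem coll_decomp {w : ι → F} (hw : Sing S w) (hB : QuadraticMap.polar (⇑Q) (S.e 0) w = 0)
    (hp : ¬∃ c : F, w = c • S.e 0) :
    w = QuadraticMap.polar (⇑Q) (S.f 0) w • S.e 0 + S.proj w ∧ Q (S.proj w) = 0 ∧ S.proj w ≠ 0 := by
  have hd := S.decomp w
  rw [hB, zero_smul, add_zero] at hd
  refine ⟨hd, ?_, fun h => hp ⟨_, by rw [h, add_zero] at hd; exact hd⟩⟩
  have h := congrArg Q hd
  rw [hw.2.2, show QuadraticMap.polar (⇑Q) (S.f 0) w • S.e 0 + S.proj w =
    QuadraticMap.polar (⇑Q) (S.f 0) w • S.e 0 + (0 : F) • S.f 0 + S.proj w by rw [zero_smul, add_zero],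
    S.quad_comb _ _ (S.proj_mem hw.1), mul_zero, zero_add] at h
  exact h.symm

/-- A vector off the perpendicular of the first moves onto the other line. -/
theorem opp_move {w : ι → F} (hw : Sing S w) (hB : QuadraticMap.polar (⇑Q) (S.e 0) w ≠ 0) :
    ∃ y : S.W1, gmat (rootE S y) *ᵥ w = QuadraticMap.polar (⇑Q) (S.e 0) w • S.f 0 := by
  set b := QuadraticMap.polar (⇑Q) (S.e 0) w
  have hp := S.proj_mem hw.1
  set y : S.W1 := ⟨(-b⁻¹) • S.proj w, S.W1.smul_mem _ hp⟩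
  refine ⟨y, ?_⟩
  have e : gmat (rootE S y) *ᵥ w = (QuadraticMap.polar (⇑Q) (S.f 0) w -
      QuadraticMap.polar (⇑Q) (y : ι → F) (S.proj w) - Q (y : ι → F) * b) • S.e 0 + b • S.f 0 +
        (S.proj w + b • (y : ι → F)) := by
    conv_lhs => rw [S.decomp w]
    exact S.eich_e_apply _ b hp y.2
  have e4 : S.proj w + b • (y : ι → F) = 0 := by
    show _ + b • ((-b⁻¹) • S.proj w) = 0
    rw [smul_smul, mul_neg, mul_inv_cancel₀ hB, neg_one_smul, add_neg_cancel]
  rw [e4, add_zero] at e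
  set a' := QuadraticMap.polar (⇑Q) (S.f 0) w - QuadraticMap.polar (⇑Q) (y : ι → F) (S.proj w) - Q (y : ι → F) * b
  have e5 : a' * b = 0 := by
    have h6 : Q (gmat (rootE S y) *ᵥ w) = 0 := (quad_mulVec Q _ _).trans hw.2.2
    rw [e, ← add_zero (a' • S.e 0 + b • S.f 0), S.quad_comb _ _ S.W1.zero_mem] at h6
    simpa using h6
  rw [e, (mul_eq_zero.1 e5).resolve_right hB, zero_smul, zero_add]

include hx in
theorem xi_prop (hξ : GoodXi S τ x ξ) {w : ι → F} (hw : Sing S w) {c : F} (hc : w = c • S.e 0) :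
    ξ (xv S τ x w) = 1 := by
  have hc0 : c ≠ 0 := fun h => hw.2.1 (by rw [hc, h, zero_smul])
  rw [hc, xv_smul hx (sing_e S) hc0, xv_e hx, hξ.1]

include hx in
theorem xi_opp (hξ : GoodXi S τ x ξ) {w : ι → F} (hw : Sing S w)
    (hB : QuadraticMap.polar (⇑Q) (S.e 0) w ≠ 0) : ξ (xv S τ x w) = ξ (xv S τ x (S.f 0)) := by
  obtain ⟨y, hy⟩ := opp_move hw hB
  rw [← xi_xv_map hx hξ hw _ (rootE_fix_e y), hy, xv_smul hx sing_f hB]

include hx in
theorem xi_coll (hS : IsOdd S) (hξ : GoodXi S τ x ξ) {w : ι → F} (hw : Sing S w)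
    (hB : QuadraticMap.polar (⇑Q) (S.e 0) w = 0) (hp : ¬∃ c : F, w = c • S.e 0) :
    ξ (xv S τ x w) = ξ (xv S τ x (S.e 1)) := by
  obtain ⟨hd, hq, h0⟩ := coll_decomp hw hB hp
  obtain ⟨k, μ, hμ, hk, hk0, -, -⟩ := exists_inner' (τ := τ) hS (S.proj_mem hw.1) h0 hq
  set a := QuadraticMap.polar (⇑Q) (S.f 0) w
  set y : S.W1 := ⟨(a / μ) • S.f 1, S.W1.smul_mem _ (S.f_succ_mem 0)⟩
  have h1 : gmat (rootE S y * k) *ᵥ w = μ • S.e 1 := by
    rw [gmat_mul, ← Matrix.mulVec_mulVec, hd, Matrix.mulVec_add, Matrix.mulVec_smul, hk0, hk,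
      show a • S.e 0 + μ • S.e 1 = a • S.e 0 + (0 : F) • S.f 0 + μ • S.e 1 by rw [zero_smul, add_zero]]
    refine (S.eich_e_apply _ _ (S.W1.smul_mem _ (S.e_succ_mem 0)) y.2).trans ?_
    have h2 : QuadraticMap.polar (⇑Q) ((a / μ) • S.f 1) (μ • S.e 1) = a := by
      rw [QuadraticMap.polar_smul_left, QuadraticMap.polar_smul_right, S.toPr.fe_self, smul_eq_mul, smul_eq_mul]
      field_simp
    rw [show QuadraticMap.polar (⇑Q) (y : ι → F) (μ • S.e (0 : Fin 1).succ) = a from h2]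
    simp
  rw [← xi_xv_map hx hξ hw (rootE S y * k) (by rw [gmat_mul, ← Matrix.mulVec_mulVec, hk0, rootE_fix_e]), h1,
    xv_smul hx sing_e_one hμ]

theorem core_exists_ne (hS : IsOdd S) : ∃ z ∈ S.core, z ≠ 0 := by
  obtain ⟨z, hz⟩ := Fintype.exists_ne_of_one_lt_card
    (show 1 < Fintype.card S.core by rw [hS.card_core]; exact Fintype.one_lt_card) 0
  exact ⟨z, z.2, fun h => hz (Subtype.ext h)⟩

include hx in
/-- The two remaining values of the functional. -/
theorem xi_values (hS : IsOdd S) (hξ : GoodXi S τ x ξ) :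
    ξ (xv S τ x (S.e 1)) = -(Fintype.card F : ℂ)⁻¹ ∧ ξ (xv S τ x (S.f 0)) = ((Fintype.card F : ℂ)⁻¹) ^ 2 := by
  classical
  set α := ξ (xv S τ x (S.e 1)) with hα
  set β := ξ (xv S τ x (S.f 0)) with hβ
  have hsplit : ∀ c d : ℂ, ∑ a : F, (if a = 0 then c else d) = c + ((Fintype.card F : ℂ) - 1) * d := fun c d => by
    rw [← Finset.add_sum_erase _ _ (Finset.mem_univ (0 : F)), if_pos rfl,
      Finset.sum_congr rfl fun a ha => if_neg (Finset.ne_of_mem_erase ha), Finset.sum_const,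
      Finset.card_erase_of_mem (Finset.mem_univ _), Finset.card_univ, nsmul_eq_mul,
      Nat.cast_sub (Nat.one_le_iff_ne_zero.2 Fintype.card_ne_zero)]
    simp
  have hq0 : (Fintype.card F : ℂ) ≠ 0 := Nat.cast_ne_zero.2 Fintype.card_ne_zero
  have hq1 : (Fintype.card F : ℂ) - 1 ≠ 0 := by
    rw [sub_ne_zero]
    exact_mod_cast (Fintype.one_lt_card (α := F)).ne'
  have hA : α = -(Fintype.card F : ℂ)⁻¹ := by
    have h := congrArg ξ (line_sum hx)
    rw [map_sum, map_zero, Finset.sum_congr rfl (g := fun p : F × F => if p.2 = 0 then 1 else α) fun p hp => ?_] at h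
    · rw [Finset.sum_erase_eq_sub (Finset.mem_univ _), Fintype.sum_prod_type] at h
      simp only [Finset.sum_const, Finset.card_univ, nsmul_eq_mul, hsplit, Prod.snd_zero, if_true] at h
      have h2 : ((Fintype.card F : ℂ) - 1) * (1 + (Fintype.card F : ℂ) * α) = 0 := by linear_combination h
      have h3 := (mul_eq_zero.1 h2).resolve_left hq1
      rw [eq_neg_iff_add_eq_zero]
      field_simp
      linear_combination h3
    · have hp0 := Finset.ne_of_mem_erase hp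
      have hs : Sing S (p.1 • S.e 0 + p.2 • S.e 1) := sing_comb hp0
      by_cases h2 : p.2 = 0
      · rw [if_pos h2]
        exact xi_prop hx hξ hs (c := p.1) (by rw [h2, zero_smul, add_zero])
      · rw [if_neg h2]
        refine xi_coll hx hS hξ hs ?_ ?_
        · simp [QuadraticMap.polar_add_right, QuadraticMap.polar_smul_right, S.ee]
        · rintro ⟨c, hc⟩
          have := congrArg (QuadraticMap.polar (⇑Q) (S.f 1)) hc
          simp [QuadraticMap.polar_add_right, QuadraticMap.polar_smul_right, S.toPr.fe, h2] at this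
  refine ⟨hA, ?_⟩
  obtain ⟨z, hz, hz0⟩ := core_exists_ne hS
  obtain ⟨hzt, hzp⟩ := core_spec S hz
  have hzW : z ∈ S.W1 := ⟨hzt, (hzp 0).1, (hzp 0).2⟩
  obtain ⟨f1, -, f3⟩ := flipEl_spec S ⟨z, hzW⟩ (hS.core_ne z hz hz0)
  set g := flipEl S ⟨z, hzW⟩
  set d := -(Q z)⁻¹ with hd
  have hd0 : d ≠ 0 := neg_ne_zero.2 (inv_ne_zero (hS.core_ne z hz hz0))
  have f4 : gmat g *ᵥ S.e 1 = S.e 1 := by
    rw [f3 (S.e 1) (S.e_succ_mem 0), QuadraticMap.polar_comm]
    simp [(hzp 1).1]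
  have himg : ∀ p : F × F, gmat g *ᵥ (p.1 • S.e 0 + p.2 • S.e 1) = (p.1 * d) • S.f 0 + p.2 • S.e 1 := fun p => by
    rw [Matrix.mulVec_add, Matrix.mulVec_smul, Matrix.mulVec_smul, f1, f4, smul_smul]
  have h := congrArg (fun v => ξ (τ g v)) (line_sum hx)
  simp only [map_sum, map_zero] at h
  rw [Finset.sum_congr rfl (g := fun p : F × F => if p.1 = 0 then α else β) fun p hp => ?_] at h
  · rw [Finset.sum_erase_eq_sub (Finset.mem_univ _), Fintype.sum_prod_type,
      Finset.sum_congr rfl (g := fun a : F => if a = 0 then (Fintype.card F : ℂ) * α else (Fintype.card F : ℂ) * β)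
        fun a _ => by by_cases ha : a = 0 <;> simp [ha],
      hsplit, Prod.fst_zero, if_pos rfl] at h
    have h2 : ((Fintype.card F : ℂ) - 1) * (α + (Fintype.card F : ℂ) * β) = 0 := by linear_combination h
    have h3 := (mul_eq_zero.1 h2).resolve_left hq1
    rw [hA] at h3
    field_simp at h3 ⊢
    linear_combination h3
  · have hp0 := Finset.ne_of_mem_erase hp
    have hs : Sing S (p.1 • S.e 0 + p.2 • S.e 1) := sing_comb hp0
    rw [xv_map hx hs, himg]
    have hs' : Sing S ((p.1 * d) • S.f 0 + p.2 • S.e 1) := himg p ▸ hs.map S g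
    have hB : QuadraticMap.polar (⇑Q) (S.e 0) ((p.1 * d) • S.f 0 + p.2 • S.e 1) = p.1 * d := by
      simp [QuadraticMap.polar_add_right, QuadraticMap.polar_smul_right, S.ee, S.toPr.ef_self]
    by_cases h1 : p.1 = 0
    · rw [if_pos h1]
      refine xi_coll hx hS hξ hs' (by rw [hB, h1, zero_mul]) ?_
      rintro ⟨c, hc⟩
      have h2 : p.2 ≠ 0 := fun h2 => hp0 (Prod.ext h1 h2)
      have := congrArg (QuadraticMap.polar (⇑Q) (S.f 1)) hc
      simp [QuadraticMap.polar_add_right, QuadraticMap.polar_smul_right, S.toPr.fe, S.ff, h2] at this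
    · rw [if_neg h1]
      exact xi_opp hx hξ hs' (by rw [hB]; exact mul_ne_zero h1 hd0)

variable {ψ : AddChar F ℂ}

theorem wP_zero_mul_rootE (y : S.W1) (v : V) : wP ψ S τ 0 (τ (rootE S y) v) = wP ψ S τ 0 v := by
  have hc : τ (rootE S y) * wP ψ S τ 0 = wP ψ S τ 0 * τ (rootE S y) :=
    proj_comm _ _ _ fun a => by
      rw [resChar_apply, ← map_mul τ, ← map_mul τ, ← AddChar.map_add_eq_mul, ← AddChar.map_add_eq_mul, add_comm y a]
  rw [← Module.End.mul_apply, ← hc, rootE_mul_wP, QuadraticMap.polar_zero_right, AddChar.map_zero_eq_one, one_smul]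

variable (S τ x ψ) in
/-- The space holding all translates. -/
noncomputable def span2 : Submodule ℂ V :=
  Submodule.span ℂ (Set.range ![x, wP ψ S τ 0 (xv S τ x (S.f 0))]) ⊔ LinearMap.ker (wP ψ S τ 0)

include hx in
/-- The translates lie in a small space. -/
theorem xv_mem_span2 (hS : IsOdd S) (hxT : ∀ y, τ (rootE S y) x = x) {w : ι → F} (hw : Sing S w) :
    xv S τ x w ∈ span2 S τ x ψ := by
  classical
  have hker : ∀ v, v - wP ψ S τ 0 v ∈ LinearMap.ker (wP ψ S τ 0) := fun v => by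
    rw [LinearMap.mem_ker, map_sub, ← Module.End.mul_apply, wP_idem, sub_self]
  suffices h : wP ψ S τ 0 (xv S τ x w) ∈ Submodule.span ℂ (Set.range ![x, wP ψ S τ 0 (xv S τ x (S.f 0))]) by
    rw [← add_sub_cancel (wP ψ S τ 0 (xv S τ x w)) (xv S τ x w)]
    exact Submodule.add_mem _ (Submodule.mem_sup_left h) (Submodule.mem_sup_right (hker _))
  have hx0 : wP ψ S τ 0 x = x := by
    obtain ⟨u, hu⟩ := (mem_range_wP_zero (ψ := ψ) S τ x).2 hxT
    rw [← hu, ← Module.End.mul_apply, wP_idem]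
  have hxmem : x ∈ Submodule.span ℂ (Set.range ![x, wP ψ S τ 0 (xv S τ x (S.f 0))]) :=
    Submodule.subset_span ⟨0, rfl⟩
  by_cases hB : QuadraticMap.polar (⇑Q) (S.e 0) w = 0
  swap
  · obtain ⟨y, hy⟩ := opp_move hw hB
    have h := wP_zero_mul_rootE (τ := τ) (ψ := ψ) y (xv S τ x w)
    rw [xv_map hx hw, hy, xv_smul hx sing_f hB] at h
    rw [← h]
    exact Submodule.subset_span ⟨1, rfl⟩
  by_cases hp : ∃ c : F, w = c • S.e 0
  · obtain ⟨c, rfl⟩ := hp
    rw [xv_smul hx (sing_e S) fun h => hw.2.1 (by rw [h, zero_smul]), xv_e hx, hx0]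
    exact hxmem
  obtain ⟨hd, hq, h0⟩ := coll_decomp hw hB hp
  set z := S.proj w
  have hzW : z ∈ S.W1 := S.proj_mem hw.1
  set a := QuadraticMap.polar (⇑Q) (S.f 0) w
  have hsz : ∀ s : F, Sing S (s • S.e 0 + z) := fun s => by
    refine ⟨S.top.add_mem (S.top.smul_mem _ (S.e_mem 0)) hzW.1, fun h => ?_, ?_⟩
    · apply h0
      have h1 := congrArg (QuadraticMap.polar (⇑Q) (S.f 0)) h
      rw [QuadraticMap.polar_add_right, QuadraticMap.polar_smul_right, S.toPr.fe_self, hzW.2.2] at h1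
      simp at h1
      rwa [h1, zero_smul, zero_add] at h
    · rw [show s • S.e 0 + z = s • S.e 0 + (0 : F) • S.f 0 + z by rw [zero_smul, add_zero], S.quad_comb _ _ hzW, hq]
      simp
  have hmove : ∀ s : F, wP ψ S τ 0 (xv S τ x (s • S.e 0 + z)) = wP ψ S τ 0 (xv S τ x w) := by
    intro s
    obtain ⟨y1, hy1, hyz⟩ : ∃ y ∈ S.W1, QuadraticMap.polar (⇑Q) y z = 1 := by
      obtain ⟨y, hy, hyz⟩ : ∃ y ∈ S.W1, QuadraticMap.polar (⇑Q) z y ≠ 0 := by
        by_contra h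
        push Not at h
        exact h0 (S.sep_W1 hzW h)
      refine ⟨(QuadraticMap.polar (⇑Q) z y)⁻¹ • y, S.W1.smul_mem _ hy, ?_⟩
      rw [QuadraticMap.polar_smul_left, QuadraticMap.polar_comm (⇑Q) y z, smul_eq_mul, inv_mul_cancel₀ hyz]
    set y : S.W1 := ⟨(s - a) • y1, S.W1.smul_mem _ hy1⟩
    have e : gmat (rootE S y) *ᵥ (s • S.e 0 + z) = w := by
      rw [show s • S.e 0 + z = s • S.e 0 + (0 : F) • S.f 0 + z by rw [zero_smul, add_zero]]
      refine (S.eich_e_apply _ _ hzW y.2).trans ?_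
      rw [show QuadraticMap.polar (⇑Q) (y : ι → F) z = (s - a) by
        show QuadraticMap.polar (⇑Q) ((s - a) • y1) z = _
        rw [QuadraticMap.polar_smul_left, hyz, smul_eq_mul, mul_one], hd]
      simp
    have h := wP_zero_mul_rootE (τ := τ) (ψ := ψ) y (xv S τ x (s • S.e 0 + z))
    rw [xv_map hx (hsz s), e] at h
    exact h.symm
  -- the singular line through the first vector and `z`
  obtain ⟨k, μ, hμ, hk, hk0, -, -⟩ := exists_inner' (τ := τ) hS hzW h0 hq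
  have hk1 : gmat k⁻¹ *ᵥ S.e 1 = μ⁻¹ • z :=
    gmat_inv_mulVec (by rw [Matrix.mulVec_smul, hk, smul_smul, inv_mul_cancel₀ hμ, one_smul])
  have h := congrArg (fun v => wP ψ S τ 0 (τ k⁻¹ v)) (line_sum hx)
  simp only [map_sum, map_zero] at h
  rw [Finset.sum_congr rfl (g := fun p : F × F => if p.2 = 0 then x else wP ψ S τ 0 (xv S τ x w)) fun p hp => ?_,
    Finset.sum_erase_eq_sub (Finset.mem_univ _), Fintype.sum_prod_type] at h
  · have hin : ∑ b : F, (if b = 0 then x else wP ψ S τ 0 (xv S τ x w)) =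
        x + (Fintype.card F - 1) • wP ψ S τ 0 (xv S τ x w) := by
      rw [← Finset.add_sum_erase _ _ (Finset.mem_univ (0 : F)), if_pos rfl,
        Finset.sum_congr rfl fun b hb => if_neg (Finset.ne_of_mem_erase hb), Finset.sum_const,
        Finset.card_erase_of_mem (Finset.mem_univ _), Finset.card_univ]
    simp only [Prod.snd_zero, if_true, hin, Finset.sum_const, Finset.card_univ] at h
    simp only [← Nat.cast_smul_eq_nsmul ℂ] at h
    set qq : ℂ := (Fintype.card F : ℂ)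
    set rr : ℂ := ((Fintype.card F - 1 : ℕ) : ℂ)
    have hrr : rr ≠ 0 := Nat.cast_ne_zero.2 (by have := Fintype.one_lt_card (α := F); omega)
    have hqq : qq ≠ 0 := Nat.cast_ne_zero.2 Fintype.card_ne_zero
    have h2 : (qq * rr) • wP ψ S τ 0 (xv S τ x w) = (1 - qq) • x := by
      rw [smul_add, smul_smul, sub_eq_zero] at h
      rw [sub_smul, one_smul, eq_sub_iff_add_eq, add_comm, h]
    rw [← inv_smul_smul₀ (mul_ne_zero hqq hrr) (wP ψ S τ 0 (xv S τ x w)), h2]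
    exact Submodule.smul_mem _ _ (Submodule.smul_mem _ _ hxmem)
  · have hp0 := Finset.ne_of_mem_erase hp
    rw [xv_map hx (sing_comb hp0), Matrix.mulVec_add, Matrix.mulVec_smul, Matrix.mulVec_smul,
      gmat_inv_mulVec hk0, hk1, smul_smul]
    by_cases h2 : p.2 = 0
    · rw [if_pos h2, h2, zero_mul, zero_smul, add_zero,
        xv_smul hx (sing_e S) fun h1 => hp0 (Prod.ext h1 h2), xv_e hx, hx0]
    · have hc : p.2 * μ⁻¹ ≠ 0 := mul_ne_zero h2 (inv_ne_zero hμ)
      rw [if_neg h2, show p.1 • S.e 0 + (p.2 * μ⁻¹) • z = (p.2 * μ⁻¹) • ((p.1 / (p.2 * μ⁻¹)) • S.e 0 + z) by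
        rw [smul_add, smul_smul, mul_div_cancel₀ _ hc], xv_smul hx (hsz _) hc, hmove]

theorem finrank_span2 (hS : IsOdd S) (hψ : ψ.IsPrimitive) (hSing : SingOnce S τ ψ) :
    finrank ℂ (span2 S τ x ψ) ≤ Fintype.card F ^ 2 + 1 := by
  have h3 := finrank_step (m := 1) S hS τ hψ hSing
  have h4 := LinearMap.finrank_range_add_finrank_ker (wP ψ S τ 0)
  rw [rnk] at h3
  have h1 : finrank ℂ (Submodule.span ℂ (Set.range ![x, wP ψ S τ 0 (xv S τ x (S.f 0))])) ≤ 2 :=
    (finrank_range_le_card _).trans (by simp)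
  refine (Submodule.finrank_add_le_finrank_add_finrank _ _).trans ?_
  rw [show 2 * 1 = 2 from rfl] at h3
  omega

open Classical in
variable (S) in
/-- The Gram pattern of the translates. -/
noncomputable def pat (u w : ι → F) : ℝ :=
  if Sing S u ∧ Sing S w then
    (if ∃ c : F, w = c • u then 1
      else if QuadraticMap.polar (⇑Q) u w = 0 then -(Fintype.card F : ℝ)⁻¹ else ((Fintype.card F : ℝ)⁻¹) ^ 2)
  else 0

theorem pat_symm (u w : ι → F) : pat S u w = pat S w u := by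
  classical
  by_cases h : Sing S u ∧ Sing S w
  swap
  · rw [pat, pat, if_neg h, if_neg fun h' => h h'.symm]
  have h1 : (∃ c : F, w = c • u) ↔ ∃ c : F, u = c • w := by
    constructor <;> rintro ⟨c, hc⟩
    · have h0 : c ≠ 0 := fun h0 => h.2.2.1 (by rw [hc, h0, zero_smul])
      exact ⟨c⁻¹, by rw [hc, smul_smul, inv_mul_cancel₀ h0, one_smul]⟩
    · have h0 : c ≠ 0 := fun h0 => h.1.2.1 (by rw [hc, h0, zero_smul])
      exact ⟨c⁻¹, by rw [hc, smul_smul, inv_mul_cancel₀ h0, one_smul]⟩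
  rw [pat, pat, if_pos h, if_pos h.symm, QuadraticMap.polar_comm (⇑Q) w u]
  exact if_congr h1 rfl rfl

theorem pat_map (g : ↥(gw Q S.top)) {u w : ι → F} (hu : u ∈ S.top) (hw : w ∈ S.top) :
    pat S (gmat g *ᵥ u) (gmat g *ᵥ w) = pat S u w := by
  classical
  have hinv : ∀ v : ι → F, gmat g⁻¹ *ᵥ (gmat g *ᵥ v) = v := fun v => gmat_inv_mulVec rfl
  have hs : ∀ v ∈ S.top, (Sing S (gmat g *ᵥ v) ↔ Sing S v) := fun v _ =>
    ⟨fun h => hinv v ▸ h.map S g⁻¹, fun h => h.map S g⟩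
  have h1 : (∃ c : F, gmat g *ᵥ w = c • (gmat g *ᵥ u)) ↔ ∃ c : F, w = c • u := by
    constructor <;> rintro ⟨c, hc⟩
    · exact ⟨c, by rw [← hinv w, hc, Matrix.mulVec_smul, hinv]⟩
    · exact ⟨c, by rw [hc, Matrix.mulVec_smul]⟩
  rw [pat, pat, show QuadraticMap.polar (⇑Q) (gmat g *ᵥ u) (gmat g *ᵥ w) = QuadraticMap.polar (⇑Q) u w from
    polar_mulVec Q _ _ _]
  exact if_congr (and_congr (hs u hu) (hs w hw)) (if_congr h1 rfl rfl) rfl

include hx in
theorem pat_eq (hS : IsOdd S) (hξ : GoodXi S τ x ξ) {u w : ι → F} (hu : Sing S u) (hw : Sing S w) :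
    (pat S u w : ℂ) = ξ (τ (selEl S u)⁻¹ (xv S τ x w)) := by
  classical
  set g := selEl S u
  have hg : gmat g *ᵥ S.e 0 = u := selEl_spec S hu
  set w' := gmat g⁻¹ *ᵥ w with hw'
  have hs : Sing S w' := hw.map S g⁻¹
  have hgw : gmat g *ᵥ w' = w := by
    rw [hw', Matrix.mulVec_mulVec, ← gmat_mul, mul_inv_cancel, gmat_one, Matrix.one_mulVec]
  rw [xv_map hx hw, ← hw', ← hg, ← hgw, pat_map g (S.e_mem 0) hs.1, pat, if_pos ⟨sing_e S, hs⟩]
  obtain ⟨hα, hβ⟩ := xi_values hx hS hξ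
  by_cases hp : ∃ c : F, w' = c • S.e 0
  · obtain ⟨c, hc⟩ := hp
    rw [if_pos ⟨c, hc⟩, xi_prop hx hξ hs hc]
    simp
  rw [if_neg hp]
  by_cases hB : QuadraticMap.polar (⇑Q) (S.e 0) w' = 0
  · rw [if_pos hB, xi_coll hx hS hξ hs hB hp, hα]
    push_cast
    rfl
  · rw [if_neg hB, xi_opp hx hξ hs hB, hβ]
    push_cast
    rfl

theorem card_sing (hS : IsOdd S) :
    ((Finset.univ : Finset S.top).filter fun w : S.top => (w : ι → F) ≠ 0 ∧ Q (w : ι → F) = 0).card + 1 =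
      Fintype.card F ^ 4 := by
  classical
  have h : ((Finset.univ : Finset S.top).filter fun w : S.top => (w : ι → F) ≠ 0 ∧ Q (w : ι → F) = 0) =
      ((Finset.univ : Finset S.top).filter fun w : S.top => Q (w : ι → F) = 0).erase 0 := by
    ext w
    simp
  rw [h, Finset.card_erase_add_one (by simp), ← odd_cnt_zero S hS]
  rfl

theorem card_coll (hS : IsOdd S) :
    ((Finset.univ : Finset S.top).filter fun w : S.top =>
      ((w : ι → F) ≠ 0 ∧ Q (w : ι → F) = 0) ∧ QuadraticMap.polar (⇑Q) (S.e 0) (w : ι → F) = 0).card + 1 =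
      Fintype.card F ^ 3 := by
  classical
  have h : ((Finset.univ : Finset S.top).filter fun w : S.top =>
      ((w : ι → F) ≠ 0 ∧ Q (w : ι → F) = 0) ∧ QuadraticMap.polar (⇑Q) (S.e 0) (w : ι → F) = 0) =
      ((Finset.univ : Finset S.top).filter fun w : S.top =>
        Q (w : ι → F) = 0 ∧ QuadraticMap.polar (⇑Q) (S.e 0) (w : ι → F) = 0).erase 0 := by
    ext w
    simp [and_assoc]
  have h2 : cnt Q S.W1 0 = Fintype.card F ^ 2 := odd_cnt_zero S.tail hS.tail
  rw [h, Finset.card_erase_add_one (by simp), pow_succ', ← h2, cnt, ← Finset.card_univ (α := F),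
    ← Finset.card_product]
  refine Finset.card_bij' (fun w _ => (QuadraticMap.polar (⇑Q) (S.f 0) (w : ι → F), ⟨S.proj w, S.proj_mem w.2⟩))
    (fun p _ => S.coordEquiv (p.1, 0, p.2)) ?_ ?_ ?_ ?_
  · intro w hw
    obtain ⟨-, hq, hB⟩ := Finset.mem_filter.1 hw
    refine Finset.mem_product.2 ⟨Finset.mem_univ _, Finset.mem_filter.2 ⟨Finset.mem_univ _, ?_⟩⟩
    have h := congrArg Q (S.decomp w)
    rw [hq, S.quad_comb _ _ (S.proj_mem w.2), hB, mul_zero, zero_add] at h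
    exact h.symm
  · intro p hp
    refine Finset.mem_filter.2 ⟨Finset.mem_univ _, ?_, ?_⟩
    · rw [S.coordEquiv_apply, S.quad_comb _ _ p.2.2, (Finset.mem_filter.1 (Finset.mem_product.1 hp).2).2]
      simp
    · rw [S.coordEquiv_apply]
      simp [QuadraticMap.polar_add_right, QuadraticMap.polar_smul_right, S.ee, p.2.2.2.1]
  · intro w hw
    obtain ⟨-, -, hB⟩ := Finset.mem_filter.1 hw
    refine Subtype.ext ?_
    rw [S.coordEquiv_apply]
    conv_rhs => rw [S.decomp w, hB]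
  · intro p _
    have h := S.coordEquiv.symm_apply_apply (p.1, 0, p.2)
    have h1 := congrArg Prod.fst h
    have h2 := congrArg (fun t : F × F × S.W1 => t.2.2) h
    exact Prod.ext h1 h2

theorem card_prop :
    ((Finset.univ : Finset S.top).filter fun w : S.top =>
      (w : ι → F) ≠ 0 ∧ ∃ c : F, (w : ι → F) = c • S.e 0).card + 1 = Fintype.card F := by
  classical
  have h : ((Finset.univ : Finset S.top).filter fun w : S.top =>
      (w : ι → F) ≠ 0 ∧ ∃ c : F, (w : ι → F) = c • S.e 0) =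
      ((Finset.univ : Finset F).erase 0).image fun c => ⟨c • S.e 0, S.top.smul_mem c (S.e_mem 0)⟩ := by
    ext w
    simp only [Finset.mem_filter, Finset.mem_univ, true_and, Finset.mem_image, Finset.mem_erase, and_true]
    constructor
    · rintro ⟨hw, c, hc⟩
      exact ⟨c, fun h0 => hw (by rw [hc, h0, zero_smul]), Subtype.ext hc.symm⟩
    · rintro ⟨c, hc, rfl⟩
      exact ⟨smul_ne_zero hc (S.toPr.e_ne_zero 0), c, rfl⟩
  rw [h, Finset.card_image_of_injective _ fun a b hab => smul_left_injective F (S.toPr.e_ne_zero 0)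
    (congrArg Subtype.val hab), Finset.card_erase_add_one (Finset.mem_univ _), Finset.card_univ]

theorem row_sum (hS : IsOdd S) {u : ι → F} (hu : Sing S u) :
    ∑ w : S.top, pat S u (w : ι → F) ^ 2 =
      2 * ((Fintype.card F : ℝ) ^ 2 - 1) / Fintype.card F := by
  classical
  set g := selEl S u
  have hg : gmat g *ᵥ S.e 0 = u := selEl_spec S hu
  let e : S.top ≃ S.top :=
    { toFun := fun w => ⟨gmat g *ᵥ (w : ι → F), (gw_spec g.2).1 _ w.2⟩
      invFun := fun w => ⟨gmat g⁻¹ *ᵥ (w : ι → F), (gw_spec (g⁻¹).2).1 _ w.2⟩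
      left_inv := fun w => Subtype.ext (gmat_inv_mulVec rfl)
      right_inv := fun w => Subtype.ext (by
        show gmat g *ᵥ (gmat g⁻¹ *ᵥ (w : ι → F)) = w
        rw [Matrix.mulVec_mulVec, ← gmat_mul, mul_inv_cancel, gmat_one, Matrix.one_mulVec]) }
  set r : ℝ := (Fintype.card F : ℝ)⁻¹ with hr
  have hterm : ∀ w : S.top, pat S u (e w : ι → F) ^ 2 =
      (if (w : ι → F) ≠ 0 ∧ Q (w : ι → F) = 0 then r ^ 4 else 0) +
      (if ((w : ι → F) ≠ 0 ∧ Q (w : ι → F) = 0) ∧ QuadraticMap.polar (⇑Q) (S.e 0) (w : ι → F) = 0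
        then r ^ 2 - r ^ 4 else 0) +
      (if (w : ι → F) ≠ 0 ∧ ∃ c : F, (w : ι → F) = c • S.e 0 then 1 - r ^ 2 else 0) := fun w => by
    show pat S u (gmat g *ᵥ (w : ι → F)) ^ 2 = _
    rw [← hg, pat_map g (S.e_mem 0) w.2, pat]
    have hiff : Sing S (S.e 0) ∧ Sing S (w : ι → F) ↔ (w : ι → F) ≠ 0 ∧ Q (w : ι → F) = 0 :=
      ⟨fun h => h.2.2, fun h => ⟨sing_e S, w.2, h⟩⟩
    by_cases hs : (w : ι → F) ≠ 0 ∧ Q (w : ι → F) = 0
    swap
    · rw [if_neg (hiff.not.2 hs), if_neg hs, if_neg fun h => hs h.1, if_neg]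
      · simp
      rintro ⟨h1, c, hc⟩
      exact hs ⟨h1, by rw [hc, QuadraticMap.map_smul, S.qe, smul_zero]⟩
    rw [if_pos (hiff.2 hs), if_pos hs]
    by_cases hp : ∃ c : F, (w : ι → F) = c • S.e 0
    · obtain ⟨c, hc⟩ := hp
      rw [if_pos ⟨c, hc⟩, if_pos ⟨hs, by rw [hc, QuadraticMap.polar_smul_right, S.ee, smul_zero]⟩,
        if_pos ⟨hs.1, c, hc⟩]
      ring
    rw [if_neg hp, if_neg (c := (w : ι → F) ≠ 0 ∧ ∃ c : F, (w : ι → F) = c • S.e 0) fun h => hp h.2]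
    by_cases hB : QuadraticMap.polar (⇑Q) (S.e 0) (w : ι → F) = 0
    · rw [if_pos hB, if_pos ⟨hs, hB⟩]; ring
    · rw [if_neg hB, if_neg fun h => hB h.2]; ring
  have key : ∀ (p : S.top → Prop) [DecidablePred p] (c : ℝ) (n : ℕ), (Finset.univ.filter p).card + 1 = n →
      ∑ w : S.top, (if p w then c else 0) = ((n : ℝ) - 1) * c := fun p _ c n hn => by
    rw [← Finset.sum_filter, Finset.sum_const, nsmul_eq_mul, ← hn]
    push_cast
    ring
  rw [← Equiv.sum_comp e, Finset.sum_congr rfl fun w _ => hterm w, Finset.sum_add_distrib, Finset.sum_add_distrib,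
    key _ _ _ (card_sing hS), key _ _ _ (card_coll hS), key _ _ _ card_prop, hr]
  have hq : (Fintype.card F : ℝ) ≠ 0 := Nat.cast_ne_zero.2 Fintype.card_ne_zero
  push_cast
  field_simp
  ring

include hx in
/-- Too many independent translates. -/
theorem good_false (hS : IsOdd S) (hψ : ψ.IsPrimitive) (hq : 4 ≤ Fintype.card F) (hSing : SingOnce S τ ψ)
    (hxT : ∀ y, τ (rootE S y) x = x) : False := by
  classical
  obtain ⟨ξ, hξ⟩ := exists_xi hx
  set r := (Matrix.of fun a b : S.top => (pat S (a : ι → F) (b : ι → F) : ℂ)).rank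
  have hr : r ≤ Fintype.card F ^ 2 + 1 := by
    refine le_trans ?_ (finrank_span2 (τ := τ) (x := x) hS hψ hSing)
    let xs : S.top → V := fun b => if Sing S (b : ι → F) then xv S τ x b else 0
    let Φ : V →ₗ[ℂ] (S.top → ℂ) :=
      LinearMap.pi fun a => if Sing S (a : ι → F) then ξ.comp (τ (selEl S (a : ι → F))⁻¹) else 0
    have hcomp : Matrix.mulVecLin (Matrix.of fun a b : S.top => (pat S (a : ι → F) (b : ι → F) : ℂ)) =
        Φ.comp (Fintype.linearCombination ℂ xs) := by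
      refine LinearMap.ext fun c => funext fun a => ?_
      rw [Matrix.mulVecLin_apply, LinearMap.comp_apply, Fintype.linearCombination_apply, map_sum, Finset.sum_apply]
      refine Finset.sum_congr rfl fun b _ => ?_
      simp only [Matrix.of_apply, map_smul, Pi.smul_apply, smul_eq_mul, Φ, xs, LinearMap.pi_apply]
      by_cases ha : Sing S (a : ι → F)
      swap
      · rw [if_neg ha, pat, if_neg fun h => ha h.1]
        simp
      by_cases hb : Sing S (b : ι → F)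
      · rw [if_pos ha, if_pos hb, LinearMap.comp_apply, ← pat_eq hx hS hξ ha hb, mul_comm]
      · rw [if_neg hb, pat, if_neg fun h => hb h.2]
        simp
    show finrank ℂ (LinearMap.range (Matrix.mulVecLin _)) ≤ _
    rw [hcomp, LinearMap.range_comp]
    refine (Submodule.finrank_map_le _ _).trans (Submodule.finrank_mono ?_)
    rintro v ⟨c, rfl⟩
    rw [Fintype.linearCombination_apply]
    refine Submodule.sum_mem _ fun b _ => Submodule.smul_mem _ _ ?_
    by_cases hb : Sing S (b : ι → F)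
    · simp only [xs, if_pos hb]; exact xv_mem_span2 hx hS hxT hb
    · simp only [xs, if_neg hb]; exact Submodule.zero_mem _
  have h := sq_trace_le (fun a b : S.top => pat S (a : ι → F) (b : ι → F)) fun a b => pat_symm _ _
  have hcard := card_sing (S := S) hS
  set N := ((Finset.univ : Finset S.top).filter fun w : S.top => (w : ι → F) ≠ 0 ∧ Q (w : ι → F) = 0).card
  have hdiag : ∑ a : S.top, pat S (a : ι → F) (a : ι → F) = N := by
    rw [← Finset.sum_boole]
    refine Finset.sum_congr rfl fun a _ => ?_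
    by_cases hs : (a : ι → F) ≠ 0 ∧ Q (a : ι → F) = 0
    · rw [if_pos hs, pat, if_pos ⟨⟨a.2, hs⟩, a.2, hs⟩, if_pos ⟨1, (one_smul _ _).symm⟩]
    · rw [if_neg hs, pat, if_neg fun h => hs h.1.2]
  have hsq : ∑ a : S.top, ∑ b : S.top, pat S (a : ι → F) (b : ι → F) ^ 2 =
      N * (2 * ((Fintype.card F : ℝ) ^ 2 - 1) / Fintype.card F) := by
    rw [← Finset.sum_boole, Finset.sum_mul]
    refine Finset.sum_congr rfl fun a _ => ?_
    by_cases hs : (a : ι → F) ≠ 0 ∧ Q (a : ι → F) = 0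
    · rw [if_pos hs, one_mul, row_sum hS ⟨a.2, hs⟩]
    · rw [if_neg hs, zero_mul]
      exact Finset.sum_eq_zero fun b _ => by rw [pat, if_neg fun h => hs h.1.2]; simp
  rw [hdiag, hsq] at h
  have hN : (N : ℝ) = (Fintype.card F : ℝ) ^ 4 - 1 := by
    rw [eq_sub_iff_add_eq]; exact_mod_cast hcard
  have hq' : (4 : ℝ) ≤ Fintype.card F := by exact_mod_cast hq
  have hr' : (r : ℝ) ≤ (Fintype.card F : ℝ) ^ 2 + 1 := by exact_mod_cast hr
  set q := (Fintype.card F : ℝ)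
  have hq2 : 0 < q ^ 2 - 1 := by nlinarith
  have hNpos : 0 < (N : ℝ) := by rw [hN]; nlinarith [mul_pos hq2 (show 0 < q ^ 2 + 1 by positivity)]
  have h2 : (N : ℝ) ^ 2 ≤ (q ^ 2 + 1) * (N * (2 * (q ^ 2 - 1) / q)) :=
    h.trans (mul_le_mul_of_nonneg_right hr' (by positivity))
  have h3 : (N : ℝ) * q ≤ 2 * N := by
    rw [show (q ^ 2 + 1) * ((N : ℝ) * (2 * (q ^ 2 - 1) / q)) = N * (2 * N) / q by rw [hN]; ring,
      le_div_iff₀ (by linarith)] at h2
    refine le_of_mul_le_mul_left ?_ hNpos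
    linarith [sq (N : ℝ), mul_assoc (N : ℝ) N q]
  nlinarith

end rank

theorem torusGrp_two (t : torusGrp F 2) : t = pairTuple 0 1 (t.1 0) := by
  have hprod : t.1 0 * t.1 1 = 1 := by
    have := t.2
    rwa [show (t.1 0 * t.1 1 = 1) ↔ ∏ j, t.1 j = 1 by rw [Fin.prod_univ_two]]
  refine Subtype.ext (funext fun j => ?_)
  fin_cases j
  · simp [pairTuple]
  · simp [pairTuple, eq_inv_of_mul_eq_one_right hprod]

/-- A torus-fixed vector of the common fixed space is fixed by the node. -/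
theorem node_fixes {ψ : AddChar F ℂ} (hψ : ψ.IsPrimitive) (hq : 4 ≤ Fintype.card F) (S : Fr Q 2) (hS : IsOdd S)
    (hsp : Spin S) (τ : Representation ℂ ↥(gw Q S.top) V) (hSing : SingOnce S τ ψ) {v : V} (hv : v ∈ fixT S τ)
    (htor : ∀ t, τ (dEl S t) v = v) (k : Matrix.SpecialLinearGroup (Fin 2) F) : τ (node S 0 k) v = v := by
  classical
  set x := v - nodeAvg S 0 τ v with hx
  suffices h : x = 0 by
    rw [hx, sub_eq_zero] at h
    rw [h]
    exact node_mul_avg S 0 τ k v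
  by_contra hne
  have hxT : x ∈ fixT S τ := (fixT S τ).sub_mem hv (nodeAvg_mem S 0 τ hv)
  have htx : ∀ t, τ (dEl S t) x = x := fun t => by
    have hd : dEl S t = node S 0 (diagTwo (t.1 0)) := by
      rw [node_diag_eq]
      exact congrArg (dEl S) (torusGrp_two t)
    rw [hx, map_sub, htor t, hd, node_mul_avg]
  have hroots : FixRoots S τ x := ⟨fun i y => hxT i y, fun y => (chain hψ hq 1 S hS τ hSing).2 x hxT y⟩
  refine good_false (ψ := ψ) (x := x) (S := S) (τ := τ) ⟨hne, stab_fix S τ hS hsp hroots htx, ?_⟩ hS hψ hq hSing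
    fun y => hxT 0 ⟨y, by rw [perp_zero_eq]; exact y.2⟩
  have hsum : ∀ u, ∑ l, τ (node S 0 l) u =
      (Fintype.card (Matrix.SpecialLinearGroup (Fin 2) F) : ℂ) • nodeAvg S 0 τ u := fun u => by
    rw [nodeAvg, LinearMap.smul_apply, smul_inv_smul₀ (Nat.cast_ne_zero.2 Fintype.card_ne_zero), LinearMap.sum_apply]
  rw [hsum, hx, map_sub, nodeAvg_apply_avg, sub_self, smul_zero]

end CfsgLib.OrthDeg
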