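import Cfsg.Agent.OrthDeg.OddNode

/-!
# Diagonal elements and the intertwiner of a node
-/

set_option autoImplicit false
set_option linter.unusedSectionVars false

namespace CfsgLib.OrthDeg

open Matrix Module CfsgLib.Forms CfsgLib.Spinor CfsgLib.Forms4 CfsgLib.RepBounds

variable {F : Type*} [Field F] [Fintype F] [DecidableEq F] {ι : Type} [Fintype ι] [DecidableEq ι]
  {Q : QuadraticForm F (ι → F)}

noncomputable local instance subFintypeOddTorus (S : Submodule F (ι → F)) : Fintype S := Fintype.ofFinite S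

theorem top_le_of_mem : ∀ {k : ℕ} (R : Fr Q k) (L : Submodule F (ι → F)),
    (∀ j, R.e j ∈ L ∧ R.f j ∈ L) → R.core ≤ L → R.top ≤ L
  | 0, R, L, _, hc => hc
  | k + 1, R, L, he, hc => fun x hx => by
    have h := top_le_of_mem R.tail L (fun j => he j.succ) hc (R.proj_mem hx)
    rw [R.decomp x]
    exact L.add_mem (L.add_mem (L.smul_mem _ (he 0).1) (L.smul_mem _ (he 0).2)) h

/-- An element of `gw` is determined on the pairs and the core. -/
theorem gw_ext {k : ℕ} (R : Fr Q k) {g h : ↥(gw Q R.top)}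
    (he : ∀ j, gmat g *ᵥ R.e j = gmat h *ᵥ R.e j) (hf : ∀ j, gmat g *ᵥ R.f j = gmat h *ᵥ R.f j)
    (hc : ∀ z ∈ R.core, gmat g *ᵥ z = gmat h *ᵥ z) : g = h := by
  let L : Submodule F (ι → F) := LinearMap.eqLocus (Matrix.toLin' (gmat g)) (Matrix.toLin' (gmat h))
  have hmem : ∀ x, gmat g *ᵥ x = gmat h *ᵥ x → x ∈ L := fun x hx => by
    show Matrix.toLin' (gmat g) x = Matrix.toLin' (gmat h) x
    rw [Matrix.toLin'_apply, Matrix.toLin'_apply, hx]
  have hL : R.top ≤ L := top_le_of_mem R L (fun j => ⟨hmem _ (he j), hmem _ (hf j)⟩) fun z hz => hmem z (hc z hz)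
  refine Subtype.ext (mat_ext Q (Matrix.ext_iff_mulVec.2 fun x => ?_))
  let B : R.top →ₗ[F] Module.Dual F R.top :=
    LinearMap.mk₂ F (fun a b => QuadraticMap.polar (⇑Q) (a : ι → F) (b : ι → F))
      (fun a a' b => by simp [QuadraticMap.polar_add_left]) (fun c a b => by simp [QuadraticMap.polar_smul_left])
      (fun a b b' => by simp [QuadraticMap.polar_add_right]) (fun c a b => by simp [QuadraticMap.polar_smul_right])
  have hBinj : Function.Injective B := (injective_iff_map_eq_zero B).2 fun a ha => Subtype.ext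
    (R.sep _ a.2 fun y hy => LinearMap.congr_fun ha ⟨y, hy⟩)
  have hBsurj : Function.Surjective B :=
    (LinearMap.injective_iff_surjective_of_finrank_eq_finrank (by rw [Subspace.dual_finrank_eq])).1 hBinj
  obtain ⟨p, hp⟩ := hBsurj (((QuadraticMap.polarBilin Q) x).comp R.top.subtype)
  have hperp : ∀ y ∈ R.top, QuadraticMap.polar (⇑Q) y (x - (p : ι → F)) = 0 := fun y hy => by
    have h1 : QuadraticMap.polar (⇑Q) (p : ι → F) y = QuadraticMap.polar (⇑Q) x y := LinearMap.congr_fun hp ⟨y, hy⟩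
    rw [QuadraticMap.polar_sub_right, QuadraticMap.polar_comm (⇑Q) y x, QuadraticMap.polar_comm (⇑Q) y, h1, sub_self]
  have h1 : gmat g *ᵥ (p : ι → F) = gmat h *ᵥ (p : ι → F) := by
    have h2 : Matrix.toLin' (gmat g) (p : ι → F) = Matrix.toLin' (gmat h) (p : ι → F) := hL p.2
    rwa [Matrix.toLin'_apply, Matrix.toLin'_apply] at h2
  show gmat g *ᵥ x = gmat h *ᵥ x
  rw [show x = (p : ι → F) + (x - (p : ι → F)) by abel, Matrix.mulVec_add, Matrix.mulVec_add, h1,
    show gmat g *ᵥ (x - (p : ι → F)) = _ from (gw_spec g.2).2 _ hperp,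
    show gmat h *ᵥ (x - (p : ι → F)) = _ from (gw_spec h.2).2 _ hperp]

/-- A diagonal element. -/
structure IsDiag {k : ℕ} (R : Fr Q k) (g : ↥(gw Q R.top)) (x : Fin k → Fˣ) : Prop where
  he : ∀ j, gmat g *ᵥ R.e j = (x j : F) • R.e j
  hf : ∀ j, gmat g *ᵥ R.f j = (x j : F)⁻¹ • R.f j
  hz : ∀ z ∈ R.core, gmat g *ᵥ z = z

theorem IsDiag.eq {k : ℕ} {R : Fr Q k} {g h : ↥(gw Q R.top)} {x : Fin k → Fˣ} (hg : IsDiag R g x)
    (hh : IsDiag R h x) : g = h :=
  gw_ext R (fun j => (hg.he j).trans (hh.he j).symm) (fun j => (hg.hf j).trans (hh.hf j).symm)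
    fun z hz => (hg.hz z hz).trans (hh.hz z hz).symm

theorem IsDiag.one {k : ℕ} (R : Fr Q k) : IsDiag R 1 1 :=
  ⟨fun j => by simp [gmat_one], fun j => by simp [gmat_one], fun z _ => by simp [gmat_one]⟩

theorem IsDiag.mul {k : ℕ} {R : Fr Q k} {g h : ↥(gw Q R.top)} {x y : Fin k → Fˣ} (hg : IsDiag R g x)
    (hh : IsDiag R h y) : IsDiag R (g * h) (x * y) := by
  refine ⟨fun j => ?_, fun j => ?_, fun z hz => ?_⟩
  · rw [gmat_mul, ← Matrix.mulVec_mulVec, hh.he, Matrix.mulVec_smul, hg.he, smul_smul, mul_comm]; simp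
  · rw [gmat_mul, ← Matrix.mulVec_mulVec, hh.hf, Matrix.mulVec_smul, hg.hf, smul_smul, mul_comm]; simp [mul_comm]
  · rw [gmat_mul, ← Matrix.mulVec_mulVec, hh.hz z hz, hg.hz z hz]

theorem IsDiag.inv {k : ℕ} {R : Fr Q k} {g : ↥(gw Q R.top)} {x : Fin k → Fˣ} (hg : IsDiag R g x) :
    IsDiag R g⁻¹ x⁻¹ := by
  refine ⟨fun j => ?_, fun j => ?_, fun z hz => gmat_inv_mulVec (hg.hz z hz)⟩
  · have h : gmat g *ᵥ ((x j : F)⁻¹ • R.e j) = R.e j := by
      rw [Matrix.mulVec_smul, hg.he, smul_smul, inv_mul_cancel₀ (Units.ne_zero _), one_smul]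
    rw [gmat_inv_mulVec h]; simp
  · have h : gmat g *ᵥ ((x j : F) • R.f j) = R.f j := by
      rw [Matrix.mulVec_smul, hg.hf, smul_smul, mul_inv_cancel₀ (Units.ne_zero _), one_smul]
    rw [gmat_inv_mulVec h]; simp

/-- Tuples of product one. -/
abbrev torusGrp (F : Type*) [Field F] (k : ℕ) : Subgroup (Fin k → Fˣ) where
  carrier := {x | ∏ j, x j = 1}
  mul_mem' := fun {a b} (ha : ∏ j, a j = 1) (hb : ∏ j, b j = 1) => by
    show ∏ j, (a * b) j = 1
    simp [Finset.prod_mul_distrib, ha, hb]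
  one_mem' := by simp
  inv_mem' := fun {a} (ha : ∏ j, a j = 1) => by
    show ∏ j, a⁻¹ j = 1
    simp [Finset.prod_inv_distrib, ha]

/-- Diagonal matrices of determinant one. -/
noncomputable def diagSL (F : Type*) [Field F] (k : ℕ) : torusGrp F k →* Matrix.SpecialLinearGroup (Fin k) F where
  toFun x := ⟨Matrix.diagonal fun j => ((x.1 j : Fˣ) : F), by
    rw [Matrix.det_diagonal, ← Units.coe_prod, show ∏ j, x.1 j = 1 from x.2, Units.val_one]⟩
  map_one' := Subtype.ext (by simp)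
  map_mul' x y := Subtype.ext (by
    show Matrix.diagonal _ = Matrix.diagonal _ * Matrix.diagonal _
    rw [Matrix.diagonal_mul_diagonal]
    simp)

theorem coe_diagSL {F : Type*} [Field F] {k : ℕ} (x : torusGrp F k) :
    (diagSL F k x).1 = Matrix.diagonal fun j => ((x.1 j : Fˣ) : F) := rfl

/-- The torus. -/
noncomputable def dEl {k : ℕ} (R : Fr Q k) : torusGrp F k →* ↥(gw Q R.top) :=
  (levG R.toPr R.e_mem R.f_mem).comp (diagSL F k)

theorem isDiag_dEl {k : ℕ} (R : Fr Q k) (x : torusGrp F k) : IsDiag R (dEl R x) x.1 := by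
  refine ⟨fun j => ?_, fun j => ?_, fun z hz => ?_⟩
  · have h := lev_mulVec_e R.toPr (diagSL F k x) j
    simp only [coe_diagSL] at h
    refine h.trans ?_
    rw [Finset.sum_eq_single j (fun i _ hij => by rw [Matrix.diagonal_apply_ne _ hij, zero_smul]) (by simp),
      Matrix.diagonal_apply_eq]
  · have h := lev_mulVec_f R.toPr (diagSL F k x) j
    rw [← map_inv] at h
    simp only [coe_diagSL] at h
    refine h.trans ?_
    rw [Finset.sum_eq_single j (fun i _ hij => by rw [Matrix.diagonal_apply_ne _ (Ne.symm hij), zero_smul]) (by simp),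
      Matrix.diagonal_apply_eq]
    simp
  · obtain ⟨-, h⟩ := (mem_core_of R z hz)
    exact lev_mulVec_perp _ _ (fun i => (h i).1) (fun i => (h i).2)
where
  mem_core_of : ∀ {k : ℕ} (R : Fr Q k) (x : ι → F), x ∈ R.core →
      x ∈ R.top ∧ ∀ i, QuadraticMap.polar (⇑Q) (R.e i) x = 0 ∧ QuadraticMap.polar (⇑Q) (R.f i) x = 0
    | 0, R, x, hx => ⟨hx, fun i => i.elim0⟩
    | k + 1, R, x, hx => by
      obtain ⟨⟨h1, h2, h3⟩, h⟩ := mem_core_of R.tail x hx
      refine ⟨h1, fun i => ?_⟩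
      rcases Fin.eq_zero_or_eq_succ i with rfl | ⟨j, rfl⟩
      · exact ⟨h2, h3⟩
      · exact h j

theorem core_spec {k : ℕ} (R : Fr Q k) {z : ι → F} (hz : z ∈ R.core) :
    z ∈ R.top ∧ ∀ i, QuadraticMap.polar (⇑Q) (R.e i) z = 0 ∧ QuadraticMap.polar (⇑Q) (R.f i) z = 0 :=
  isDiag_dEl.mem_core_of R z hz

variable {V : Type*} [AddCommGroup V] [Module ℂ V] [FiniteDimensional ℂ V]

/-- Diagonal elements preserve the common fixed space. -/
theorem IsDiag.fixT_mem {k : ℕ} {R : Fr Q k} {g : ↥(gw Q R.top)} {x : Fin k → Fˣ} (hg : IsDiag R g x)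
    (σ : Representation ℂ ↥(gw Q R.top) V) {v : V} (hv : v ∈ fixT R σ) : σ g v ∈ fixT R σ := by
  intro j y
  have hi := hg.inv
  have hm : (x j : F)⁻¹ • (gmat g⁻¹ *ᵥ (y : ι → F)) ∈ R.perp j := by
    refine (R.perp j).smul_mem _ ((mem_perp R j _).2 ⟨(gw_spec (g⁻¹).2).1 _ y.2.1, fun l hl => ⟨?_, ?_⟩⟩)
    · have h := polar_mulVec Q (g⁻¹ : ↥(gw Q R.top)).1 (R.e l) (y : ι → F)
      rw [show mat Q (g⁻¹ : ↥(gw Q R.top)).1 *ᵥ R.e l = ((x⁻¹) l : F) • R.e l from hi.he l,
        QuadraticMap.polar_smul_left, (y.2.2 l hl).1, smul_eq_mul, mul_eq_zero] at h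
      exact h.resolve_left (Units.ne_zero _)
    · have h := polar_mulVec Q (g⁻¹ : ↥(gw Q R.top)).1 (R.f l) (y : ι → F)
      rw [show mat Q (g⁻¹ : ↥(gw Q R.top)).1 *ᵥ R.f l = ((x⁻¹) l : F)⁻¹ • R.f l from hi.hf l,
        QuadraticMap.polar_smul_left, (y.2.2 l hl).2, smul_eq_mul, mul_eq_zero] at h
      exact h.resolve_left (inv_ne_zero (Units.ne_zero _))
  have he : R.eEl j y * g = g * R.eEl j ⟨_, hm⟩ := by
    refine Subtype.ext (mat_ext Q ?_)
    show eich Q (R.e j) (y : ι → F) * gmat g = gmat g * eich Q (R.e j) ((x j : F)⁻¹ • (gmat g⁻¹ *ᵥ (y : ι → F)))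
    have e0 := conj_eich (g : ↥(Cfsg.isometryGroup F ⇑Q)) (R.e j) ((x j : F)⁻¹ • (gmat g⁻¹ *ᵥ (y : ι → F)))
    rw [show mat Q (g : ↥(Cfsg.isometryGroup F ⇑Q)) *ᵥ R.e j = (x j : F) • R.e j from hg.he j, eich_smul_left,
      Matrix.mulVec_smul, smul_smul, mul_inv_cancel₀ (Units.ne_zero _), one_smul, Matrix.mulVec_mulVec,
      ← gmat_mul, mul_inv_cancel, gmat_one, Matrix.one_mulVec] at e0
    exact e0.symm
  rw [← Module.End.mul_apply, ← map_mul, he, map_mul, Module.End.mul_apply, hv j ⟨_, hm⟩]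

theorem isDiag_incl {k : ℕ} (R : Fr Q (k + 1)) {g : ↥(gw Q R.tail.top)} {x : Fin k → Fˣ}
    (hg : IsDiag R.tail g x) : IsDiag R (incl R g) (Fin.cons 1 x) := by
  have h0 : ∀ v : ι → F, (∀ y ∈ R.W1, QuadraticMap.polar (⇑Q) y v = 0) → gmat (incl R g) *ᵥ v = v := fun v hv =>
    (gw_spec g.2).2 v hv
  refine ⟨fun j => ?_, fun j => ?_, fun z hz => hg.hz z hz⟩
  · rcases Fin.eq_zero_or_eq_succ j with rfl | ⟨l, rfl⟩
    · rw [h0 _ fun y hy => by rw [QuadraticMap.polar_comm]; exact hy.2.1]; simp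
    · rw [Fin.cons_succ]; exact hg.he l
  · rcases Fin.eq_zero_or_eq_succ j with rfl | ⟨l, rfl⟩
    · rw [h0 _ fun y hy => by rw [QuadraticMap.polar_comm]; exact hy.2.2]; simp
    · rw [Fin.cons_succ]; exact hg.hf l

/-- Squares on the last pair are products of root elements fixing the common fixed space. -/
theorem exists_lastSq : ∀ (m : ℕ) (R : Fr Q (m + 1)), IsOdd R → ∀ (t : Fˣ),
    ∃ g, IsDiag R g (Pi.mulSingle (Fin.last m) (t * t)) ∧
      ∀ (W : Type) [AddCommGroup W] [Module ℂ W] (σ : Representation ℂ ↥(gw Q R.top) W) (v : W),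
        (∀ i (y : R.perp i), σ (R.eEl i y) v = v) → (∀ y : R.perp (Fin.last m), σ (R.fEl (Fin.last m) y) v = v) →
          σ g v = v := by
  intro m
  induction m with
  | zero =>
    intro R hR t
    have h : 1 < Fintype.card R.core := by rw [hR.card_core]; exact Fintype.one_lt_card
    obtain ⟨z₀, hz₀⟩ := Fintype.exists_ne_of_one_lt_card h 0
    set z : R.W1 := ⟨z₀, z₀.2⟩
    have hzne : z ≠ 0 := fun h => hz₀ (Subtype.ext (congrArg Subtype.val h :))
    have hc : Q (z : ι → F) ≠ 0 := hR.core_ne _ z₀.2 fun h => hz₀ (Subtype.ext h)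
    set c := Q (z : ι → F)
    have hq : Q (((t : F) • z : R.W1) : ι → F) = (t : F) * t * c := by
      rw [SetLike.val_smul, QuadraticMap.map_smul, smul_eq_mul]
    have hc' : Q (((t : F) • z : R.W1) : ι → F) ≠ 0 := by
      rw [hq]; exact mul_ne_zero (mul_ne_zero (Units.ne_zero _) (Units.ne_zero _)) hc
    obtain ⟨a1, a2, a3⟩ := flipEl_spec R ((t : F) • z) hc'
    obtain ⟨b1, b2, b3⟩ := flipEl_spec R z hc
    rw [hq] at a1 a2 a3
    rw [show Q (z : ι → F) = c from rfl] at b1 b2 b3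
    refine ⟨flipEl R ((t : F) • z) * flipEl R z, ⟨fun j => ?_, fun j => ?_, fun v hv => ?_⟩, ?_⟩
    · fin_cases j
      show gmat (flipEl R ((t : F) • z) * flipEl R z) *ᵥ R.e 0 = _
      rw [gmat_mul, ← Matrix.mulVec_mulVec, b1, Matrix.mulVec_smul, a2, smul_smul]
      simp
      congr 1
      field_simp
    · fin_cases j
      show gmat (flipEl R ((t : F) • z) * flipEl R z) *ᵥ R.f 0 = _
      rw [gmat_mul, ← Matrix.mulVec_mulVec, b2, Matrix.mulVec_smul, a1, smul_smul]
      simp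
      congr 1
      field_simp
    · obtain ⟨a, ha⟩ : ∃ a : F, v = a • (z : ι → F) := by
        have hinj : Function.Injective fun a : F => (⟨a • (z : ι → F), R.core.smul_mem a z₀.2⟩ : R.core) := by
          intro a b hab
          have h1 : a • (z : ι → F) = b • (z : ι → F) := congrArg Subtype.val hab
          by_contra hne
          rw [← sub_eq_zero, ← sub_smul, smul_eq_zero] at h1
          exact hz₀ (Subtype.ext (h1.resolve_left (sub_ne_zero.2 hne)))
        obtain ⟨a, ha⟩ := ((Fintype.bijective_iff_injective_and_card _).2 ⟨hinj, hR.card_core.symm⟩).2 ⟨v, hv⟩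
        exact ⟨a, (congrArg Subtype.val ha).symm⟩
      have hzz : QuadraticMap.polar (⇑Q) (z : ι → F) (z : ι → F) = 2 * c := polar_self' Q _
      have e1 : gmat (flipEl R z) *ᵥ v = -v := by
        rw [ha, b3 _ (R.W1.smul_mem _ z.2), QuadraticMap.polar_smul_right, hzz, smul_eq_mul]
        match_scalars
        field_simp
        ring
      have e2 : gmat (flipEl R ((t : F) • z)) *ᵥ v = -v := by
        rw [ha, a3 _ (R.W1.smul_mem _ z.2), SetLike.val_smul, QuadraticMap.polar_smul_left,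
          QuadraticMap.polar_smul_right, hzz]
        simp only [smul_eq_mul]
        match_scalars
        field_simp
        ring
      rw [gmat_mul, ← Matrix.mulVec_mulVec, e1, Matrix.mulVec_neg, e2, neg_neg]
    · intro W _ _ σ v hE hF
      have hE' : ∀ y : R.W1, σ (rootE R y) v = v := fun y =>
        hE 0 ⟨y, by rw [perp_zero_eq]; exact y.2⟩
      have hF' : ∀ y : R.W1, σ (rootF R y) v = v := fun y =>
        hF ⟨y, by rw [show (Fin.last 0 : Fin 1) = 0 from rfl, perp_zero_eq]; exact y.2⟩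
      simp only [flipEl, map_mul, Module.End.mul_apply, hE', hF']
  | succ m ih =>
    intro R hR t
    obtain ⟨g, hg, hfix⟩ := ih R.tail hR.tail t
    refine ⟨incl R g, ?_, fun W _ _ σ v hE hF => hfix W (σ.comp (incl R)) v (fun i y => ?_) fun y => ?_⟩
    · have hx : (Fin.cons 1 (Pi.mulSingle (Fin.last m) (t * t)) : Fin (m + 2) → Fˣ) =
          Pi.mulSingle (Fin.last (m + 1)) (t * t) := by
        funext j
        rcases Fin.eq_zero_or_eq_succ j with rfl | ⟨l, rfl⟩
        · simp [Pi.mulSingle_apply, Fin.ext_iff]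
        · simp [Pi.mulSingle_apply, Fin.ext_iff]
      exact hx ▸ isDiag_incl R hg
    · show σ (incl R (R.tail.eEl i y)) v = v
      rw [incl_eEl R i y ⟨y, by rw [perp_succ_eq]; exact y.2⟩ rfl]
      exact hE i.succ _
    · show σ (incl R (R.tail.fEl (Fin.last m) y)) v = v
      have hy : (y : ι → F) ∈ R.perp (Fin.last (m + 1)) := by rw [← Fin.succ_last, perp_succ_eq]; exact y.2
      convert hF ⟨y, hy⟩ using 2
      exact congrArg σ (Subtype.ext (mat_ext Q rfl))

section node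

variable {m : ℕ} (R : Fr Q (m + 2)) (i : Fin (m + 1))

/-- The upper transvection. -/
noncomputable def upSL (c : F) : Matrix.SpecialLinearGroup (Fin 2) F :=
  ⟨Matrix.transvection 0 1 c, Matrix.det_transvection_of_ne 0 1 (by decide) c⟩

theorem upEl_eq (c : F) : upEl R i c = node R i (upSL c) := rfl

theorem coe_upSL (c : F) : (upSL c).1 = !![1, c; 0, 1] := by
  ext a b
  fin_cases a <;> fin_cases b <;> simp [upSL, Matrix.transvection]

theorem upSL_mul (a b : F) : upSL a * upSL b = upSL (a + b) := by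
  refine Subtype.ext ?_
  rw [Matrix.SpecialLinearGroup.coe_mul, coe_upSL, coe_upSL, coe_upSL, Matrix.mul_fin_two, add_comm a b]
  simp

theorem upSL_zero : upSL (0 : F) = 1 := by
  refine Subtype.ext ?_
  rw [coe_upSL, Matrix.SpecialLinearGroup.coe_one, Matrix.one_fin_two]

/-- The Weyl element of a node. -/
noncomputable def wSL : Matrix.SpecialLinearGroup (Fin 2) F := ⟨!![0, 1; -1, 0], by simp [Matrix.det_fin_two]⟩

/-- Exchanging the two entries of a node. -/
def swapAt (x : Fin (m + 2) → Fˣ) : Fin (m + 2) → Fˣ := x ∘ Equiv.swap i.castSucc i.succ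

theorem diag_up {g : ↥(gw Q R.top)} {x : Fin (m + 2) → Fˣ} (hg : IsDiag R g x) (c : F) :
    g * upEl R i c = upEl R i (c * ((x i.castSucc : F) / x i.succ)) * g := by
  refine Subtype.ext (mat_ext Q ?_)
  show gmat g * gmat (upEl R i c) = gmat (upEl R i _) * gmat g
  rw [gmat_upEl, gmat_upEl]
  have e0 := conj_eich (g : ↥(Cfsg.isometryGroup F ⇑Q)) (R.e i.castSucc) (-c • R.f i.succ)
  rw [show mat Q (g : ↥(Cfsg.isometryGroup F ⇑Q)) *ᵥ R.e i.castSucc = _ from hg.he _, eich_smul_left,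
    Matrix.mulVec_smul, show mat Q (g : ↥(Cfsg.isometryGroup F ⇑Q)) *ᵥ R.f i.succ = _ from hg.hf _,
    smul_smul, smul_smul] at e0
  refine e0.trans ?_
  congr 3
  ring

theorem node_w_spec : gmat (node R i wSL) *ᵥ R.e i.castSucc = -R.e i.succ ∧
    gmat (node R i wSL) *ᵥ R.e i.succ = R.e i.castSucc ∧
    gmat (node R i wSL) *ᵥ R.f i.castSucc = -R.f i.succ ∧
    gmat (node R i wSL) *ᵥ R.f i.succ = R.f i.castSucc := by
  refine ⟨?_, ?_, ?_, ?_⟩
  · rw [node_e_fst]; simp [wSL]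
  · rw [node_e_snd]; simp [wSL]
  · have h := lev_mulVec_f (nodePr R i) (wSL (F := F)) 0
    rw [Fin.sum_univ_two, Matrix.SpecialLinearGroup.coe_inv, show (wSL (F := F)).1 = !![0, 1; -1, 0] from rfl,
      Matrix.adjugate_fin_two] at h
    refine h.trans ?_
    simp
    rfl
  · have h := lev_mulVec_f (nodePr R i) (wSL (F := F)) 1
    rw [Fin.sum_univ_two, Matrix.SpecialLinearGroup.coe_inv, show (wSL (F := F)).1 = !![0, 1; -1, 0] from rfl,
      Matrix.adjugate_fin_two] at h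
    refine h.trans ?_
    simp
    rfl

theorem diag_w {g g' : ↥(gw Q R.top)} {x : Fin (m + 2) → Fˣ} (hg : IsDiag R g x)
    (hg' : IsDiag R g' (swapAt i x)) : g * node R i wSL = node R i wSL * g' := by
  obtain ⟨w1, w2, w3, w4⟩ := node_w_spec R i
  refine gw_ext R (fun j => ?_) (fun j => ?_) fun z hz => ?_
  · rw [gmat_mul, gmat_mul, ← Matrix.mulVec_mulVec, ← Matrix.mulVec_mulVec, hg'.he, Matrix.mulVec_smul]
    by_cases h0 : i.castSucc = j
    · subst h0; simp [w1, hg.he, Matrix.mulVec_neg, swapAt]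
    by_cases h1 : i.succ = j
    · subst h1; simp [w2, hg.he, swapAt]
    · rw [node_fix_e R i _ h0 h1, hg.he, swapAt, Function.comp_apply,
        Equiv.swap_apply_of_ne_of_ne (Ne.symm h0) (Ne.symm h1)]
  · rw [gmat_mul, gmat_mul, ← Matrix.mulVec_mulVec, ← Matrix.mulVec_mulVec, hg'.hf, Matrix.mulVec_smul]
    by_cases h0 : i.castSucc = j
    · subst h0; simp [w3, hg.hf, Matrix.mulVec_neg, swapAt]
    by_cases h1 : i.succ = j
    · subst h1; simp [w4, hg.hf, swapAt]
    · rw [node_fix_f R i _ h0 h1, hg.hf, swapAt, Function.comp_apply,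
        Equiv.swap_apply_of_ne_of_ne (Ne.symm h0) (Ne.symm h1)]
  · obtain ⟨-, hp⟩ := core_spec R hz
    have hw := node_perp R i (wSL (F := F)) (hp _).1 (hp _).2 (hp _).1 (hp _).2
    rw [gmat_mul, gmat_mul, ← Matrix.mulVec_mulVec, ← Matrix.mulVec_mulVec, hg'.hz z hz, hw, hg.hz z hz]

variable (σ : Representation ℂ ↥(gw Q R.top) V)

/-- The intertwiner of a node. -/
noncomputable def twine (v : V) : V := ∑ c : F, σ (node R i (upSL c * wSL)) v

theorem twine_mem {v : V} (hv : v ∈ fixT R σ) : twine R i σ v ∈ fixT R σ := by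
  have e : twine R i σ v = ∑ c : F, (1 : ℂ) • σ (node R i (upSL c * wSL)) v := by simp [twine]
  rw [e]
  refine mem_fixT_of_node R i σ Finset.univ (fun _ => (1 : ℂ)) (fun c => upSL c * wSL) (fun _ => v)
    (fun _ _ => hv) fun t => ?_
  simp only [one_smul, map_sum, upEl_eq, ← Module.End.mul_apply, ← map_mul, ← mul_assoc, upSL_mul]
  exact Fintype.sum_equiv (Equiv.addLeft t) _ _ fun c => rfl

theorem twine_eigen {g g' : ↥(gw Q R.top)} {x : Fin (m + 2) → Fˣ} (hg : IsDiag R g x)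
    (hg' : IsDiag R g' (swapAt i x)) {v : V} {c : ℂ} (hv : σ g' v = c • v) :
    σ g (twine R i σ v) = c • twine R i σ v := by
  have hne : ((x i.castSucc : F) / x i.succ) ≠ 0 := div_ne_zero (Units.ne_zero _) (Units.ne_zero _)
  have hterm : ∀ t : F, σ g (σ (node R i (upSL t * wSL)) v) =
      c • σ (node R i (upSL (t * ((x i.castSucc : F) / x i.succ)) * wSL)) v := fun t => by
    rw [← Module.End.mul_apply, ← map_mul, map_mul (node R i), ← upEl_eq, ← mul_assoc, diag_up R i hg, mul_assoc,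
      diag_w R i hg hg', ← mul_assoc, upEl_eq, ← map_mul (node R i), map_mul σ, Module.End.mul_apply, hv, map_smul]
  rw [twine, map_sum, Finset.sum_congr rfl fun t _ => hterm t, ← Finset.smul_sum]
  congr 1
  exact Fintype.sum_equiv (Equiv.mulRight₀ _ hne) _ _ fun t => rfl

theorem upEl_fix {v : V} (hv : v ∈ fixT R σ) (c : F) : σ (upEl R i c) v = v := by
  have hfb : -c • R.f i.succ ∈ R.perp i.castSucc := (R.perp _).smul_mem _ ((mem_perp R _ _).2 ⟨R.f_mem _,
    fun l hl => ⟨R.toPr.ef_ne (ne_of_lt (lt_of_le_of_lt hl Fin.castSucc_lt_succ)), R.ff _ _⟩⟩)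
  exact fixes_eEl hv hfb _ (gmat_upEl R i c)

/-- Applying the intertwiner twice. -/
theorem twine_twine {v : V} (hv : v ∈ fixT R σ) {φ : Fˣ →* ℂ}
    (hφ : ∀ t : Fˣ, σ (node R i (diagTwo t)) v = φ t • v) (hne : φ ≠ 1) :
    twine R i σ (twine R i σ v) = ((Fintype.card F : ℂ) * φ (-1)) • v := by
  classical
  have hw2 : (wSL : Matrix.SpecialLinearGroup (Fin 2) F) * wSL = diagTwo (-1) := by
    refine Subtype.ext ?_
    rw [Matrix.SpecialLinearGroup.coe_mul, coe_diagTwo, show (wSL (F := F)).1 = !![0, 1; -1, 0] from rfl,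
      Matrix.mul_fin_two]
    simp
  have hM : ∀ t : Fˣ, wSL * upSL (t : F) * wSL =
      upSL (-(t : F)⁻¹) * wSL * diagTwo (-t) * upSL (-(t : F)⁻¹) := fun t => by
    refine Subtype.ext ?_
    simp only [Matrix.SpecialLinearGroup.coe_mul, coe_diagTwo, coe_upSL,
      show (wSL (F := F)).1 = !![0, 1; -1, 0] from rfl, Matrix.mul_fin_two, Units.val_neg]
    ext a b
    fin_cases a <;> fin_cases b <;> simp <;> field_simp <;> ring
  have key : ∀ t : Fˣ, σ (node R i (wSL * upSL (t : F) * wSL)) v =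
      φ (-t) • σ (node R i (upSL (-(t : F)⁻¹) * wSL)) v := fun t => by
    rw [hM t, map_mul (node R i), map_mul (node R i) (upSL _ * wSL), map_mul σ, map_mul σ, Module.End.mul_apply,
      Module.End.mul_apply, ← upEl_eq, upEl_fix R i σ hv, hφ, map_smul]
  have hshift : ∀ a : F, ∑ s : F, σ (node R i (upSL s)) (σ (node R i (upSL a * wSL)) v) = twine R i σ v := fun a => by
    simp only [← Module.End.mul_apply, ← map_mul, ← mul_assoc, upSL_mul]
    exact Fintype.sum_equiv (Equiv.addRight a) _ _ fun s => rfl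
  have hzero : ∑ t : Fˣ, φ (-t) = 0 := by
    obtain ⟨a, ha⟩ : ∃ a, φ a ≠ 1 := by
      by_contra h
      push Not at h
      exact hne (MonoidHom.ext h)
    have h1 : ∑ t : Fˣ, φ (-t) = φ a * ∑ t : Fˣ, φ (-t) := by
      rw [Finset.mul_sum]
      refine (Fintype.sum_equiv (Equiv.mulLeft a) _ _ fun t => ?_).symm
      rw [← map_mul, Equiv.coe_mulLeft, mul_neg]
    rcases mul_eq_zero.1 (show (φ a - 1) * ∑ t : Fˣ, φ (-t) = 0 by linear_combination -h1) with h | h
    · exact absurd (sub_eq_zero.1 h) ha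
    · exact h
  have hexp : twine R i σ (twine R i σ v) =
      ∑ t : F, ∑ s : F, σ (node R i (upSL s)) (σ (node R i (wSL * upSL t * wSL)) v) := by
    simp only [twine, map_sum, ← Module.End.mul_apply, ← map_mul, mul_assoc]
    exact Finset.sum_comm
  rw [hexp, ← Finset.add_sum_erase _ _ (Finset.mem_univ (0 : F)), upSL_zero, mul_one, hw2, hφ]
  have h0 : ∑ s : F, σ (node R i (upSL s)) (φ (-1) • v) = ((Fintype.card F : ℂ) * φ (-1)) • v := by
    simp only [map_smul, ← upEl_eq, upEl_fix R i σ hv]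
    rw [Finset.sum_const, Finset.card_univ, ← Nat.cast_smul_eq_nsmul ℂ, smul_smul]
  rw [h0, add_eq_left]
  have hun : ∑ t ∈ Finset.univ.erase (0 : F), ∑ s : F, σ (node R i (upSL s)) (σ (node R i (wSL * upSL t * wSL)) v) =
      ∑ t : Fˣ, φ (-t) • twine R i σ v := by
    refine (Finset.sum_bij (fun (t : Fˣ) _ => (t : F)) (fun t _ => Finset.mem_erase.2 ⟨Units.ne_zero t,
      Finset.mem_univ _⟩) (fun a _ b _ h => Units.ext h) (fun b hb => ⟨Units.mk0 b (Finset.ne_of_mem_erase hb),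
      Finset.mem_univ _, rfl⟩) fun t _ => ?_).symm
    simp only [key, map_smul]
    rw [← Finset.smul_sum, hshift]
  rw [hun, ← Finset.sum_smul, hzero, zero_smul]

end node

end CfsgLib.OrthDeg
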