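import Cfsg.Agent.OrthDeg.Basic
import Cfsg.Agent.OrthDeg.Arith

/-!
# Minimal degree for frames of plus type
-/

set_option autoImplicit false
set_option linter.unusedSectionVars false

namespace CfsgLib.OrthDeg

open Matrix Module CfsgLib.Forms CfsgLib.Spinor CfsgLib.Forms4 CfsgLib.RepBounds

variable {F : Type*} [Field F] [Fintype F] [DecidableEq F] {ι : Type} [Fintype ι] [DecidableEq ι]
  {Q : QuadraticForm F (ι → F)}

noncomputable local instance subFintypePlus (S : Submodule F (ι → F)) : Fintype S := Fintype.ofFinite S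

/-- The bound for `j + 3` pairs. -/
def plusBound (q : ℕ) : ℕ → ℕ
  | 0 => q ^ 3 + q ^ 2 + q
  | j + 1 => plusBound q j + (q ^ (2 * j + 5) + (q - 1) * q ^ (j + 2))

theorem plusBound_formula {q : ℕ} (hq : 2 ≤ q) (j : ℕ) :
    plusBound q j * (q ^ 2 - 1) = (q ^ (j + 3) - 1) * (q ^ (j + 2) + q) := by
  obtain ⟨r, rfl⟩ : ∃ r, q = r + 1 := ⟨q - 1, by omega⟩
  have h : (plusBound (r + 1) j : ℤ) * (((r : ℤ) + 1) ^ 2 - 1) =
      (((r : ℤ) + 1) ^ (j + 3) - 1) * (((r : ℤ) + 1) ^ (j + 2) + ((r : ℤ) + 1)) := by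
    induction j with
    | zero => simp [plusBound]; ring
    | succ j ih =>
      simp only [plusBound, Nat.add_sub_cancel]
      push_cast
      linear_combination ih
  have h1 : 1 ≤ (r + 1) ^ 2 := Nat.one_le_pow _ _ (by omega)
  have h2 : 1 ≤ (r + 1) ^ (j + 3) := Nat.one_le_pow _ _ (by omega)
  exact_mod_cast (by push_cast [Nat.cast_sub h1, Nat.cast_sub h2]; linear_combination h :
    ((plusBound (r + 1) j * ((r + 1) ^ 2 - 1) : ℕ) : ℤ) =
      (((r + 1) ^ (j + 3) - 1) * ((r + 1) ^ (j + 2) + (r + 1)) : ℕ))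

theorem plusBound_le {q : ℕ} (hq : 4 ≤ q) (j : ℕ) :
    plusBound q j + 2 * q ^ (j + 1) ≤ 2 * q ^ (2 * j + 3) := by
  induction j with
  | zero => simp [plusBound]; nlinarith [Nat.mul_le_mul hq hq]
  | succ j ih =>
    have h1 : q ^ (j + 3) ≤ q ^ (2 * j + 3) := Nat.pow_le_pow_right (by omega) (by omega)
    have h2 : q ^ (j + 2) ≤ q ^ (2 * j + 3) := Nat.pow_le_pow_right (by omega) (by omega)
    have h3 : (q - 1) * q ^ (j + 2) ≤ q * q ^ (j + 2) := Nat.mul_le_mul_right _ (Nat.sub_le _ _)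
    have h4 : q * q ^ (j + 2) = q ^ (j + 3) := by ring
    have h5 : q ^ (2 * (j + 1) + 3) = q ^ 2 * q ^ (2 * j + 3) := by ring
    have h6 : 16 * q ^ (2 * j + 3) ≤ q ^ 2 * q ^ (2 * j + 3) := Nat.mul_le_mul_right _ (by nlinarith)
    have h7 : q ^ (2 * j + 5) = q ^ 2 * q ^ (2 * j + 3) := by ring
    simp only [plusBound]
    rw [show j + 1 + 1 = j + 2 from rfl]
    omega

variable {k : ℕ}

theorem plus_card (R : Fr Q k) (hc : Fintype.card R.core = 1) :
    Fintype.card R.top = Fintype.card F ^ (2 * k) := by rw [card_top_eq R, hc, mul_one]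

theorem plus_cnt_zero (R : Fr Q (k + 1)) (hc : Fintype.card R.core = 1) :
    cnt Q R.top 0 = Fintype.card F ^ (2 * k + 1) + (Fintype.card F - 1) * Fintype.card F ^ k := by
  have h1 : cnt Q R.core 0 = 1 := by
    refine le_antisymm ?_ (one_le_cnt _)
    exact (Finset.card_le_univ _).trans hc.le
  have h := cnt_top_eq R 0
  rw [hc, h1] at h
  obtain ⟨r, hr⟩ : ∃ r, Fintype.card F = r + 1 := ⟨Fintype.card F - 1, (Nat.succ_pred_eq_of_pos Fintype.card_pos).symm⟩
  rw [hr] at h ⊢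
  rw [Nat.add_sub_cancel]
  refine Nat.eq_of_mul_eq_mul_left (Nat.succ_pos r) ?_
  ring_nf at h ⊢
  linarith

theorem plus_cnt_ne (R : Fr Q (k + 1)) (hc : Fintype.card R.core = 1) {c : F} (h0 : c ≠ 0) :
    cnt Q R.top c + Fintype.card F ^ k = Fintype.card F ^ (2 * k + 1) := by
  have hsub : Subsingleton R.core := Fintype.card_le_one_iff_subsingleton.1 hc.le
  have h1 : cnt Q R.core c = 0 := Finset.card_eq_zero.2 (Finset.filter_eq_empty_iff.2 fun x _ h => h0 (by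
    rw [← h, Subsingleton.elim x 0, ZeroMemClass.coe_zero, map_zero]))
  have h := cnt_top_eq R c
  rw [hc, h1] at h
  refine Nat.eq_of_mul_eq_mul_left (Fintype.card_pos (α := F)) ?_
  rw [mul_zero, add_zero] at h
  ring_nf at h ⊢
  linarith

variable {V : Type} [AddCommGroup V] [Module ℂ V] [FiniteDimensional ℂ V] {ψ : AddChar F ℂ}

/-- Either the bound holds or only singular weights occur, once each. -/
theorem plus_cases (hq : 4 ≤ Fintype.card F) {n : ℕ} (R : Fr Q (n + 3)) (hc : Fintype.card R.core = 1)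
    (σ : Representation ℂ ↥(gw Q R.top) V) (hψ : ψ.IsPrimitive) (hne : ∃ g, σ g ≠ 1) :
    plusBound (Fintype.card F) n ≤ finrank ℂ V ∨
      (∀ c : F, c ≠ 0 → mOf ψ R σ c = 0) ∧ mOf ψ R σ 0 = 1 ∧ Trivial R σ ψ := by
  have hle := plusBound_le hq n
  by_cases hns : ∃ c : F, c ≠ 0 ∧ mOf ψ R σ c ≠ 0
  · left
    obtain ⟨c, h0, hM⟩ := hns
    have hN : ∀ d : F, d ≠ 0 → (Fintype.card F) ^ (2 * n + 3) - (Fintype.card F) ^ (n + 1) ≤ cnt Q R.W1 d := fun d hd => by
      have := plus_cnt_ne (k := n + 1) R.tail hc hd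
      rw [show R.tail.top = R.W1 from rfl, show 2 * (n + 1) + 1 = 2 * n + 3 by ring] at this
      omega
    have h := class_le_finrank R σ hψ h0 _ hN
    have hs : 2 ≤ (sqClass c).card := by
      have := le_two_mul_card_sqClass h0
      omega
    have h1 : 2 * (((Fintype.card F) ^ (2 * n + 3) - (Fintype.card F) ^ (n + 1)) * 1) ≤
        (sqClass c).card * (((Fintype.card F) ^ (2 * n + 3) - (Fintype.card F) ^ (n + 1)) * mOf ψ R σ c) :=
      Nat.mul_le_mul hs (Nat.mul_le_mul_left _ (Nat.one_le_iff_ne_zero.2 hM))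
    rw [mul_one, Nat.mul_sub] at h1
    omega
  push Not at hns
  obtain ⟨c, hM⟩ := exists_mOf_ne R σ hψ hne
  have hc0 : c = 0 := by
    by_contra h0
    exact hM (hns c h0)
  subst hc0
  by_cases h2 : 2 ≤ mOf ψ R σ 0
  · left
    have h := singular_le_finrank R σ hψ
    have hN : cntNZ Q R.W1 0 + 1 = (Fintype.card F) ^ (2 * n + 3) + ((Fintype.card F) - 1) * (Fintype.card F) ^ (n + 1) := by
      rw [cntNZ_zero_add]
      exact (plus_cnt_zero (k := n + 1) R.tail hc).trans (by ring)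
    have h1 : cntNZ Q R.W1 0 * 2 ≤ cntNZ Q R.W1 0 * mOf ψ R σ 0 := Nat.mul_le_mul_left _ h2
    have h3 : (Fintype.card F) ^ (n + 1) ≤ ((Fintype.card F) - 1) * (Fintype.card F) ^ (n + 1) := Nat.le_mul_of_pos_left _ (by omega)
    have h4 : 1 ≤ (Fintype.card F) ^ (n + 1) := Nat.one_le_pow _ _ (by omega)
    omega
  right
  have h1 : mOf ψ R σ 0 = 1 := by omega
  refine ⟨hns, h1, trivial_of_four_le R σ hq fun w hw => ?_⟩
  rw [rnk_wP_eq R σ w hw]
  by_cases hz : Q (w : ι → F) = 0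
  · rw [hz, h1]
  · rw [hns _ hz]; exact zero_le_one

/-- The minimal degree for three pairs. -/
theorem plus_three (hq : 4 ≤ Fintype.card F) (R : Fr Q 3) (hc : Fintype.card R.core = 1)
    (σ : Representation ℂ ↥(gw Q R.top) V) [σ.IsIrreducible] (hψ : ψ.IsPrimitive) (hne : ∃ g, σ g ≠ 1) :
    plusBound (Fintype.card F) 0 ≤ finrank ℂ V := by
  classical
  rcases plus_cases (n := 0) hq R hc σ hψ hne with h | ⟨hns, h1, hT⟩
  · exact h
  have hD := finrank_eq_singular R σ hψ hns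
  rw [h1, mul_one] at hD
  have hz := rnk_zero_eq (n := 1) R (mOf ψ R σ) hψ (mOf_scale R σ) (rnk_wP_eq R σ) hT
  rw [sum_value_eq, Finset.sum_eq_single 0 (fun c _ hc0 => by rw [hns c hc0, mul_zero]) (by simp), h1, mul_one] at hz
  have hN2 : cntNZ Q R.tail.W1 0 + 1 = (Fintype.card F) + ((Fintype.card F) - 1) := by
    rw [cntNZ_zero_add]
    exact (plus_cnt_zero (k := 0) R.tail.tail hc).trans (by ring)
  have hN1 : cntNZ Q R.W1 0 + 1 = (Fintype.card F) ^ 3 + ((Fintype.card F) - 1) * (Fintype.card F) := by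
    rw [cntNZ_zero_add]
    exact (plus_cnt_zero (k := 1) R.tail hc).trans (by ring)
  have hN0 : cntNZ Q R.top 0 + 1 = (Fintype.card F) ^ 5 + ((Fintype.card F) - 1) * (Fintype.card F) ^ 2 := by
    rw [cntNZ_zero_add]
    exact (plus_cnt_zero (k := 2) R hc).trans (by ring)
  have hW2 : Fintype.card R.tail.W1 = (Fintype.card F) ^ 2 := plus_card (k := 1) R.tail.tail hc
  by_contra hlt
  simp only [plusBound, not_le] at hlt
  have hmul : ((Fintype.card F) - 1) * (Fintype.card F) + (Fintype.card F) = (Fintype.card F) ^ 2 := by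
    rw [← Nat.succ_mul, Nat.succ_eq_add_one, Nat.sub_add_cancel (by omega : 1 ≤ (Fintype.card F)), sq]
  obtain ⟨j, hj, hj', hDj⟩ : ∃ j, 1 ≤ j ∧ j ≤ 3 ∧ finrank ℂ V = (Fintype.card F) ^ 3 + (Fintype.card F) ^ 2 + (Fintype.card F) - j :=
    ⟨(Fintype.card F) ^ 3 + (Fintype.card F) ^ 2 + (Fintype.card F) - finrank ℂ V, by omega, by omega, by omega⟩
  have hdvd := finrank_mul_dvd (n := 0) R σ hψ hns h1
  obtain ⟨p, f, hp, hf⟩ : ∃ p f, p.Prime ∧ (Fintype.card F) = p ^ f := by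
    obtain ⟨p, hp⟩ := CharP.exists F
    obtain ⟨f, h1, h2⟩ := FiniteField.card F p
    exact ⟨p, f, h1, h2⟩
  refine Arith.no_dvd_plus_three hq ⟨p, f, hp, hf⟩ hj hj' ?_
  rw [← hDj, hW2] at *
  obtain ⟨r, hr⟩ : ∃ r, (Fintype.card F) = r + 1 := ⟨(Fintype.card F) - 1, by omega⟩
  have hA : cntNZ Q R.top 0 * cntNZ Q R.W1 0 * ((Fintype.card F) * (Fintype.card F) ^ 2) =
      ((Fintype.card F) ^ 4 - 1) * ((Fintype.card F) ^ 2 + (Fintype.card F) + 1) * (Fintype.card F) ^ 3 * ((Fintype.card F) ^ 2 - 1) := by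
    rw [hr] at hN1 hN0 ⊢
    rw [Nat.add_sub_cancel] at hN1 hN0
    have e4 : 1 ≤ (r + 1) ^ 4 := Nat.one_le_pow _ _ (by omega)
    have e2 : 1 ≤ (r + 1) ^ 2 := Nat.one_le_pow _ _ (by omega)
    zify [e4, e2] at *
    rw [show (cntNZ Q R.top 0 : ℤ) = ((r : ℤ) + 1) ^ 5 + r * ((r : ℤ) + 1) ^ 2 - 1 by linear_combination hN0,
      show (cntNZ Q R.W1 0 : ℤ) = ((r : ℤ) + 1) ^ 3 + r * ((r : ℤ) + 1) - 1 by linear_combination hN1]
    ring
  rw [hA] at hdvd
  exact (Nat.mul_dvd_mul_iff_right (by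
    have : 4 ≤ (Fintype.card F) ^ 2 := by nlinarith
    omega)).1 hdvd

/-- One step: more pairs. -/
theorem plus_step (hq : 4 ≤ Fintype.card F) {n : ℕ} (R : Fr Q (n + 4)) (hc : Fintype.card R.core = 1)
    (σ : Representation ℂ ↥(gw Q R.top) V) [σ.IsIrreducible] (hψ : ψ.IsPrimitive) (hne : ∃ g, σ g ≠ 1)
    (ih : ∀ (W : Type) [AddCommGroup W] [Module ℂ W] [FiniteDimensional ℂ W]
      (τ : Representation ℂ ↥(gw Q R.tail.top) W), (∃ g, τ g ≠ 1) → plusBound (Fintype.card F) n ≤ finrank ℂ W) :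
    plusBound (Fintype.card F) (n + 1) ≤ finrank ℂ V := by
  classical
  rcases plus_cases (n := n + 1) hq R hc σ hψ hne with h | ⟨hns, h1, hT⟩
  · exact h
  have hD := finrank_eq_singular R σ hψ hns
  rw [h1, mul_one] at hD
  let w' : R.tail.W1 := ⟨R.tail.tail.e 0, R.tail.tail.e_mem 0⟩
  have hw' : w' ≠ 0 := fun h => R.tail.tail.toPr.e_ne_zero 0 (congrArg Subtype.val h)
  have hwq : rnk (wQ R σ ψ (w' : ι → F)) ≠ 0 := by
    rw [rnk_wQ_of_ne (n := n + 2) R (mOf ψ R σ) hψ (mOf_scale R σ) (rnk_wP_eq R σ) hT hw',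
      show Q (w' : ι → F) = 0 from R.tail.tail.qe 0, h1]
    exact one_ne_zero
  have hlow : plusBound (Fintype.card F) n ≤ rnk (wP ψ R σ 0) :=
    ih _ (fixedRep ψ R σ) (fixedRep_ne (n := n + 2) R σ hψ hw' hwq)
  have hN1 : cntNZ Q R.W1 0 + 1 = (Fintype.card F) ^ (2 * n + 5) + ((Fintype.card F) - 1) * (Fintype.card F) ^ (n + 2) := by
    rw [cntNZ_zero_add]
    exact (plus_cnt_zero (k := n + 2) R.tail hc).trans (by ring)
  have hN0 : cntNZ Q R.top 0 + 1 = (Fintype.card F) ^ (2 * n + 7) + ((Fintype.card F) - 1) * (Fintype.card F) ^ (n + 3) := by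
    rw [cntNZ_zero_add]
    exact (plus_cnt_zero (k := n + 3) R hc).trans (by ring)
  have hW2 : Fintype.card R.tail.W1 = (Fintype.card F) ^ (2 * (n + 2)) := plus_card (k := n + 2) R.tail.tail hc
  by_contra hlt
  simp only [plusBound, not_le] at hlt
  have hDeq : finrank ℂ V + 1 = plusBound (Fintype.card F) (n + 1) := by simp only [plusBound]; omega
  have hdvd := finrank_mul_dvd (n := n + 1) R σ hψ hns h1
  have hform := plusBound_formula (by omega : 2 ≤ (Fintype.card F)) (n + 1)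
  refine Arith.no_dvd_plus (q := Fintype.card F) (m := n + 2) (s := 2 * n + 5) (by omega) (by omega) ?_
  obtain ⟨r, hr⟩ : ∃ r, (Fintype.card F) = r + 1 := ⟨(Fintype.card F) - 1, by omega⟩
  rw [hr] at hN1 hN0 hW2 hform hDeq ⊢
  rw [Nat.add_sub_cancel] at hN1 hN0
  have p1 : ∀ s, 1 ≤ (r + 1) ^ s := fun s => Nat.one_le_pow _ _ (by omega)
  have pB : 1 ≤ (r + 1) ^ (n + 2 + 2) + (r + 1) ^ 2 + (r + 1) := by omega
  have hDB : finrank ℂ V * ((r + 1) ^ 2 - 1) =
      ((r + 1) ^ (n + 3) - 1) * ((r + 1) ^ (n + 2 + 2) + (r + 1) ^ 2 + (r + 1) - 1) := by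
    zify [p1 2, p1 (n + 3), pB, p1 (n + 1 + 3)] at hform hDeq ⊢
    linear_combination hform + (((r : ℤ) + 1) ^ 2 - 1) * hDeq
  have hA : cntNZ Q R.top 0 * cntNZ Q R.W1 0 * ((r + 1) * Fintype.card R.tail.W1) =
      ((r + 1) ^ (n + 3) - 1) * (((r + 1) ^ (n + 2 + 2) - 1) * ((r + 1) ^ (n + 2 + 1) + 1) *
        ((r + 1) ^ (n + 2) + 1) * (r + 1) ^ (2 * n + 5)) := by
    rw [hW2]
    zify [p1 (n + 3), p1 (n + 2 + 2)] at hN0 hN1 ⊢
    rw [show (cntNZ Q R.top 0 : ℤ) = ((r : ℤ) + 1) ^ (2 * n + 7) + r * ((r : ℤ) + 1) ^ (n + 3) - 1 by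
        linear_combination hN0,
      show (cntNZ Q R.W1 0 : ℤ) = ((r : ℤ) + 1) ^ (2 * n + 5) + r * ((r : ℤ) + 1) ^ (n + 2) - 1 by
        linear_combination hN1]
    ring
  rw [hr, hDB, hA] at hdvd
  refine (Nat.mul_dvd_mul_iff_left ?_).1 hdvd
  have : r + 1 ≤ (r + 1) ^ (n + 3) := Nat.le_self_pow (by omega) _
  omega

/-- The minimal degree for frames of plus type. -/
theorem plus_bound (hq : 4 ≤ Fintype.card F) : ∀ (n : ℕ) (R : Fr Q (n + 3)), Fintype.card R.core = 1 →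
    ∀ (W : Type) [AddCommGroup W] [Module ℂ W] [FiniteDimensional ℂ W]
      (τ : Representation ℂ ↥(gw Q R.top) W), (∃ g, τ g ≠ 1) → plusBound (Fintype.card F) n ≤ finrank ℂ W := by
  intro n
  induction n with
  | zero =>
    intro R hc W _ _ _ τ hne
    have : Fintype ↥(gw Q R.top) := Fintype.ofFinite _
    obtain ⟨U, σ, hirr, -, hne'⟩ := SLR.exists_irreducible_nontrivial τ hne
    obtain ⟨p, hp⟩ := CharP.exists F
    have : Fact p.Prime := ⟨(FiniteField.card F p).choose_spec.1⟩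
    obtain ⟨ψ, hψ, -⟩ := exists_frobenius_char F p
    exact (plus_three hq R hc σ hψ hne').trans (Submodule.finrank_le U)
  | succ n ih =>
    intro R hc W _ _ _ τ hne
    have : Fintype ↥(gw Q R.top) := Fintype.ofFinite _
    obtain ⟨U, σ, hirr, -, hne'⟩ := SLR.exists_irreducible_nontrivial τ hne
    obtain ⟨p, hp⟩ := CharP.exists F
    have : Fact p.Prime := ⟨(FiniteField.card F p).choose_spec.1⟩
    obtain ⟨ψ, hψ, -⟩ := exists_frobenius_char F p
    exact (plus_step hq R hc σ hψ hne' (ih R.tail hc)).trans (Submodule.finrank_le U)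

end CfsgLib.OrthDeg
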