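import Cfsg.Agent.OrthDeg.Basic

/-!
# Trivial stabilisers without torus elements

An element fixing a weight moves the stabiliser; the differences act trivially on a weight line.  Eichler maps and
rotations of the perpendicular space then give all of the stabiliser.
-/

set_option autoImplicit false
set_option linter.unusedSectionVars false

namespace CfsgLib.OrthDeg

open Matrix Module CfsgLib.Forms CfsgLib.Spinor CfsgLib.Forms4 CfsgLib.RepBounds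

variable {F : Type*} [Field F] [Fintype F] [DecidableEq F] {ι : Type} [Fintype ι] [DecidableEq ι]
  {Q : QuadraticForm F (ι → F)}

noncomputable local instance subFintypeStab (S : Submodule F (ι → F)) : Fintype S := Fintype.ofFinite S

/-- The product of three root elements exchanging the lines of the first pair. -/
noncomputable def flipEl {n : ℕ} (R : Fr Q (n + 1)) (z : R.W1) : ↥(gw Q R.top) :=
  rootE R z * rootF R ((Q (z : ι → F))⁻¹ • z) * rootE R z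

theorem flipEl_spec {n : ℕ} (R : Fr Q (n + 1)) (z : R.W1) (hz : Q (z : ι → F) ≠ 0) :
    gmat (flipEl R z) *ᵥ R.e 0 = (-(Q (z : ι → F))⁻¹) • R.f 0 ∧
      gmat (flipEl R z) *ᵥ R.f 0 = (-Q (z : ι → F)) • R.e 0 ∧
      ∀ v ∈ R.W1, gmat (flipEl R z) *ᵥ v =
        v - (QuadraticMap.polar (⇑Q) (z : ι → F) v * (Q (z : ι → F))⁻¹) • (z : ι → F) := by
  set c := Q (z : ι → F)
  have hzc : (((c⁻¹ • z : R.W1)) : ι → F) ∈ R.W1 := (c⁻¹ • z : R.W1).2
  have hq : Q ((c⁻¹ • z : R.W1) : ι → F) = c⁻¹ := by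
    rw [SetLike.val_smul, QuadraticMap.map_smul, smul_eq_mul, mul_assoc]
    show c⁻¹ * (c⁻¹ * c) = c⁻¹
    rw [inv_mul_cancel₀ hz, mul_one]
  have hp : ∀ v : ι → F, QuadraticMap.polar (⇑Q) ((c⁻¹ • z : R.W1) : ι → F) v =
      c⁻¹ * QuadraticMap.polar (⇑Q) (z : ι → F) v := fun v => by
    rw [SetLike.val_smul, QuadraticMap.polar_smul_left, smul_eq_mul]
  have hzz : QuadraticMap.polar (⇑Q) (z : ι → F) (z : ι → F) = 2 * c := polar_self' Q _
  have key : ∀ (a b : F) (v : ι → F) (hv : v ∈ R.W1),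
      gmat (flipEl R z) *ᵥ (a • R.e 0 + b • R.f 0 + v) =
        (-(c * b)) • R.e 0 + (-(a * c⁻¹)) • R.f 0 +
          (v - (QuadraticMap.polar (⇑Q) (z : ι → F) v * c⁻¹) • (z : ι → F)) := by
    intro a b v hv
    rw [flipEl, gmat_mul, gmat_mul, ← Matrix.mulVec_mulVec, ← Matrix.mulVec_mulVec,
      show gmat (rootE R z) = eich Q (R.e 0) (z : ι → F) from rfl,
      show gmat (rootF R (c⁻¹ • z)) = eich Q (R.f 0) ((c⁻¹ • z : R.W1) : ι → F) from rfl,
      R.eich_e_apply a b hv z.2, R.eich_f_apply _ _ (R.W1.add_mem hv (R.W1.smul_mem _ z.2)) hzc,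
      R.eich_e_apply _ _ (R.W1.add_mem (R.W1.add_mem hv (R.W1.smul_mem _ z.2)) (R.W1.smul_mem _ hzc)) z.2,
      hq, hp]
    simp only [QuadraticMap.polar_add_right, QuadraticMap.polar_smul_right, smul_eq_mul, SetLike.val_smul, hzz]
    match_scalars <;> field_simp <;> ring
  refine ⟨?_, ?_, fun v hv => ?_⟩
  · simpa using key 1 0 0 R.W1.zero_mem
  · simpa using key 0 1 0 R.W1.zero_mem
  · simpa using key 0 0 v hv

/-- A rotation of `W1` fixing the first pair. -/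
noncomputable def rotEl {n : ℕ} (R : Fr Q (n + 1)) (z₁ z₂ : R.W1) : ↥(gw Q R.top) :=
  flipEl R z₁ * flipEl R z₂

theorem rotEl_spec {n : ℕ} (R : Fr Q (n + 1)) {z₁ z₂ : R.W1} {c : F} (h₁ : Q (z₁ : ι → F) = c)
    (h₂ : Q (z₂ : ι → F) = c) (hc : c ≠ 0) :
    gmat (rotEl R z₁ z₂) *ᵥ R.e 0 = R.e 0 ∧ gmat (rotEl R z₁ z₂) *ᵥ R.f 0 = R.f 0 ∧
      ∀ v ∈ R.W1, gmat (rotEl R z₁ z₂) *ᵥ v =
        v - (QuadraticMap.polar (⇑Q) (z₂ : ι → F) v * c⁻¹) • (z₂ : ι → F) -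
          (QuadraticMap.polar (⇑Q) (z₁ : ι → F)
            (v - (QuadraticMap.polar (⇑Q) (z₂ : ι → F) v * c⁻¹) • (z₂ : ι → F)) * c⁻¹) • (z₁ : ι → F) := by
  obtain ⟨a1, a2, a3⟩ := flipEl_spec R z₁ (by rw [h₁]; exact hc)
  obtain ⟨b1, b2, b3⟩ := flipEl_spec R z₂ (by rw [h₂]; exact hc)
  rw [h₁] at a1 a2 a3
  rw [h₂] at b1 b2 b3
  refine ⟨?_, ?_, fun v hv => ?_⟩
  · rw [rotEl, gmat_mul, ← Matrix.mulVec_mulVec, b1, Matrix.mulVec_smul, a2, smul_smul]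
    simp [hc]
  · rw [rotEl, gmat_mul, ← Matrix.mulVec_mulVec, b2, Matrix.mulVec_smul, a1, smul_smul]
    simp [hc]
  · rw [rotEl, gmat_mul, ← Matrix.mulVec_mulVec, b3 v hv,
      a3 _ (R.W1.sub_mem hv (R.W1.smul_mem _ z₂.2))]

theorem stable_W1 {n : ℕ} (R : Fr Q (n + 1)) (g : ↥(gw Q R.top)) (he : gmat g *ᵥ R.e 0 = R.e 0)
    (hf : gmat g *ᵥ R.f 0 = R.f 0) : ∀ x ∈ R.W1, gmat g *ᵥ x ∈ R.W1 := by
  intro x hx
  refine ⟨(gw_spec g.2).1 x hx.1, ?_, ?_⟩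
  · rw [← he]; exact (polar_mulVec Q _ _ _).trans hx.2.1
  · rw [← hf]; exact (polar_mulVec Q _ _ _).trans hx.2.2

variable {n : ℕ} (R : Fr Q (n + 2)) {V : Type*} [AddCommGroup V] [Module ℂ V] [FiniteDimensional ℂ V]
  (σ : Representation ℂ ↥(gw Q R.top) V) (ψ : AddChar F ℂ)

/-- `u` acts trivially on the weight `a e₁ + w'`. -/
def Kills (a : F) (w' : ι → F) (u : R.tail.W1) : Prop :=
  σ (rootTwo R u) * wP ψ R σ (a • R.tail.e 0 + w') = wP ψ R σ (a • R.tail.e 0 + w')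

variable {R σ ψ}

theorem Kills.add {a : F} {w' : ι → F} {u v : R.tail.W1} (hu : Kills R σ ψ a w' u) (hv : Kills R σ ψ a w' v) :
    Kills R σ ψ a w' (u + v) := by
  unfold Kills at *
  rw [AddChar.map_add_eq_mul, map_mul, mul_assoc, hv, hu]

variable (R σ ψ)

theorem Kills.zero (a : F) (w' : ι → F) : Kills R σ ψ a w' 0 := by
  unfold Kills
  rw [AddChar.map_zero_eq_one, map_one, one_mul]

/-- An element fixing the weight and the two first vectors. -/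
theorem kills_moved {a : F} (w' : R.tail.W1) (hr : rnk (wP ψ R σ (a • R.tail.e 0 + (w' : ι → F))) ≤ 1)
    (g : ↥(gw Q R.top)) (he : gmat g *ᵥ R.e 0 = R.e 0) (hf : gmat g *ᵥ R.f 0 = R.f 0)
    (he1 : gmat g *ᵥ R.tail.e 0 = R.tail.e 0) (hw : gmat g *ᵥ (w' : ι → F) = w') {u v : R.tail.W1}
    (huv : gmat g *ᵥ (u : ι → F) = v) (hu : QuadraticMap.polar (⇑Q) (u : ι → F) (w' : ι → F) = 0) :
    Kills R σ ψ a (w' : ι → F) (v - u) := by
  refine kill R σ (wP_idem R σ _) hr (rootTwo_comm R σ a w' u hu) g ?_ ?_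
  · rw [conj_wP R σ g one_ne_zero (by rw [he, one_smul]) (stable_W1 R g he hf), inv_one, one_smul,
      Matrix.mulVec_add, Matrix.mulVec_smul, he1, hw]
  · refine Subtype.ext (mat_ext Q ?_)
    show gmat g * eich Q (R.tail.e 0) (u : ι → F) = eich Q (R.tail.e 0) (v : ι → F) * gmat g
    have e0 := conj_eich (g : ↥(Cfsg.isometryGroup F ⇑Q)) (R.tail.e 0) (u : ι → F)
    rw [show mat Q (g : ↥(Cfsg.isometryGroup F ⇑Q)) *ᵥ R.tail.e 0 = R.tail.e 0 from he1,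
      show mat Q (g : ↥(Cfsg.isometryGroup F ⇑Q)) *ᵥ (u : ι → F) = v from huv] at e0
    exact e0

/-- The same weight line moved by an element of the group. -/
theorem kills_transport {a : F} {w' w₀ : ι → F} (g : ↥(gw Q R.top)) (he : gmat g *ᵥ R.e 0 = R.e 0)
    (hf : gmat g *ᵥ R.f 0 = R.f 0) (he1 : gmat g *ᵥ R.tail.e 0 = R.tail.e 0) (hw : gmat g *ᵥ w₀ = w')
    {u v : R.tail.W1} (huv : gmat g *ᵥ (u : ι → F) = v) (h : Kills R σ ψ a w₀ u) : Kills R σ ψ a w' v := by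
  unfold Kills at *
  have h1 : σ g * wP ψ R σ (a • R.tail.e 0 + w₀) = wP ψ R σ (a • R.tail.e 0 + w') * σ g := by
    rw [conj_wP R σ g one_ne_zero (by rw [he, one_smul]) (stable_W1 R g he hf), inv_one, one_smul,
      Matrix.mulVec_add, Matrix.mulVec_smul, he1, hw]
  have h2 : g * rootTwo R u = rootTwo R v * g := by
    refine Subtype.ext (mat_ext Q ?_)
    show gmat g * eich Q (R.tail.e 0) (u : ι → F) = eich Q (R.tail.e 0) (v : ι → F) * gmat g
    have e0 := conj_eich (g : ↥(Cfsg.isometryGroup F ⇑Q)) (R.tail.e 0) (u : ι → F)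
    rw [show mat Q (g : ↥(Cfsg.isometryGroup F ⇑Q)) *ᵥ R.tail.e 0 = R.tail.e 0 from he1,
      show mat Q (g : ↥(Cfsg.isometryGroup F ⇑Q)) *ᵥ (u : ι → F) = v from huv] at e0
    exact e0
  have h3 : σ (rootTwo R v) * wP ψ R σ (a • R.tail.e 0 + w') * σ g = wP ψ R σ (a • R.tail.e 0 + w') * σ g := by
    rw [mul_assoc, ← h1, ← mul_assoc, ← map_mul, ← h2, map_mul, mul_assoc, h]
  have := congrArg (· * σ g⁻¹) h3
  simpa [mul_assoc, ← map_mul σ] using this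

/-- Eichler maps of the third level. -/
theorem kills_eich {a : F} (w' : R.tail.W1) (hr : rnk (wP ψ R σ (a • R.tail.e 0 + (w' : ι → F))) ≤ 1)
    {x y u : ι → F} (hx : x ∈ R.tail.W1) (hy : y ∈ R.tail.W1) (hu : u ∈ R.tail.W1) (hqx : Q x = 0)
    (hxy : QuadraticMap.polar (⇑Q) x y = 0) (hxw : QuadraticMap.polar (⇑Q) x (w' : ι → F) = 0)
    (hyw : QuadraticMap.polar (⇑Q) y (w' : ι → F) = 0) (huw : QuadraticMap.polar (⇑Q) u (w' : ι → F) = 0)
    {v : R.tail.W1} (hv : eich Q x y *ᵥ u - u = v) : Kills R σ ψ a (w' : ι → F) v := by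
  set g : ↥(gw Q R.top) := ⟨eichIso Q x y hqx hxy, eichIso_mem_gw hx.1.1 hy.1.1 hqx hxy⟩
  have hfix : ∀ z : ι → F, QuadraticMap.polar (⇑Q) x z = 0 → QuadraticMap.polar (⇑Q) y z = 0 →
      eich Q x y *ᵥ z = z := fun z h1 h2 => by simp [eich_mulVec, h1, h2]
  have hperp : ∀ z ∈ R.tail.W1, QuadraticMap.polar (⇑Q) z (R.e 0) = 0 ∧
      QuadraticMap.polar (⇑Q) z (R.f 0) = 0 ∧ QuadraticMap.polar (⇑Q) z (R.tail.e 0) = 0 := fun z hz =>
    ⟨by rw [QuadraticMap.polar_comm]; exact hz.1.2.1, by rw [QuadraticMap.polar_comm]; exact hz.1.2.2,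
      by rw [QuadraticMap.polar_comm]; exact hz.2.1⟩
  obtain ⟨x0, x1, x2⟩ := hperp x hx
  obtain ⟨y0, y1, y2⟩ := hperp y hy
  have hm : eich Q x y *ᵥ u ∈ R.tail.W1 := by
    rw [show eich Q x y *ᵥ u = v + u from eq_add_of_sub_eq hv]
    exact R.tail.W1.add_mem v.2 hu
  have hk := kills_moved R σ ψ w' hr g (hfix _ x0 y0) (hfix _ x1 y1) (hfix _ x2 y2) (hfix _ hxw hyw)
    (u := ⟨u, hu⟩) (v := ⟨_, hm⟩) rfl huw
  rwa [show (⟨_, hm⟩ - ⟨u, hu⟩ : R.tail.W1) = v from Subtype.ext hv] at hk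

/-- A hyperbolic pair perpendicular to the weight and a subspace perpendicular to it. -/
theorem kills_pair {a : F} (w' : R.tail.W1) (hr : rnk (wP ψ R σ (a • R.tail.e 0 + (w' : ι → F))) ≤ 1)
    {x x' : ι → F} (hx : x ∈ R.tail.W1) (hx' : x' ∈ R.tail.W1) (hqx : Q x = 0) (hqx' : Q x' = 0)
    (hxx : QuadraticMap.polar (⇑Q) x x' = 1) (hxw : QuadraticMap.polar (⇑Q) x (w' : ι → F) = 0)
    (hxw' : QuadraticMap.polar (⇑Q) x' (w' : ι → F) = 0) (T : Submodule F (ι → F))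
    (hT : ∀ z ∈ T, z ∈ R.tail.W1 ∧ QuadraticMap.polar (⇑Q) x z = 0 ∧ QuadraticMap.polar (⇑Q) x' z = 0 ∧
      QuadraticMap.polar (⇑Q) z (w' : ι → F) = 0)
    (hpair : ∃ z₁ ∈ T, ∃ z₂ ∈ T, QuadraticMap.polar (⇑Q) z₁ z₂ ≠ 0) (v : R.tail.W1)
    (hv : ∃ s t : F, ∃ z ∈ T, (v : ι → F) = s • x + t • x' + z) : Kills R σ ψ a (w' : ι → F) v := by
  obtain ⟨z₁, hz₁, z₂, hz₂, hne⟩ := hpair
  set β := QuadraticMap.polar (⇑Q) z₁ z₂
  have line : ∀ (p : ι → F) (hp : p ∈ R.tail.W1), Q p = 0 → QuadraticMap.polar (⇑Q) p (w' : ι → F) = 0 →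
      (∀ z ∈ T, QuadraticMap.polar (⇑Q) p z = 0) → ∀ s : F, Kills R σ ψ a (w' : ι → F) (s • ⟨p, hp⟩) := by
    intro p hp hqp hpw hpT s
    refine kills_eich R σ ψ w' hr hp ((R.tail.W1.smul_mem (-s * β⁻¹) (hT z₁ hz₁).1)) (hT z₂ hz₂).1 hqp ?_ hpw ?_
      (hT z₂ hz₂).2.2.2 ?_
    · rw [QuadraticMap.polar_smul_right, hpT z₁ hz₁, smul_zero]
    · rw [QuadraticMap.polar_smul_left, (hT z₁ hz₁).2.2.2, smul_zero]
    · simp only [eich_mulVec, QuadraticMap.polar_smul_left, hpT z₂ hz₂, smul_eq_mul, SetLike.val_smul]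
      show _ = s • p
      match_scalars <;> (field_simp; ring)
  obtain ⟨s, t, z, hz, hv⟩ := hv
  obtain ⟨hzW, hzx, hzx', hzw⟩ := hT z hz
  have hzk : Kills R σ ψ a (w' : ι → F) (⟨z, hzW⟩ - Q z • ⟨x, hx⟩) := by
    refine kills_eich R σ ψ w' hr hx hzW hx' hqx hzx hxw hzw hxw' ?_
    simp only [eich_mulVec, hxx, QuadraticMap.polar_comm (⇑Q) z x', hzx', SetLike.val_smul,
      AddSubgroupClass.coe_sub]
    module
  have hlx := line x hx hqx hxw fun z hz => (hT z hz).2.1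
  have hlx' := line x' hx' hqx' hxw' fun z hz => (hT z hz).2.2.1
  rw [show v = (s + Q z) • ⟨x, hx⟩ + t • ⟨x', hx'⟩ + (⟨z, hzW⟩ - Q z • ⟨x, hx⟩) from Subtype.ext (by
    simp only [Submodule.coe_add, SetLike.val_smul, AddSubgroupClass.coe_sub, hv]; module)]
  exact ((hlx _).add (hlx' _)).add hzk

/-- Weights with both coordinates reduce to those without the first one. -/
theorem trivial_of_cases (h0 : ∀ (a : F) (u : R.tail.W1), a ≠ 0 → Kills R σ ψ a ((0 : R.tail.W1) : ι → F) u)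
    (h1 : ∀ (w' u : R.tail.W1), w' ≠ 0 → QuadraticMap.polar (⇑Q) (u : ι → F) (w' : ι → F) = 0 →
      Kills R σ ψ 0 (w' : ι → F) u) : Trivial R σ ψ := by
  intro a w' u hw hu
  by_cases hw' : w' = 0
  · subst hw'
    exact h0 a u fun h => hw (by simp [h])
  obtain ⟨y, hy⟩ : ∃ y : R.tail.W1, QuadraticMap.polar (⇑Q) (y : ι → F) (w' : ι → F) = -a := by
    obtain ⟨z, hz, hz0⟩ : ∃ z ∈ R.tail.W1, QuadraticMap.polar (⇑Q) z (w' : ι → F) ≠ 0 := by
      by_contra hall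
      push Not at hall
      exact hw' (Subtype.ext (R.tail.sep_W1 w'.2 fun z hz => by rw [QuadraticMap.polar_comm]; exact hall z hz))
    exact ⟨(-a / QuadraticMap.polar (⇑Q) z (w' : ι → F)) • ⟨z, hz⟩, by
      rw [SetLike.val_smul, QuadraticMap.polar_smul_left, smul_eq_mul, div_mul_cancel₀ _ hz0]⟩
  have hmove : σ (rootTwo R y) * wP ψ R σ (w' : ι → F) =
      wP ψ R σ (a • R.tail.e 0 + (w' : ι → F)) * σ (rootTwo R y) := by
    rw [rootTwo_mul_wP]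
    congr 2
    have := rootTwo_mulVec R y 0 0 w'
    simp only [zero_smul, zero_add, add_zero, hy, mul_zero, sub_zero, sub_neg_eq_add] at this
    exact this
  have hcomm : σ (rootTwo R u) * σ (rootTwo R y) = σ (rootTwo R y) * σ (rootTwo R u) := by
    rw [← map_mul σ, ← map_mul σ, ← AddChar.map_add_eq_mul, ← AddChar.map_add_eq_mul, add_comm u y]
  have hk := h1 w' u hw' hu
  simp only [Kills, zero_smul, zero_add] at hk
  have hz : σ (rootTwo R u) * wP ψ R σ (a • R.tail.e 0 + (w' : ι → F)) * σ (rootTwo R y) =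
      wP ψ R σ (a • R.tail.e 0 + (w' : ι → F)) * σ (rootTwo R y) := by
    rw [mul_assoc, ← hmove, ← mul_assoc, hcomm, mul_assoc, hk]
  have := congrArg (· * σ (rootTwo R (-y))) hz
  simpa [mul_assoc, ← map_mul σ, ← AddChar.map_add_eq_mul] using this

end CfsgLib.OrthDeg
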