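import Cfsg.Agent.OrthDeg.Descend

/-!
# Stabilisers acting trivially on one-dimensional weight spaces
-/

set_option autoImplicit false
set_option linter.unusedSectionVars false

namespace CfsgLib.OrthDeg

open Matrix Module CfsgLib.Forms CfsgLib.Spinor CfsgLib.Forms4 CfsgLib.RepBounds

variable {F : Type*} [Field F] [Fintype F] [DecidableEq F] {ι : Type} [Fintype ι] [DecidableEq ι]
  {Q : QuadraticForm F (ι → F)}

noncomputable local instance subFintypeTrivial (S : Submodule F (ι → F)) : Fintype S := Fintype.ofFinite S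

theorem exists_sq_ne_one (hq : 4 ≤ Fintype.card F) : ∃ x : Fˣ, (x : F) * x ≠ 1 := by
  classical
  by_contra h
  push Not at h
  have hsub : (Finset.univ : Finset F) ⊆ {0, 1, -1} := fun a _ => by
    by_cases ha : a = 0
    · simp [ha]
    · rcases mul_self_eq_one_iff.mp (h (Units.mk0 a ha)) with h1 | h1
      · simp [show a = 1 from h1]
      · simp [show a = -1 from h1]
  have := (Finset.card_le_card hsub).trans Finset.card_le_three
  rw [Finset.card_univ] at this
  omega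

theorem smul_of_rnk_one {V : Type*} [AddCommGroup V] [Module ℂ V] [FiniteDimensional ℂ V] {e X : End ℂ V}
    (he : e * e = e) (h1 : rnk e ≤ 1) (hX : X * e = e * X) :
    X * e = LinearMap.trace ℂ V (X * e) • e := by
  rcases Nat.eq_zero_or_pos (rnk e) with h0 | h0
  · simp [eq_zero_of_rnk h0]
  have hr : rnk e = 1 := by omega
  obtain ⟨w, hw0, hw⟩ := finrank_eq_one_iff'.mp hr
  obtain ⟨c, hc⟩ := hw ⟨X (w : V), by
    obtain ⟨v, hv⟩ := w.2
    exact ⟨X v, by rw [← Module.End.mul_apply, ← hX, Module.End.mul_apply, hv]⟩⟩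
  have h2 : X * e = c • e := by
    refine LinearMap.ext fun v => ?_
    obtain ⟨a, ha⟩ := hw ⟨e v, v, rfl⟩
    have ha' : a • (w : V) = e v := congrArg Subtype.val ha
    have hc' : c • (w : V) = X w := congrArg Subtype.val hc
    rw [Module.End.mul_apply, LinearMap.smul_apply, ← ha', map_smul, ← hc', smul_comm]
  rw [h2, map_smul, rnk_trace he, hr]
  simp

variable {n : ℕ} (R : Fr Q (n + 2)) {V : Type*} [AddCommGroup V] [Module ℂ V] [FiniteDimensional ℂ V]
  (σ : Representation ℂ ↥(gw Q R.top) V)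

/-- An element moving `u` to `v` while fixing a weight line makes `v - u` act trivially on it. -/
theorem kill {e : End ℂ V} (he : e * e = e) (h1 : rnk e ≤ 1) {u v : R.tail.W1}
    (hu : σ (rootTwo R u) * e = e * σ (rootTwo R u)) (g : ↥(gw Q R.top)) (hg : σ g * e = e * σ g)
    (hguv : g * rootTwo R u = rootTwo R v * g) : σ (rootTwo R (v - u)) * e = e := by
  set c := LinearMap.trace ℂ V (σ (rootTwo R u) * e)
  have hc : σ (rootTwo R u) * e = c • e := smul_of_rnk_one he h1 hu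
  have hv : σ (rootTwo R v) * e = c • e := by
    have e1 : σ (rootTwo R v) = σ g * σ (rootTwo R u) * σ g⁻¹ := by
      rw [← map_mul σ, ← map_mul σ, hguv, mul_inv_cancel_right]
    have hg' : σ g⁻¹ * e = e * σ g⁻¹ := by
      calc σ g⁻¹ * e = σ g⁻¹ * (e * σ g) * σ g⁻¹ := by
            rw [mul_assoc, mul_assoc e, ← map_mul σ g, mul_inv_cancel, map_one, mul_one]
        _ = e * σ g⁻¹ := by
            rw [← hg, ← mul_assoc, ← map_mul, inv_mul_cancel, map_one, one_mul]
    rw [e1, mul_assoc, hg', ← mul_assoc, mul_assoc (σ g), hc, mul_smul_comm, hg, smul_mul_assoc, mul_assoc,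
      ← map_mul, mul_inv_cancel, map_one, mul_one]
  by_cases hcz : c = 0
  · have h0 : σ (rootTwo R (-u)) * (σ (rootTwo R u) * e) = 0 := by rw [hc, hcz, zero_smul, mul_zero]
    rw [← mul_assoc, ← map_mul, ← AddChar.map_add_eq_mul, neg_add_cancel, AddChar.map_zero_eq_one, map_one,
      one_mul] at h0
    simp [h0]
  · have hinv : σ (rootTwo R (-u)) * e = c⁻¹ • e := by
      have h0 := congrArg (σ (rootTwo R (-u)) * ·) hc
      simp only [← mul_assoc, ← map_mul, ← AddChar.map_add_eq_mul, neg_add_cancel, AddChar.map_zero_eq_one,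
        map_one, one_mul, mul_smul_comm] at h0
      conv_rhs => rw [h0, smul_smul, inv_mul_cancel₀ hcz, one_smul]
    rw [sub_eq_add_neg, AddChar.map_add_eq_mul, map_mul, mul_assoc, hinv, mul_smul_comm, hv, smul_smul,
      inv_mul_cancel₀ hcz, one_smul]

/-- The diagonal matrix `diag (x, x⁻¹)`. -/
noncomputable def diagTwo (x : Fˣ) : Matrix.SpecialLinearGroup (Fin 2) F :=
  ⟨!![(x : F), 0; 0, (x : F)⁻¹], by simp [Matrix.det_fin_two]⟩

theorem coe_diagTwo (x : Fˣ) : (diagTwo x).1 = !![(x : F), 0; 0, (x : F)⁻¹] := rfl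

/-- Torus elements of the two pairs. -/
noncomputable def hEl (P : Pr Q 2) {S : Submodule F (ι → F)} (he : ∀ i, P.e i ∈ S) (hf : ∀ i, P.f i ∈ S)
    (x : Fˣ) : ↥(gw Q S) :=
  levG P he hf (diagTwo x)

theorem hEl_e (P : Pr Q 2) {S : Submodule F (ι → F)} (he : ∀ i, P.e i ∈ S) (hf : ∀ i, P.f i ∈ S)
    (x : Fˣ) : gmat (hEl P he hf x) *ᵥ P.e 0 = (x : F) • P.e 0 ∧
      gmat (hEl P he hf x) *ᵥ P.e 1 = (x : F)⁻¹ • P.e 1 := by
  constructor <;>
    rw [hEl, gmat_levG, lev_mulVec_e, Fin.sum_univ_two, coe_diagTwo] <;> simp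

theorem hEl_f (P : Pr Q 2) {S : Submodule F (ι → F)} (he : ∀ i, P.e i ∈ S) (hf : ∀ i, P.f i ∈ S)
    (x : Fˣ) : gmat (hEl P he hf x) *ᵥ P.f 0 = (x : F)⁻¹ • P.f 0 ∧
      gmat (hEl P he hf x) *ᵥ P.f 1 = (x : F) • P.f 1 := by
  constructor <;>
    rw [hEl, gmat_levG, lev_mulVec_f, Fin.sum_univ_two, Matrix.SpecialLinearGroup.coe_inv, coe_diagTwo,
      Matrix.adjugate_fin_two] <;> simp

/-- Scaling both first vectors. -/
noncomputable def scaleBoth (x : Fˣ) : ↥(gw Q R.top) :=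
  hEl ((twoPairs R).flip {1})
    (fun i => by fin_cases i <;> simp [Pr.flip, twoPairs_e_mem R, twoPairs_f_mem R])
    (fun i => by fin_cases i <;> simp [Pr.flip, twoPairs_e_mem R, twoPairs_f_mem R]) x

theorem scaleBoth_spec (x : Fˣ) : gmat (scaleBoth R x) *ᵥ R.e 0 = (x : F) • R.e 0 ∧
    gmat (scaleBoth R x) *ᵥ R.tail.e 0 = (x : F) • R.tail.e 0 ∧
    ∀ u ∈ R.tail.W1, gmat (scaleBoth R x) *ᵥ u = u := by
  refine ⟨?_, ?_, fun u hu => ?_⟩
  · simpa [scaleBoth, Pr.flip, twoPairs] using (hEl_e ((twoPairs R).flip {1})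
      (S := R.top) (fun i => by fin_cases i <;> simp [Pr.flip, twoPairs_e_mem R, twoPairs_f_mem R])
      (fun i => by fin_cases i <;> simp [Pr.flip, twoPairs_e_mem R, twoPairs_f_mem R]) x).1
  · simpa [scaleBoth, Pr.flip, twoPairs] using (hEl_f ((twoPairs R).flip {1})
      (S := R.top) (fun i => by fin_cases i <;> simp [Pr.flip, twoPairs_e_mem R, twoPairs_f_mem R])
      (fun i => by fin_cases i <;> simp [Pr.flip, twoPairs_e_mem R, twoPairs_f_mem R]) x).2
  · rw [scaleBoth, hEl, gmat_levG]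
    refine lev_mulVec_perp _ _ (fun i => ?_) (fun i => ?_) <;> simp only [Pr.flip] <;> split_ifs
    · exact (twoPairs_perp R hu).2 i
    · exact (twoPairs_perp R hu).1 i
    · exact (twoPairs_perp R hu).1 i
    · exact (twoPairs_perp R hu).2 i

theorem scaleTwo_spec (x : Fˣ) :
    let g := (scaleBoth R x) * (hEl (twoPairs R) (twoPairs_e_mem R) (twoPairs_f_mem R) x⁻¹ : ↥(gw Q R.top))
    gmat g *ᵥ R.e 0 = R.e 0 ∧ gmat g *ᵥ R.tail.e 0 = ((x : F) * x) • R.tail.e 0 ∧
      ∀ u ∈ R.tail.W1, gmat g *ᵥ u = u := by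
  intro g
  obtain ⟨h1, h2, h3⟩ := scaleBoth_spec R x
  have k := hEl_e (twoPairs R) (twoPairs_e_mem R) (twoPairs_f_mem R) x⁻¹
  refine ⟨?_, ?_, fun u hu => ?_⟩
  · rw [gmat_mul, ← Matrix.mulVec_mulVec, show R.e 0 = (twoPairs R).e 0 from rfl, k.1, Matrix.mulVec_smul,
      show (twoPairs R).e 0 = R.e 0 from rfl, h1, smul_smul]
    simp
  · rw [gmat_mul, ← Matrix.mulVec_mulVec, show R.tail.e 0 = (twoPairs R).e 1 from rfl, k.2, Matrix.mulVec_smul,
      show (twoPairs R).e 1 = R.tail.e 0 from rfl, h2, smul_smul]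
    simp
  · rw [gmat_mul, ← Matrix.mulVec_mulVec, hEl, gmat_levG,
      lev_mulVec_perp _ _ (twoPairs_perp R hu).1 (twoPairs_perp R hu).2, h3 u hu]

variable {ψ : AddChar F ℂ}

theorem rootTwo_comm (a : F) (w' u : R.tail.W1) (h : QuadraticMap.polar (⇑Q) (u : ι → F) (w' : ι → F) = 0) :
    σ (rootTwo R u) * wP ψ R σ (a • R.tail.e 0 + (w' : ι → F)) =
      wP ψ R σ (a • R.tail.e 0 + (w' : ι → F)) * σ (rootTwo R u) := by
  rw [rootTwo_mul_wP]
  congr 2
  have := rootTwo_mulVec R u a 0 w'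
  simp only [zero_smul, add_zero, h, mul_zero, sub_zero] at this
  exact this

theorem mul_eq_of_scale (hq : 4 ≤ Fintype.card F) {e : End ℂ V}
    (he : e * e = e) (h1 : rnk e ≤ 1) (g : ↥(gw Q R.top)) (hg : σ g * e = e * σ g) (γ : F) (hγ : γ ≠ 1)
    (hge : gmat g *ᵥ R.tail.e 0 = γ • R.tail.e 0) (hgu : ∀ u ∈ R.tail.W1, gmat g *ᵥ u = u) (u : R.tail.W1)
    (hu : ∀ c : F, σ (rootTwo R (c • u)) * e = e * σ (rootTwo R (c • u))) :
    σ (rootTwo R u) * e = e := by
  have hguv : g * rootTwo R ((γ - 1)⁻¹ • u) = rootTwo R (γ • (γ - 1)⁻¹ • u) * g := by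
    refine Subtype.ext (mat_ext Q ?_)
    show gmat g * eich Q (R.tail.e 0) (((γ - 1)⁻¹ • u : R.tail.W1) : ι → F) =
      eich Q (R.tail.e 0) ((γ • (γ - 1)⁻¹ • u : R.tail.W1) : ι → F) * gmat g
    rw [show ((γ • (γ - 1)⁻¹ • u : R.tail.W1) : ι → F) = γ • (((γ - 1)⁻¹ • u : R.tail.W1) : ι → F) from rfl,
      ← eich_smul_left, ← hge]
    conv_rhs => rw [← hgu _ ((γ - 1)⁻¹ • u : R.tail.W1).2]
    exact conj_eich _ _ _
  have h := kill R σ he h1 (hu _) g hg hguv
  rwa [show γ • (γ - 1)⁻¹ • u - (γ - 1)⁻¹ • u = (γ - 1) • (γ - 1)⁻¹ • u from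
      (by module),
    smul_smul, mul_inv_cancel₀ (sub_ne_zero.2 hγ), one_smul] at h

/-- More than three field elements: the torus makes the stabilisers trivial. -/
theorem trivial_of_four_le (hq : 4 ≤ Fintype.card F)
    (h1 : ∀ w : R.W1, w ≠ 0 → rnk (wP ψ R σ (w : ι → F)) ≤ 1) : Trivial R σ ψ := by
  obtain ⟨x, hx⟩ := exists_sq_ne_one hq
  intro a w' u hw hu
  have hmem : ∀ (a : F) (w' : R.tail.W1), a • R.tail.e 0 + (w' : ι → F) ∈ R.W1 := fun a w' =>
    R.W1.add_mem (R.W1.smul_mem _ (R.tail.e_mem 0)) (tail_W1_le R w'.2)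
  by_cases hw' : w' = 0
  · subst hw'
    obtain ⟨h2, h3, h4⟩ := scaleBoth_spec R x
    have hr := h1 ⟨_, hmem a 0⟩ fun h => hw (congrArg Subtype.val h)
    simp only [ZeroMemClass.coe_zero, add_zero] at hr hw ⊢
    have hg : σ (scaleBoth R x) * wP ψ R σ (a • R.tail.e 0) = wP ψ R σ (a • R.tail.e 0) * σ (scaleBoth R x) := by
      by_cases hW : ∀ z ∈ R.W1, gmat (scaleBoth R x) *ᵥ z ∈ R.W1
      · rw [conj_wP R σ _ (Units.ne_zero x) h2 hW, Matrix.mulVec_smul, h3, smul_comm a, smul_smul,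
          inv_mul_cancel₀ (Units.ne_zero x), one_smul]
      · refine absurd (fun z hz => ?_) hW
        obtain ⟨-, -, hfix⟩ := scaleBoth_spec R x⁻¹
        refine ⟨(gw_spec (scaleBoth R x).2).1 z hz.1, ?_, ?_⟩
        · have := polar_mulVec Q (scaleBoth R x).1 (R.e 0) z
          rw [show mat Q (scaleBoth R x).1 *ᵥ R.e 0 = (x : F) • R.e 0 from h2, hz.2.1,
            QuadraticMap.polar_smul_left, smul_eq_mul, mul_eq_zero] at this
          exact this.resolve_left (Units.ne_zero x)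
        · have hf : gmat (scaleBoth R x) *ᵥ R.f 0 = (x : F)⁻¹ • R.f 0 := by
            simpa [scaleBoth, Pr.flip, twoPairs] using (hEl_f ((twoPairs R).flip {1})
              (S := R.top) (fun i => by fin_cases i <;> simp [Pr.flip, twoPairs_e_mem R, twoPairs_f_mem R])
              (fun i => by fin_cases i <;> simp [Pr.flip, twoPairs_e_mem R, twoPairs_f_mem R]) x).1
          have := polar_mulVec Q (scaleBoth R x).1 (R.f 0) z
          rw [show mat Q (scaleBoth R x).1 *ᵥ R.f 0 = (x : F)⁻¹ • R.f 0 from hf, hz.2.2,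
            QuadraticMap.polar_smul_left, smul_eq_mul, mul_eq_zero] at this
          exact this.resolve_left (inv_ne_zero (Units.ne_zero x))
    exact mul_eq_of_scale R σ hq (wP_idem R σ _) hr _ hg (x : F) (fun h => hx (by rw [h, mul_one])) h3 h4 u
      (fun c => by simpa using rootTwo_comm R σ (ψ := ψ) a 0 (c • u) (by simp))
  · have h0 : ∀ u : R.tail.W1, QuadraticMap.polar (⇑Q) (u : ι → F) (w' : ι → F) = 0 →
        σ (rootTwo R u) * wP ψ R σ (w' : ι → F) = wP ψ R σ (w' : ι → F) := by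
      intro u hu
      have hr := h1 ⟨_, tail_W1_le R w'.2⟩ fun h => hw' (Subtype.ext (congrArg Subtype.val h :))
      set g := (scaleBoth R x) * (hEl (twoPairs R) (twoPairs_e_mem R) (twoPairs_f_mem R) x⁻¹ : ↥(gw Q R.top))
      obtain ⟨h2, h3, h4⟩ := scaleTwo_spec R x
      have hW : ∀ z ∈ R.W1, gmat g *ᵥ z ∈ R.W1 := fun z hz => by
        refine ⟨(gw_spec g.2).1 z hz.1, ?_, ?_⟩
        · have := polar_mulVec Q g.1 (R.e 0) z
          rw [show mat Q g.1 *ᵥ R.e 0 = R.e 0 from h2, hz.2.1] at this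
          exact this
        · have hf : gmat g *ᵥ R.f 0 = R.f 0 := by
            have h5 : gmat (scaleBoth R x) *ᵥ R.f 0 = (x : F)⁻¹ • R.f 0 := by
              simpa [scaleBoth, Pr.flip, twoPairs] using (hEl_f ((twoPairs R).flip {1})
                (S := R.top) (fun i => by fin_cases i <;> simp [Pr.flip, twoPairs_e_mem R, twoPairs_f_mem R])
                (fun i => by fin_cases i <;> simp [Pr.flip, twoPairs_e_mem R, twoPairs_f_mem R]) x).1
            rw [gmat_mul, ← Matrix.mulVec_mulVec, show R.f 0 = (twoPairs R).f 0 from rfl,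
              (hEl_f (twoPairs R) (twoPairs_e_mem R) (twoPairs_f_mem R) x⁻¹).1, Matrix.mulVec_smul,
              show (twoPairs R).f 0 = R.f 0 from rfl, h5, smul_smul]
            simp
          have := polar_mulVec Q g.1 (R.f 0) z
          rw [show mat Q g.1 *ᵥ R.f 0 = R.f 0 from hf, hz.2.2] at this
          exact this
      have hg : σ g * wP ψ R σ (w' : ι → F) = wP ψ R σ (w' : ι → F) * σ g := by
        rw [conj_wP R σ g one_ne_zero (by rw [h2, one_smul]) hW, inv_one, one_smul, h4 _ w'.2]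
      exact mul_eq_of_scale R σ hq (wP_idem R σ _) hr g hg _ hx h3 h4 u (fun c => by
        simpa using rootTwo_comm R σ (ψ := ψ) 0 w' (c • u) (by
          rw [SetLike.val_smul, QuadraticMap.polar_smul_left, hu, smul_zero]))
    obtain ⟨y, hy⟩ : ∃ y : R.tail.W1, QuadraticMap.polar (⇑Q) (y : ι → F) (w' : ι → F) = -a := by
      obtain ⟨z, hz, hz0⟩ : ∃ z ∈ R.tail.W1, QuadraticMap.polar (⇑Q) z (w' : ι → F) ≠ 0 := by
        by_contra hall
        push Not at hall
        exact hw' (Subtype.ext (R.tail.sep_W1 w'.2 fun z hz => by rw [QuadraticMap.polar_comm]; exact hall z hz))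
      exact ⟨(-a / QuadraticMap.polar (⇑Q) z (w' : ι → F)) • ⟨z, hz⟩, by
        rw [SetLike.val_smul, QuadraticMap.polar_smul_left, smul_eq_mul, div_mul_cancel₀ _ hz0]⟩
    have hmove : σ (rootTwo R y) * wP ψ R σ (w' : ι → F) =
        wP ψ R σ (a • R.tail.e 0 + (w' : ι → F)) * σ (rootTwo R y) := by
      rw [rootTwo_mul_wP]
      congr 2
      have := rootTwo_mulVec R y 0 0 w'
      simp only [zero_smul, zero_add, add_zero, hy, mul_zero, sub_zero, sub_neg_eq_add] at this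
      exact this
    have hcomm : σ (rootTwo R u) * σ (rootTwo R y) = σ (rootTwo R y) * σ (rootTwo R u) := by
      rw [← map_mul σ, ← map_mul σ, ← AddChar.map_add_eq_mul, ← AddChar.map_add_eq_mul, add_comm u y]
    have hz : σ (rootTwo R u) * wP ψ R σ (a • R.tail.e 0 + (w' : ι → F)) * σ (rootTwo R y) =
        wP ψ R σ (a • R.tail.e 0 + (w' : ι → F)) * σ (rootTwo R y) := by
      rw [mul_assoc, ← hmove, ← mul_assoc, hcomm, mul_assoc, h0 u hu]
    have := congrArg (· * σ (rootTwo R (-y))) hz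
    simpa [mul_assoc, ← map_mul σ, ← AddChar.map_add_eq_mul] using this

end CfsgLib.OrthDeg
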