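import Cfsg.Agent.OrthDeg.Frame
import Cfsg.Agent.RepBounds.Proj
import Cfsg.Agent.RepBounds.FieldChar

/-!
# Weights of the root subgroup of the first pair and their descent to the next level
-/

set_option autoImplicit false
set_option linter.unusedSectionVars false

namespace CfsgLib.OrthDeg

open Matrix Module CfsgLib.Forms CfsgLib.Spinor CfsgLib.Forms4 CfsgLib.RepBounds

variable {F : Type*} [Field F] [Fintype F] [DecidableEq F] {ι : Type} [Fintype ι] [DecidableEq ι]
  {Q : QuadraticForm F (ι → F)}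

noncomputable local instance subFintypeWeights (S : Submodule F (ι → F)) : Fintype S := Fintype.ofFinite S

/-- The number of vectors of `S` of value `c`. -/
noncomputable def cnt (Q : QuadraticForm F (ι → F)) (S : Submodule F (ι → F)) (c : F) : ℕ :=
  (Finset.univ.filter fun x : S => Q (x : ι → F) = c).card

theorem sum_ite_eq_one (a : F) : ∑ x : F, (if x = a then 1 else 0 : ℕ) = 1 := by simp

theorem cnt_top {n : ℕ} (R : Fr Q (n + 1)) (c : F) :
    cnt Q R.top c = Fintype.card F * cnt Q R.W1 c + (Fintype.card F - 1) * Fintype.card R.W1 := by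
  classical
  have h : cnt Q R.top c =
      ∑ p : F × F × R.W1, if p.1 * p.2.1 + Q (p.2.2 : ι → F) = c then 1 else 0 := by
    rw [cnt, Finset.card_filter, ← R.coordEquiv.sum_comp]
    refine Finset.sum_congr rfl fun p _ => ?_
    rw [R.coordEquiv_apply, R.quad_comb _ _ p.2.2.2]
  have h1 : ∀ z : R.W1, ∑ b : F, ∑ a : F, (if a * b + Q (z : ι → F) = c then 1 else 0 : ℕ) =
      (if Q (z : ι → F) = c then Fintype.card F else 0) + (Fintype.card F - 1) := by
    intro z
    rw [← Finset.add_sum_erase _ _ (Finset.mem_univ (0 : F))]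
    congr 1
    · simp only [mul_zero, zero_add]
      split_ifs <;> simp
    · rw [Finset.sum_congr rfl fun b hb => (Finset.sum_congr rfl fun a _ =>
        (if_congr (eq_div_iff (Finset.ne_of_mem_erase hb) |>.trans eq_sub_iff_add_eq).symm rfl rfl :
          _ = if a = (c - Q (z : ι → F)) / b then 1 else 0)).trans (sum_ite_eq_one _),
        Finset.sum_const, Finset.card_erase_of_mem (Finset.mem_univ _), Finset.card_univ, smul_eq_mul, mul_one]
  rw [h, Fintype.sum_prod_type, Finset.sum_congr rfl fun a _ => Fintype.sum_prod_type _,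
    Finset.sum_congr rfl fun a _ => Finset.sum_comm, Finset.sum_comm,
    Finset.sum_congr rfl fun z _ => (Finset.sum_comm).trans (h1 z), Finset.sum_add_distrib, Finset.sum_const,
    Finset.card_univ, smul_eq_mul, mul_comm (Fintype.card R.W1), cnt, ← Finset.sum_filter, Finset.sum_const,
    smul_eq_mul, mul_comm (Fintype.card F)]

theorem card_top {n : ℕ} (R : Fr Q (n + 1)) :
    Fintype.card R.top = Fintype.card F * (Fintype.card F * Fintype.card R.W1) := by
  rw [← Fintype.card_congr R.coordEquiv, Fintype.card_prod, Fintype.card_prod]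

/-! ### Characters -/

variable {n : ℕ} (ψ : AddChar F ℂ)

/-- The character attached to a vector. -/
noncomputable def col (Q : QuadraticForm F (ι → F)) (S : Submodule F (ι → F)) (w : ι → F) : AddChar S ℂ :=
  ψ.compAddMonoidHom
    (((QuadraticMap.polarBilin Q).flip w).toAddMonoidHom.comp S.subtype.toAddMonoidHom)

theorem col_apply (S : Submodule F (ι → F)) (w : ι → F) (u : S) :
    col ψ Q S w u = ψ (QuadraticMap.polar (⇑Q) (u : ι → F) w) := rfl

variable {ψ}

theorem col_bijective (hψ : ψ.IsPrimitive) {S : Submodule F (ι → F)}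
    (hsep : ∀ x ∈ S, (∀ y ∈ S, QuadraticMap.polar (⇑Q) x y = 0) → x = 0) :
    Function.Bijective fun w : S => col ψ Q S (w : ι → F) := by
  refine (Fintype.bijective_iff_injective_and_card _).mpr ⟨fun a b h => ?_, (AddChar.card_eq (α := S)).symm⟩
  refine sub_eq_zero.1 (Subtype.ext ?_)
  refine hsep _ (a - b).2 fun y hy => ?_
  by_contra hne
  obtain ⟨x, hx⟩ : ∃ x, ψ x ≠ 1 := by
    by_contra h1
    push Not at h1
    exact hψ (one_ne_zero (α := F)) (by ext x; simp [AddChar.mulShift_apply, h1])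
  set c := x / QuadraticMap.polar (⇑Q) (((a - b : S) : ι → F)) y
  have h1 := DFunLike.congr_fun h (c • (⟨y, hy⟩ : S))
  simp only [col_apply, SetLike.val_smul, QuadraticMap.polar_smul_left] at h1
  have hd : c • QuadraticMap.polar (⇑Q) y (((a - b : S) : ι → F)) = x := by
    rw [QuadraticMap.polar_comm, smul_eq_mul, div_mul_cancel₀ _ hne]
  have h2 : ψ (c • QuadraticMap.polar (⇑Q) y (a : ι → F) - c • QuadraticMap.polar (⇑Q) y (b : ι → F)) = 1 := by
    rw [sub_eq_add_neg, AddChar.map_add_eq_mul, h1, ← AddChar.map_add_eq_mul, add_neg_cancel,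
      AddChar.map_zero_eq_one]
  rw [← smul_sub, ← QuadraticMap.polar_sub_right] at h2
  exact hx (by rw [← hd]; simpa using h2)

theorem col_eq_zero_iff (hψ : ψ.IsPrimitive) {S : Submodule F (ι → F)}
    (hsep : ∀ x ∈ S, (∀ y ∈ S, QuadraticMap.polar (⇑Q) x y = 0) → x = 0) (w : S) :
    col ψ Q S (w : ι → F) = 0 ↔ w = 0 := by
  have h0 : col ψ Q S ((0 : S) : ι → F) = 0 := DFunLike.ext _ _ fun u => by
    simp [col_apply]
  exact ⟨fun h => (col_bijective hψ hsep).1 (h.trans h0.symm), fun h => by rw [h, h0]⟩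

theorem sum_col (hψ : ψ.IsPrimitive) {S : Submodule F (ι → F)}
    (hsep : ∀ x ∈ S, (∀ y ∈ S, QuadraticMap.polar (⇑Q) x y = 0) → x = 0) (w : S) :
    ∑ u : S, ψ (QuadraticMap.polar (⇑Q) (u : ι → F) (w : ι → F)) =
      if w = 0 then (Fintype.card S : ℂ) else 0 := by
  classical
  calc ∑ u : S, ψ (QuadraticMap.polar (⇑Q) (u : ι → F) (w : ι → F))
      = ∑ u : S, col ψ Q S (w : ι → F) u := rfl
    _ = _ := by
      rw [AddChar.sum_eq_ite]
      exact if_congr (col_eq_zero_iff hψ hsep w) rfl rfl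

theorem sum_mul_char (hψ : ψ.IsPrimitive) (b : F) :
    ∑ t : F, ψ (t * b) = if b = 0 then (Fintype.card F : ℂ) else 0 := by
  classical
  have h := AddChar.sum_eq_ite (AddChar.mulShift ψ b)
  simp only [AddChar.mulShift_apply, mul_comm b] at h
  rw [h]
  refine if_congr ?_ rfl rfl
  exact ⟨fun h0 => by
    by_contra hb
    exact hψ hb (h0.trans AddChar.one_eq_zero.symm),
    fun hb => by rw [hb, AddChar.mulShift_zero, AddChar.one_eq_zero]⟩

/-! ### Projectors -/

variable {V : Type*} [AddCommGroup V] [Module ℂ V] [FiniteDimensional ℂ V]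

variable (ψ) in
/-- The projector on a weight of the first root subgroup. -/
noncomputable def wP (R : Fr Q (n + 1)) (σ : Representation ℂ ↥(gw Q R.top) V) (w : ι → F) : End ℂ V :=
  proj (resChar σ (rootE R)) (col ψ Q R.W1 w)

variable (R : Fr Q (n + 1)) (σ : Representation ℂ ↥(gw Q R.top) V)

theorem wP_idem (w : ι → F) : wP ψ R σ w * wP ψ R σ w = wP ψ R σ w := proj_mul_proj _ _

theorem rootE_mul_wP (u : R.W1) (w : ι → F) :
    σ (rootE R u) * wP ψ R σ w = ψ (QuadraticMap.polar (⇑Q) (u : ι → F) w) • wP ψ R σ w :=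
  map_mul_proj (resChar σ (rootE R)) (col ψ Q R.W1 w) u

theorem wP_orth (hψ : ψ.IsPrimitive) {w w' : R.W1} (h : w ≠ w') :
    wP ψ R σ (w : ι → F) * wP ψ R σ (w' : ι → F) = 0 :=
  proj_orth _ fun he => h ((col_bijective hψ fun _ hx h => R.sep_W1 hx h).1 he)

theorem sum_wP (hψ : ψ.IsPrimitive) : ∑ w : R.W1, wP ψ R σ (w : ι → F) = 1 := by
  rw [← sum_proj (resChar σ (rootE R))]
  exact Fintype.sum_bijective _ (col_bijective hψ fun _ hx h => R.sep_W1 hx h) _ _ fun _ => rfl

theorem finrank_eq_sum (hψ : ψ.IsPrimitive) : finrank ℂ V = ∑ w : R.W1, rnk (wP ψ R σ (w : ι → F)) := by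
  rw [rnk_sum Finset.univ _ 1 (fun w _ => wP_idem R σ _) (one_mul 1) (sum_wP R σ hψ), rnk,
    Module.End.one_eq_id, LinearMap.range_id, finrank_top]

theorem trace_rootE (hψ : ψ.IsPrimitive) (u : R.W1) :
    LinearMap.trace ℂ V (σ (rootE R u)) = ∑ w : R.W1,
      ψ (QuadraticMap.polar (⇑Q) (u : ι → F) (w : ι → F)) * (rnk (wP ψ R σ (w : ι → F)) : ℂ) := by
  rw [← mul_one (σ (rootE R u)), ← sum_wP R σ hψ, Finset.mul_sum, map_sum]
  exact Finset.sum_congr rfl fun w _ => by
    rw [rootE_mul_wP, map_smul, rnk_trace (wP_idem R σ _), smul_eq_mul]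

/-- An element scaling `e₀` and preserving `W1` permutes the weights. -/
theorem conj_wP (g : ↥(gw Q R.top)) {t : F} (ht : t ≠ 0) (he : gmat g *ᵥ R.e 0 = t • R.e 0)
    (hW : ∀ x ∈ R.W1, gmat g *ᵥ x ∈ R.W1) (w : ι → F) :
    σ g * wP ψ R σ w = wP ψ R σ (t⁻¹ • (gmat g *ᵥ w)) * σ g := by
  let f : R.W1 →+ R.W1 := AddMonoidHom.mk' (fun u => ⟨t • (gmat g *ᵥ (u : ι → F)), R.W1.smul_mem _ (hW _ u.2)⟩)
    fun a b => Subtype.ext (by simp [Matrix.mulVec_add, smul_add])
  have hinj : Function.Injective f := fun a b h => by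
    have h1 : gmat g *ᵥ (a : ι → F) = gmat g *ᵥ (b : ι → F) :=
      smul_right_injective _ ht (congrArg Subtype.val h)
    exact Subtype.ext (by rw [← gmat_inv_mulVec h1, gmat_inv_mulVec (rfl : gmat g *ᵥ (b : ι → F) = _)])
  let s : R.W1 ≃+ R.W1 := AddEquiv.ofBijective f (Finite.injective_iff_bijective.mp hinj)
  have hconj : ∀ u : R.W1, g * rootE R u = rootE R (s u) * g := fun u => by
    refine Subtype.ext (mat_ext Q ?_)
    show gmat g * eich Q (R.e 0) (u : ι → F) = eich Q (R.e 0) (t • (gmat g *ᵥ (u : ι → F))) * gmat g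
    rw [← eich_smul_left, ← he]
    exact conj_eich _ _ _
  rw [wP, conj_proj (resChar σ (rootE R)) _ (σ g) s
    (fun u => by rw [resChar_apply, resChar_apply, ← map_mul σ, ← map_mul σ, hconj]), wP]
  congr 2
  refine DFunLike.ext _ _ fun u => ?_
  obtain ⟨v, rfl⟩ := s.surjective u
  simp only [AddChar.compAddMonoidHom_apply, AddEquiv.coe_toAddMonoidHom, AddEquiv.symm_apply_apply, col_apply]
  congr 1
  show _ = QuadraticMap.polar (⇑Q) (t • (gmat g *ᵥ (v : ι → F))) (t⁻¹ • (gmat g *ᵥ w))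
  rw [QuadraticMap.polar_smul_left, QuadraticMap.polar_smul_right, polar_mulVec, smul_smul,
    mul_inv_cancel₀ ht, one_smul]

theorem rnk_conj_eq {e f : End ℂ V} (g : ↥(gw Q R.top)) (he : e * e = e) (h : σ g * e = f * σ g) :
    rnk f = rnk e := by
  have h1 : σ g * e * σ g⁻¹ = f := by rw [h, mul_assoc, ← map_mul, mul_inv_cancel, map_one, mul_one]
  rw [← h1, rnk_conj _ _ (by rw [← map_mul, inv_mul_cancel, map_one]) he]

end CfsgLib.OrthDeg
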